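import Groth.Agent.DescSh.BCGerm

/-!
Base change morphisms of sheaves of sets are local for the étale topology on source and base.
-/

set_option autoImplicit false
set_option linter.style.haveILetI false
set_option backward.isDefEq.respectTransparency.types false

universe u

open CategoryTheory CategoryTheory.Limits AlgebraicGeometry Opposite
open Groth.Agent.EtaleSite

namespace Groth.Agent.DescSh.BCLocal

theorem eqAt_of_eq {X : Scheme.{u}} (F : EtDesc.Sh X) {U : X.Etale} {s t : F.obj.obj (op U)} (h : s = t)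
    (u : U.left) : EqAt F s t u :=
  ⟨U, 𝟙 U, u, rfl, congrArg (F.obj.map (𝟙 U).op) h⟩

section Gen

variable {X S Y T : Scheme.{u}} (f : X ⟶ S) (g : T ⟶ S) (h : Y ⟶ X) (e : Y ⟶ T) (w : e ≫ g = h ≫ f)
  {F : EtDesc.Sh T} {N : X.Etale} {W : S.Etale} (k : N.left ⟶ W.left) (hk : k ≫ W.hom = N.hom ≫ f)

include w hk in
theorem imgMap_eq :
    (pullback.fst N.hom h ≫ k) ≫ W.hom = (pullback.snd N.hom h ≫ e) ≫ g := by
  rw [Category.assoc, hk, Category.assoc, w, ← Category.assoc, pullback.condition, Category.assoc]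

/-- The morphism of schemes under `img`. -/
noncomputable def imgMap : ((EtCoh.bc h).obj N).left ⟶ ((EtCoh.bc g).obj W).left :=
  pullback.lift (pullback.fst N.hom h ≫ k) (pullback.snd N.hom h ≫ e) (imgMap_eq f g h e w k hk)

theorem imgMap_fst : imgMap f g h e w k hk ≫ pullback.fst W.hom g = pullback.fst N.hom h ≫ k :=
  pullback.lift_fst _ _ _

theorem imgMap_snd : imgMap f g h e w k hk ≫ pullback.snd W.hom g = pullback.snd N.hom h ≫ e :=
  pullback.lift_snd _ _ _

theorem img_left : ((EtCoh.bc h).map (BCGerm.toBc f k hk) ≫ sqHom f g e h w W).left ≫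
    pullback.fst ((EtCoh.bc g).obj W).hom e = imgMap f g h e w k hk := by
  refine pullback.hom_ext ?_ ?_
  · refine (Category.assoc _ _ _).trans ((Category.assoc _ _ _).trans ?_)
    refine (congrArg (_ ≫ ·) (sqHom_fst f g e h w W)).trans ?_
    refine ((Category.assoc _ _ _).symm.trans ((congrArg (· ≫ pullback.fst W.hom f)
      (EtCoh.isPullback_bc_map h (BCGerm.toBc f k hk)).w).trans ((Category.assoc _ _ _).trans
        (congrArg (_ ≫ ·) (pullback.lift_fst _ _ _))))).trans ?_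
    exact (imgMap_fst f g h e w k hk).symm
  · refine (Category.assoc _ _ _).trans ((congrArg (_ ≫ ·) pullback.condition).trans ?_)
    refine ((Category.assoc _ _ _).symm.trans (congrArg (· ≫ e)
      (MorphismProperty.Over.w ((EtCoh.bc h).map (BCGerm.toBc f k hk) ≫ sqHom f g e h w W)))).trans ?_
    exact (imgMap_snd f g h e w k hk).symm

theorem germ_img' (s : F.obj.obj (op ((EtCoh.bc g).obj W))) {Ω : Type u} [Field Ω] [IsSepClosed Ω]
    {ξ : Spec (CommRingCat.of Ω) ⟶ Y} (x : (Scheme.pointSmallEtale ξ).fiber.obj ((EtCoh.bc h).obj N))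
    (n : Spec (CommRingCat.of Ω) ⟶ T) (hn : ξ ≫ e = n)
    (P : (Scheme.pointSmallEtale n).fiber.obj ((EtCoh.bc g).obj W))
    (hP : P.left ≫ pullback.fst W.hom g = x.left ≫ pullback.fst N.hom h ≫ k) :
    SetStalk.germ ξ _ _ x (BCGerm.img f g h e w k hk s) = pullAt e ξ n hn F (SetStalk.germ n F _ P s) := by
  subst hn
  rw [BCGerm.germ_img]
  refine congrArg (fun z => pullAt e ξ _ rfl F (SetStalk.germ (ξ ≫ e) F _ z s))
    (Over.OverMorphism.ext (pullback.hom_ext ((pullback.lift_fst _ _ _).trans hP.symm) ?_))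
  exact (pullback.lift_snd _ _ _).trans (Over.w P).symm

theorem eqAt_img_iff (s t : F.obj.obj (op ((EtCoh.bc g).obj W))) (z : ((EtCoh.bc h).obj N).left) :
    EqAt ((EtDesc.pullSh e).obj F) (BCGerm.img f g h e w k hk s) (BCGerm.img f g h e w k hk t) z ↔
      EqAt F s t ((imgMap f g h e w k hk) z) := by
  obtain ⟨L, _, _, ξ, x, rfl⟩ := exists_algPoint z
  have hx : (BCGerm.imgPt f g h e w k hk x).left = x.left ≫ imgMap f g h e w k hk :=
    pullback.hom_ext ((pullback.lift_fst _ _ _).trans ((congrArg (x.left ≫ ·) (imgMap_fst f g h e w k hk).symm).trans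
        (Category.assoc _ _ _).symm))
      ((pullback.lift_snd _ _ _).trans ((congrArg (· ≫ e) (Over.w x).symm).trans
        ((Category.assoc _ _ _).trans ((congrArg (x.left ≫ ·) (imgMap_snd f g h e w k hk).symm).trans
          (Category.assoc _ _ _).symm))))
  rw [eqAt_iff_germ ((EtDesc.pullSh e).obj F) _ _ x rfl, BCGerm.germ_img, BCGerm.germ_img]
  exact (pullAt_bijective e ξ _ rfl F).1.eq_iff.trans
    (eqAt_iff_germ F s t (BCGerm.imgPt f g h e w k hk x)
      (congrArg (fun m : Spec (CommRingCat.of L) ⟶ _ => m default) hx)).symm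

end Gen

/-- Sections of an inverse image along an étale morphism. -/
theorem bijective_secUp_restr {T' T : Scheme.{u}} (t : T' ⟶ T) [Etale t] (F : EtDesc.Sh T) {A : T'.Etale}
    {B : T.Etale} (j : A ⟶ (EtCoh.bc t).obj B) (hj : IsIso (j.left ≫ pullback.fst B.hom t)) :
    Function.Bijective fun s => ((EtDesc.pullSh t).obj F).obj.map j.op (secUp t F s) := by
  let e := OpenSh.pullShIsoRestr t
  have hu : (EtDesc.adjSh t).unit.app F ≫ (EtDesc.pushSh t).map (e.hom.app F) =
      (OpenSh.restrPushAdj t).unit.app F :=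
    Adjunction.unit_leftAdjointUniq_hom_app _ _ F
  let κ : (EtShriek.compEtale t).obj A ⟶ B :=
    (EtShriek.compEtale t).map j ≫ (compEtaleBcAdj t).counit.app B
  have hκ : ∀ s, (e.hom.app F).hom.app (op A) (((EtDesc.pullSh t).obj F).obj.map j.op (secUp t F s)) =
      F.obj.map κ.op s := by
    intro s
    refine (NatTrans.naturality_apply (e.hom.app F).hom j.op (secUp t F s)).trans ?_
    refine (congrArg _ (congrArg (fun k => k.hom.app (op B) s) hu)).trans ?_
    change F.obj.map ((EtShriek.compEtale t).map j).op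
      (F.obj.map ((compEtaleBcAdj t).counit.app B).op s) = _
    rw [← map_comp_op]
  have hκl : κ.left = j.left ≫ pullback.fst B.hom t := rfl
  haveI : IsIso κ.left := hκl ▸ hj
  let κi : B ⟶ (EtShriek.compEtale t).obj A :=
    MorphismProperty.Over.homMk (inv κ.left) ((IsIso.inv_comp_eq _).2 (MorphismProperty.Over.w κ).symm) trivial
  let κe : (EtShriek.compEtale t).obj A ≅ B :=
    { hom := κ
      inv := κi
      hom_inv_id := MorphismProperty.Over.Hom.ext (IsIso.hom_inv_id κ.left)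
      inv_hom_id := MorphismProperty.Over.Hom.ext (IsIso.inv_hom_id κ.left) }
  have hb : Function.Bijective ((e.hom.app F).hom.app (op A)) := by
    haveI := isIso_app_of_isIso (e.hom.app F) (op A)
    exact (asIso ((e.hom.app F).hom.app (op A))).toEquiv.bijective
  refine (Function.Bijective.of_comp_iff' hb _).1 ?_
  rw [show (e.hom.app F).hom.app (op A) ∘ (fun s => ((EtDesc.pullSh t).obj F).obj.map j.op (secUp t F s)) =
    F.obj.map κe.hom.op from funext hκ]
  exact bijective_map_iso F κe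

theorem stalk_sqIso {X Xb T Tb : Scheme.{u}} (h : T ⟶ X) (p : Xb ⟶ X) (hb : Tb ⟶ Xb) (pY : Tb ⟶ T)
    (w : hb ≫ p = pY ≫ h) (F : EtDesc.Sh X) {Ω : Type u} [Field Ω] [IsSepClosed Ω]
    (t : Spec (CommRingCat.of Ω) ⟶ Tb) (z : Spec (CommRingCat.of Ω) ⟶ T) (hz : t ≫ pY = z)
    (y : Spec (CommRingCat.of Ω) ⟶ Xb) (hy : t ≫ hb = y)
    (n : Spec (CommRingCat.of Ω) ⟶ X) (e₁ : z ≫ h = n) (e₂ : y ≫ p = n)
    (v : (SetStalk.stalkSh n).obj F) :
    (SetStalk.stalkSh t).map (sqIso h p hb pY w F).hom (pullAt pY t z hz _ (pullAt h z n e₁ F v)) =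
      pullAt hb t y hy _ (pullAt p y n e₂ F v) := by
  have h₃ : t ≫ pY ≫ h = n := by rw [← Category.assoc, hz, e₁]
  refine (stalkMap_comp t _ _ _).trans ?_
  refine (congrArg ((SetStalk.stalkSh t).map _)
    (pullAt_pullVia pY h (pY ≫ h) rfl F t z hz n e₁ h₃ v)).trans ?_
  exact stalk_symm' _ (pullAt_pullVia hb p (pY ≫ h) w F t y hy n e₂ h₃ v)

section Local

variable {X S Y T : Scheme.{u}} {f : X ⟶ S} {g : T ⟶ S} {h : Y ⟶ X} {e : Y ⟶ T} (c : IsPullback e h g f)
  {U : X.Etale} {V : S.Etale} (a : U.left ⟶ V.left) (ha : a ≫ V.hom = U.hom ≫ f)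
  {Ti Yi : Scheme.{u}} (gi : Ti ⟶ V.left) (ti : Ti ⟶ T) (cT : IsPullback ti gi g V.hom)
  (hi : Yi ⟶ U.left) (ei : Yi ⟶ Ti) (cY : IsPullback ei hi gi a) {F : EtDesc.Sh T}
  {Ω : Type u} [Field Ω] [IsSepClosed Ω] {η : Spec (CommRingCat.of Ω) ⟶ X}
  (η' : Spec (CommRingCat.of Ω) ⟶ U.left) (hη : η' ≫ U.hom = η)

include ha cT cY in
theorem qeq : (ei ≫ ti) ≫ g = (hi ≫ U.hom) ≫ f := by
  rw [Category.assoc, cT.w, ← Category.assoc, cY.w, Category.assoc, ha, Category.assoc]

section W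

variable (W₁ : V.left.Etale)

/-- An étale scheme over an étale scheme over `S`, seen over `S`. -/
noncomputable def down : S.Etale :=
  haveI : Etale V.hom := V.prop
  (EtShriek.compEtale V.hom).obj W₁

include cT in
theorem rho_eq : pullback.snd (down W₁).hom g ≫ g =
    (pullback.fst (down W₁).hom g ≫ W₁.hom) ≫ V.hom :=
  pullback.condition.symm.trans (Category.assoc _ _ _).symm

/-- The comparison of the two base changes of `W₁`. -/
noncomputable def rho : ((EtCoh.bc g).obj (down W₁)).left ⟶ ((EtCoh.bc gi).obj W₁).left :=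
  pullback.lift (pullback.fst (down W₁).hom g) (cT.lift _ _ (rho_eq gi ti cT W₁)) (cT.lift_snd _ _ _).symm

theorem isIso_imgMap_down : IsIso (imgMap V.hom g gi ti cT.w (W := down W₁) (N := W₁) (𝟙 W₁.left)
    (Category.id_comp _)) := by
  refine ⟨⟨rho gi ti cT W₁, pullback.hom_ext ?_ (cT.hom_ext ?_ ?_), pullback.hom_ext ?_ ?_⟩⟩
  · refine (Category.assoc _ _ _).trans ((congrArg (_ ≫ ·) (pullback.lift_fst _ _ _)).trans ?_)
    exact (imgMap_fst V.hom g gi ti cT.w _ _).trans ((Category.comp_id _).trans (Category.id_comp _).symm)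
  · refine ((Category.assoc _ _ _).trans ((Category.assoc _ _ _).trans (congrArg (_ ≫ ·)
      ((congrArg (fun m => rho gi ti cT W₁ ≫ m) rfl).trans ((Category.assoc _ _ _).symm.trans
        ((congrArg (· ≫ ti) (pullback.lift_snd _ _ _)).trans (cT.lift_fst _ _ _))))))).trans ?_
    exact (imgMap_snd V.hom g gi ti cT.w _ _).trans (congrArg (· ≫ ti) (Category.id_comp _).symm)
  · refine ((Category.assoc _ _ _).trans ((Category.assoc _ _ _).trans (congrArg (_ ≫ ·)
      ((Category.assoc _ _ _).symm.trans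
        ((congrArg (· ≫ gi) (pullback.lift_snd _ _ _)).trans (cT.lift_snd _ _ _)))))).trans ?_
    refine ((Category.assoc _ _ _).symm.trans ((congrArg (· ≫ W₁.hom)
      ((imgMap_fst V.hom g gi ti cT.w (W := down W₁) _ _).trans (Category.comp_id _))).trans ?_))
    exact pullback.condition.trans (congrArg (· ≫ gi) (Category.id_comp _).symm)
  · refine (Category.assoc _ _ _).trans ((congrArg (_ ≫ ·) (imgMap_fst V.hom g gi ti cT.w _ _)).trans ?_)
    exact ((congrArg (_ ≫ ·) (Category.comp_id _)).trans (pullback.lift_fst _ _ _)).trans (Category.id_comp _).symm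
  · refine (Category.assoc _ _ _).trans ((congrArg (_ ≫ ·) (imgMap_snd V.hom g gi ti cT.w _ _)).trans ?_)
    exact ((Category.assoc _ _ _).symm.trans ((congrArg (· ≫ ti) (pullback.lift_snd _ _ _)).trans
      (cT.lift_fst _ _ _))).trans (Category.id_comp _).symm

end W

include c a ha cT cY hη in
theorem injAt (H : BCGerm.InjAt a gi hi ei cY.w ((EtDesc.pullSh ti).obj F) η') :
    BCGerm.InjAt f g h e c.w F η := by
  intro N n W v k hk s₁ s₂ hnv heq
  let q : Yi ⟶ Y := c.lift (ei ≫ ti) (hi ≫ U.hom) (qeq a ha gi ti cT hi ei cY)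
  let Ni : U.left.Etale := (EtCoh.bc U.hom).obj N
  let Wi : V.left.Etale := (EtCoh.bc V.hom).obj W
  let k' : Ni.left ⟶ Wi.left :=
    pullback.lift (pullback.fst N.hom U.hom ≫ k) (pullback.snd N.hom U.hom ≫ a)
      ((Category.assoc _ _ _).trans ((congrArg (_ ≫ ·) hk).trans ((Category.assoc _ _ _).symm.trans
        ((congrArg (· ≫ f) pullback.condition).trans ((Category.assoc _ _ _).trans
          ((congrArg (_ ≫ ·) ha.symm).trans (Category.assoc _ _ _).symm))))))
  have hk' : k' ≫ Wi.hom = Ni.hom ≫ a := pullback.lift_snd _ _ _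
  have hk'' : pullback.fst W.hom V.hom ≫ W.hom = Wi.hom ≫ V.hom := pullback.condition
  have hηa : (η' ≫ a) ≫ V.hom = η ≫ f := by
    rw [Category.assoc, ha, ← Category.assoc, hη]
  let ni : (Scheme.pointSmallEtale η').fiber.obj Ni :=
    (Over.homMk (pullback.lift n.left η' ((Over.w n).trans hη.symm)) (pullback.lift_snd _ _ _) :
      Over.mk η' ⟶ (Scheme.Etale.forget _).obj Ni)
  let vi : (Scheme.pointSmallEtale (η' ≫ a)).fiber.obj Wi :=
    (Over.homMk (pullback.lift v.left (η' ≫ a) ((Over.w v).trans hηa.symm)) (pullback.lift_snd _ _ _) :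
      Over.mk (η' ≫ a) ⟶ (Scheme.Etale.forget _).obj Wi)
  have hnv' : ni.left ≫ k' = vi.left := by
    refine pullback.hom_ext ?_ ?_
    · refine (Category.assoc _ _ _).trans ((congrArg (_ ≫ ·) (pullback.lift_fst _ _ _)).trans ?_)
      exact ((Category.assoc _ _ _).symm.trans ((congrArg (· ≫ k) (pullback.lift_fst _ _ _)).trans hnv)).trans
        (pullback.lift_fst _ _ _).symm
    · refine (Category.assoc _ _ _).trans ((congrArg (_ ≫ ·) (pullback.lift_snd _ _ _)).trans ?_)
      exact ((Category.assoc _ _ _).symm.trans (congrArg (· ≫ a) (pullback.lift_snd _ _ _))).trans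
        (pullback.lift_snd _ _ _).symm
  let tr : F.obj.obj (op ((EtCoh.bc g).obj W)) →
      ((EtDesc.pullSh ti).obj F).obj.obj (op ((EtCoh.bc gi).obj Wi)) :=
    fun s => BCGerm.img V.hom g gi ti cT.w (pullback.fst W.hom V.hom) hk'' s
  have heq' : BCGerm.img a gi hi ei cY.w k' hk' (tr s₁) = BCGerm.img a gi hi ei cY.w k' hk' (tr s₂) := by
    refine eq_of_eqAt _ _ _ fun z => (eqAt_img_iff a gi hi ei cY.w k' hk' _ _ z).2
      ((eqAt_img_iff V.hom g gi ti cT.w _ hk'' s₁ s₂ _).2 ?_)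
    let ψ : ((EtCoh.bc hi).obj Ni).left ⟶ ((EtCoh.bc h).obj N).left :=
      pullback.lift (pullback.fst Ni.hom hi ≫ pullback.fst N.hom U.hom) (pullback.snd Ni.hom hi ≫ q)
        ((Category.assoc _ _ _).trans ((congrArg (_ ≫ ·) pullback.condition).trans
          ((Category.assoc _ _ _).symm.trans ((congrArg (· ≫ U.hom) pullback.condition).trans
            ((Category.assoc _ _ _).trans ((congrArg (_ ≫ ·) (c.lift_snd _ _ _).symm).trans
              (Category.assoc _ _ _).symm))))))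
    have hψ : imgMap a gi hi ei cY.w k' hk' ≫ imgMap V.hom g gi ti cT.w (pullback.fst W.hom V.hom) hk'' =
        ψ ≫ imgMap f g h e c.w k hk := by
      refine pullback.hom_ext ?_ ?_
      · refine (Category.assoc _ _ _).trans ((congrArg (_ ≫ ·) (imgMap_fst V.hom g gi ti cT.w _ hk'')).trans ?_)
        refine ((Category.assoc _ _ _).symm.trans (congrArg (· ≫ pullback.fst W.hom V.hom)
          (imgMap_fst a gi hi ei cY.w k' hk'))).trans ?_
        refine ((Category.assoc _ _ _).trans (congrArg (_ ≫ ·) (pullback.lift_fst _ _ _))).trans ?_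
        refine Eq.trans ?_ ((Category.assoc _ _ _).trans (congrArg (ψ ≫ ·) (imgMap_fst f g h e c.w k hk))).symm
        exact ((Category.assoc _ _ _).symm.trans (congrArg (· ≫ k) (pullback.lift_fst _ _ _).symm)).trans
          (Category.assoc _ _ _)
      · refine (Category.assoc _ _ _).trans ((congrArg (_ ≫ ·) (imgMap_snd V.hom g gi ti cT.w _ hk'')).trans ?_)
        refine ((Category.assoc _ _ _).symm.trans (congrArg (· ≫ ti)
          (imgMap_snd a gi hi ei cY.w k' hk'))).trans ?_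
        refine Eq.trans ?_ ((Category.assoc _ _ _).trans (congrArg (ψ ≫ ·) (imgMap_snd f g h e c.w k hk))).symm
        exact ((Category.assoc _ _ _).trans (congrArg (_ ≫ ·) (c.lift_fst _ _ _).symm)).trans
          (((Category.assoc _ _ _).symm.trans (congrArg (· ≫ e) (pullback.lift_snd _ _ _).symm)).trans
            (Category.assoc _ _ _))
    have := congrArg (fun m : ((EtCoh.bc hi).obj Ni).left ⟶ ((EtCoh.bc g).obj W).left => m z) hψ
    exact (show imgMap V.hom g gi ti cT.w (pullback.fst W.hom V.hom) hk'' (imgMap a gi hi ei cY.w k' hk' z) =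
      imgMap f g h e c.w k hk (ψ z) from this) ▸
      (eqAt_img_iff f g h e c.w k hk s₁ s₂ (ψ z)).1 (eqAt_of_eq _ heq _)
  obtain ⟨W₁, j₁, v₁, hv₁, he₁⟩ := H Ni ni Wi vi k' hk' _ _ hnv' heq'
  let jl : (down W₁).left ⟶ W.left := j₁.left ≫ pullback.fst W.hom V.hom
  have hjl : jl ≫ W.hom = W₁.hom ≫ V.hom :=
    (Category.assoc _ _ _).trans ((congrArg (j₁.left ≫ ·) hk'').trans ((Category.assoc _ _ _).symm.trans
      (congrArg (· ≫ V.hom) (MorphismProperty.Over.w j₁))))
  let j : down W₁ ⟶ W := MorphismProperty.Over.homMk jl hjl trivial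
  let v' : (Scheme.pointSmallEtale (η ≫ f)).fiber.obj (down W₁) :=
    (Over.homMk v₁.left ((Category.assoc _ _ _).symm.trans ((congrArg (· ≫ V.hom) (Over.w v₁)).trans hηa)) :
      Over.mk (η ≫ f) ⟶ (Scheme.Etale.forget S).obj (down W₁))
  refine ⟨down W₁, j, v', Over.OverMorphism.ext ?_, eq_of_eqAt F _ _ fun u => (eqAt_res F _ s₁ s₂ u).2 ?_⟩
  · exact ((Category.assoc _ _ _).symm.trans (congrArg (fun p : (Scheme.pointSmallEtale (η' ≫ a)).fiber.obj Wi =>
      p.left ≫ pullback.fst W.hom V.hom) hv₁)).trans (pullback.lift_fst _ _ _)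
  have hρ : rho gi ti cT W₁ ≫ ((EtCoh.bc gi).map j₁).left ≫
      imgMap V.hom g gi ti cT.w (pullback.fst W.hom V.hom) hk'' = ((EtCoh.bc g).map j).left := by
    refine pullback.hom_ext ?_ ?_
    · refine ((Category.assoc _ _ _).trans (congrArg (_ ≫ ·) ((Category.assoc _ _ _).trans
        (congrArg (_ ≫ ·) (imgMap_fst V.hom g gi ti cT.w _ hk''))))).trans ?_
      refine (congrArg (_ ≫ ·) ((Category.assoc _ _ _).symm.trans ((congrArg (· ≫ pullback.fst W.hom V.hom)
        (EtCoh.isPullback_bc_map gi j₁).w).trans (Category.assoc _ _ _)))).trans ?_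
      exact ((Category.assoc _ _ _).symm.trans (congrArg (· ≫ jl) (pullback.lift_fst _ _ _))).trans
        (EtCoh.isPullback_bc_map g j).w.symm
    · refine ((Category.assoc _ _ _).trans (congrArg (_ ≫ ·) ((Category.assoc _ _ _).trans
        (congrArg (_ ≫ ·) (imgMap_snd V.hom g gi ti cT.w _ hk''))))).trans ?_
      refine (congrArg (_ ≫ ·) ((Category.assoc _ _ _).symm.trans (congrArg (· ≫ ti)
        (MorphismProperty.Over.w ((EtCoh.bc gi).map j₁))))).trans ?_
      exact (((Category.assoc _ _ _).symm.trans (congrArg (· ≫ ti) (pullback.lift_snd _ _ _))).trans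
        (cT.lift_fst _ _ _)).trans (MorphismProperty.Over.w ((EtCoh.bc g).map j)).symm
  have h₁ := (eqAt_res _ ((EtCoh.bc gi).map j₁) _ _ (rho gi ti cT W₁ u)).1 (eqAt_of_eq _ he₁ _)
  have h₂ := (eqAt_img_iff V.hom g gi ti cT.w _ hk'' s₁ s₂ _).1 h₁
  exact congrArg (fun m : ((EtCoh.bc g).obj (down W₁)).left ⟶ ((EtCoh.bc g).obj W).left => m u) hρ ▸ h₂

include c a ha cT cY hη in
theorem surjAt (H : BCGerm.SurjAt a gi hi ei cY.w ((EtDesc.pullSh ti).obj F) η') :
    BCGerm.SurjAt f g h e c.w F η := by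
  intro N n t
  haveI : Etale U.hom := U.prop
  haveI : Etale V.hom := V.prop
  haveI : Etale ti := MorphismProperty.of_isPullback cT.flip V.prop
  let q : Yi ⟶ Y := c.lift (ei ≫ ti) (hi ≫ U.hom) (qeq a ha gi ti cT hi ei cY)
  have hqe : ei ≫ ti = q ≫ e := (c.lift_fst _ _ _).symm
  have hqh : q ≫ h = hi ≫ U.hom := c.lift_snd _ _ _
  let Ni : U.left.Etale := (EtCoh.bc U.hom).obj N
  have hN : pullback.fst N.hom U.hom ≫ N.hom = Ni.hom ≫ U.hom := pullback.condition
  let ni : (Scheme.pointSmallEtale η').fiber.obj Ni :=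
    (Over.homMk (pullback.lift n.left η' ((Over.w n).trans hη.symm)) (pullback.lift_snd _ _ _) :
      Over.mk η' ⟶ (Scheme.Etale.forget _).obj Ni)
  let t₀ := (sqIso e ti ei q hqe F).hom.hom.app (op ((EtCoh.bc hi).obj Ni))
    (BCGerm.img U.hom h hi q hqh (pullback.fst N.hom U.hom) hN t)
  obtain ⟨N₁, j₁, n₁, W₁, k₁, hk₁, s₁, hn₁, ht₁⟩ := H Ni ni t₀
  have hid : 𝟙 W₁.left ≫ (down W₁).hom = W₁.hom ≫ V.hom := Category.id_comp _
  obtain ⟨s, hs⟩ := (bijective_secUp_restr ti F
    ((EtCoh.bc gi).map (BCGerm.toBc V.hom (W := down W₁) (𝟙 W₁.left) hid) ≫ sqHom V.hom g ti gi cT.w (down W₁))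
    ((img_left V.hom g gi ti cT.w (W := down W₁) (𝟙 W₁.left) hid).symm ▸ isIso_imgMap_down gi ti cT W₁)).2 s₁
  let N' : X.Etale := (EtShriek.compEtale U.hom).obj N₁
  let jl : N'.left ⟶ N.left := j₁.left ≫ pullback.fst N.hom U.hom
  have hjl : jl ≫ N.hom = N₁.hom ≫ U.hom :=
    (Category.assoc _ _ _).trans ((congrArg (j₁.left ≫ ·) hN).trans ((Category.assoc _ _ _).symm.trans
      (congrArg (· ≫ U.hom) (MorphismProperty.Over.w j₁))))
  let j : N' ⟶ N := MorphismProperty.Over.homMk jl hjl trivial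
  let n' : (Scheme.pointSmallEtale η).fiber.obj N' :=
    (Over.homMk n₁.left ((Category.assoc _ _ _).symm.trans ((congrArg (· ≫ U.hom) (Over.w n₁)).trans hη)) :
      Over.mk η ⟶ (Scheme.Etale.forget X).obj N')
  have hk : k₁ ≫ (down W₁).hom = N'.hom ≫ f := by
    change k₁ ≫ W₁.hom ≫ V.hom = (N₁.hom ≫ U.hom) ≫ f
    rw [reassoc_of% hk₁, ha, Category.assoc]
  refine ⟨N', j, n', down W₁, k₁, hk, s, Over.OverMorphism.ext ?_, ?_⟩
  · exact ((Category.assoc _ _ _).symm.trans (congrArg (fun p : (Scheme.pointSmallEtale η').fiber.obj Ni =>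
      p.left ≫ pullback.fst N.hom U.hom) hn₁)).trans (pullback.lift_fst _ _ _)
  refine sect_ext_alg ((EtDesc.pullSh e).obj F) _ _ fun L _ _ ξ x => ?_
  let xN : Spec (CommRingCat.of L) ⟶ N₁.left := x.left ≫ pullback.fst N'.hom h
  have hxN : ξ ≫ h = xN ≫ N₁.hom ≫ U.hom := by
    refine Eq.trans ?_ ((congrArg (x.left ≫ ·) (pullback.condition (f := N'.hom) (g := h))).symm.trans
      (Category.assoc _ _ _).symm)
    exact (congrArg (· ≫ h) (Over.w x).symm).trans (Category.assoc _ _ _)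
  have cond : (ξ ≫ e) ≫ g = ((xN ≫ N₁.hom) ≫ a) ≫ V.hom := by
    rw [Category.assoc, c.w, ← Category.assoc, hxN]
    simp only [Category.assoc, ha]
  let ξ' : Spec (CommRingCat.of L) ⟶ Yi := cY.lift (cT.lift _ _ cond) (xN ≫ N₁.hom) (cT.lift_snd _ _ _)
  have hξ' : ξ' ≫ hi = xN ≫ N₁.hom := cY.lift_snd _ _ _
  have hξ'' : ξ' ≫ q = ξ := by
    refine c.hom_ext ?_ ?_
    · rw [Category.assoc, ← hqe, ← Category.assoc, cY.lift_fst, cT.lift_fst]
    · rw [Category.assoc, hqh, ← Category.assoc, hξ', Category.assoc, hxN]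
  clear_value ξ'
  subst hξ''
  let x' : (Scheme.pointSmallEtale ξ').fiber.obj ((EtCoh.bc hi).obj N₁) :=
    (Over.homMk (pullback.lift xN ξ' hξ'.symm) (pullback.lift_snd _ _ _) :
      Over.mk ξ' ⟶ (Scheme.Etale.forget _).obj ((EtCoh.bc hi).obj N₁))
  have hx' : x'.left ≫ pullback.fst N₁.hom hi = xN := pullback.lift_fst _ _ _
  let P₀ := (Scheme.pointSmallEtale (ξ' ≫ q)).fiber.map ((EtCoh.bc h).map j) x
  let P₂ := BCGerm.imgPt f g h e c.w (W := down W₁) k₁ hk x
  obtain ⟨p₀, hp₀⟩ := (pullAt_bijective e (ξ' ≫ q) _ rfl F).2 (SetStalk.germ (ξ' ≫ q) _ _ P₀ t)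
  have hn : (ξ' ≫ ei) ≫ ti = (ξ' ≫ q) ≫ e := by
    rw [Category.assoc, Category.assoc, hqe]
  have eL : SetStalk.germ ξ' _ _ ((Scheme.pointSmallEtale ξ').fiber.map ((EtCoh.bc hi).map j₁) x') t₀ =
      pullAt ei ξ' _ rfl _ (pullAt ti (ξ' ≫ ei) _ hn F p₀) := by
    refine (SetStalk.germ_naturality ξ' (sqIso e ti ei q hqe F).hom _ _ _).symm.trans ?_
    rw [germ_img' U.hom h hi q hqh _ hN t _ (ξ' ≫ q) rfl P₀ ?_, ← hp₀]
    · exact stalk_sqIso e ti ei q hqe F ξ' _ rfl _ rfl _ rfl hn p₀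
    · refine ((Category.assoc _ _ _).trans ((congrArg (x.left ≫ ·) (EtCoh.isPullback_bc_map h j).w).trans
        (Category.assoc _ _ _).symm)).trans ?_
      refine Eq.trans ?_ ((Category.assoc _ _ _).trans (congrArg (x'.left ≫ ·) ((Category.assoc _ _ _).symm.trans
        ((congrArg (· ≫ pullback.fst N.hom U.hom) (EtCoh.isPullback_bc_map hi j₁).w))))).symm
      exact ((congrArg (· ≫ jl) hx'.symm).trans (Category.assoc _ _ _)).trans
        (congrArg (x'.left ≫ ·) (Category.assoc _ _ _).symm)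
  have eR : SetStalk.germ ξ' _ _ x' (BCGerm.img a gi hi ei cY.w k₁ hk₁ s₁) =
      pullAt ei ξ' _ rfl _ (pullAt ti (ξ' ≫ ei) _ hn F (SetStalk.germ _ F _ P₂ s)) := by
    rw [BCGerm.germ_img]
    refine congrArg (pullAt ei ξ' _ rfl _) ((congrArg (SetStalk.germ _ _ _ _) hs.symm).trans ?_)
    refine germ_img' V.hom g gi ti cT.w (W := down W₁) (𝟙 W₁.left) hid s _ _ hn P₂ ?_
    refine (pullback.lift_fst _ _ _).trans ?_
    refine Eq.trans ?_ ((congrArg (_ ≫ ·) (Category.comp_id _)).trans (pullback.lift_fst _ _ _)).symm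
    exact (Category.assoc _ _ _).symm.trans ((congrArg (· ≫ k₁) hx'.symm).trans (Category.assoc _ _ _))
  have key : p₀ = SetStalk.germ _ F _ P₂ s := by
    refine (pullAt_bijective ti (ξ' ≫ ei) _ hn F).1 ((pullAt_bijective ei ξ' _ rfl _).1
      (eL.symm.trans (Eq.trans ?_ eR)))
    exact (SetStalk.germ_res ξ' _ _ x' t₀).symm.trans (congrArg (SetStalk.germ ξ' _ _ x') ht₁)
  rw [SetStalk.germ_res, BCGerm.germ_img]
  exact hp₀.symm.trans (congrArg (pullAt e (ξ' ≫ q) _ rfl F) key)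

end Local

/-- The base change morphism is an isomorphism if it is one étale locally. -/
theorem isIso_of_etale_local {X S Y T : Scheme.{u}} (f : X ⟶ S) (g : T ⟶ S) (h : Y ⟶ X) (e : Y ⟶ T)
    (c : IsPullback e h g f) (F : EtDesc.Sh T)
    {ι : Type u} (U : ι → X.Etale) (hU : EtCoh.Covers U) (V : ι → S.Etale)
    (a : ∀ i, (U i).left ⟶ (V i).left) (ha : ∀ i, a i ≫ (V i).hom = (U i).hom ≫ f)
    (Ti Yi : ι → Scheme.{u}) (gi : ∀ i, Ti i ⟶ (V i).left) (ti : ∀ i, Ti i ⟶ T)
    (cT : ∀ i, IsPullback (ti i) (gi i) g (V i).hom)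
    (hi : ∀ i, Yi i ⟶ (U i).left) (ei : ∀ i, Yi i ⟶ Ti i) (cY : ∀ i, IsPullback (ei i) (hi i) (gi i) (a i))
    (hloc : ∀ i, IsIso (EtBC.baseChange0Sh (gi i) (a i) (hi i) (ei i) (cY i).w ((EtDesc.pullSh (ti i)).obj F))) :
    IsIso (EtBC.baseChange0Sh g f h e c.w F) := by
  refine BCGerm.isIso_of_forall f g h e c.w fun Ω _ _ η => ?_
  obtain ⟨i, y, hy⟩ := hU (η (default : Spec (CommRingCat.of Ω)))
  haveI : Etale (U i).hom := (U i).prop
  obtain ⟨η', hη, -⟩ := Scheme.exists_fac_of_etale_of_isSepClosed (U i).hom η y hy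
  haveI := hloc i
  have hb := ((SetStalk.stalkSh η').mapIso
    (asIso (EtBC.baseChange0Sh (gi i) (a i) (hi i) (ei i) (cY i).w ((EtDesc.pullSh (ti i)).obj F)))).toEquiv.bijective
  exact ⟨injAt c (a i) (ha i) (gi i) (ti i) (cT i) (hi i) (ei i) (cY i) η' hη
      (BCGerm.injAt_of_injective (a i) (gi i) (hi i) (ei i) (cY i).w η' hb.1),
    surjAt c (a i) (ha i) (gi i) (ti i) (cT i) (hi i) (ei i) (cY i) η' hη
      (BCGerm.surjAt_of_surjective (a i) (gi i) (hi i) (ei i) (cY i).w η' hb.2)⟩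

end Groth.Agent.DescSh.BCLocal
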