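import Groth.Agent.DescSh.CohPropField
import Groth.Agent.DescSh.BCLocal

/-!
Base change of direct images of sheaves of sets along morphisms that factor, locally for the étale
topology, through universally submersive morphisms with geometrically connected fibres followed by
étale morphisms.
-/

set_option autoImplicit false
set_option linter.style.haveILetI false
set_option backward.isDefEq.respectTransparency.types false

universe u

open CategoryTheory CategoryTheory.Limits AlgebraicGeometry Opposite TopologicalSpace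
open Groth.Agent.EtaleSite
open Groth.Agent.DescSh.BCLocal (imgMap imgMap_fst imgMap_snd)
open Groth.Agent.DescSh.CohPropField (valTop valTop_iff viaTop topGerm_viaTop)

namespace Groth.Agent.DescSh.BCConn

theorem isUnivSubmersive_of_isPullback {P B A C : Scheme.{u}} {fst : P ⟶ A} {snd : P ⟶ B} {a : A ⟶ C}
    {b : B ⟶ C} (h : IsPullback fst snd a b) (ha : EtDesc.IsUnivSubmersive a) :
    EtDesc.IsUnivSubmersive snd := by
  intro Y y
  have hp : IsPullback (pullback.fst snd y ≫ fst) (pullback.snd snd y) a (y ≫ b) :=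
    (IsPullback.of_hasPullback snd y).paste_horiz h
  have e : hp.isoPullback.hom ≫ pullback.snd a (y ≫ b) = pullback.snd snd y := hp.isoPullback_hom_snd
  obtain ⟨hs, hq⟩ := ha Y (y ≫ b)
  rw [← e]
  exact ⟨hs.comp hp.isoPullback.hom.surjective, hq.comp hp.isoPullback.hom.homeomorph.isQuotientMap⟩

section Geom

variable {N V : Scheme.{u}} (a : N ⟶ V) [GeometricallyConnected a]

/-- A morphism to an étale scheme over the base is constant on geometrically connected fibres. -/
theorem comp_eq_of_geometricallyConnected (V' : V.Etale) (a' : N ⟶ V'.left) (ha : a' ≫ V'.hom = a)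
    {L : Type u} [Field L] [IsSepClosed L] (z₁ z₂ : Spec (CommRingCat.of L) ⟶ N) (hz : z₁ ≫ a = z₂ ≫ a) :
    z₁ ≫ a' = z₂ ≫ a' := by
  let y : Spec (CommRingCat.of L) ⟶ V := z₁ ≫ a
  haveI : ConnectedSpace ↥(pullback a y) :=
    GeometricallyConnected.geometrically_connectedSpace _ _ _ (IsPullback.of_hasPullback a y)
  let E : (Spec (CommRingCat.of L)).Etale := (EtCoh.bc y).obj V'
  haveI := discreteTopology_etale_field L E
  let ψ : pullback a y ⟶ E.left := pullback.lift (pullback.fst a y ≫ a') (pullback.snd a y)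
    ((Category.assoc _ _ _).trans ((congrArg (_ ≫ ·) ha).trans pullback.condition))
  let s₁ : Spec (CommRingCat.of L) ⟶ E.left := pullback.lift z₁ (𝟙 _) (Category.id_comp _).symm ≫ ψ
  let s₂ : Spec (CommRingCat.of L) ⟶ E.left :=
    pullback.lift z₂ (𝟙 _) (hz.symm.trans (Category.id_comp _).symm) ≫ ψ
  have h₁ : s₁ ≫ E.hom = 𝟙 _ :=
    (Category.assoc _ _ _).trans ((congrArg (_ ≫ ·) (pullback.lift_snd _ _ _)).trans (pullback.lift_snd _ _ _))
  have h₂ : s₂ ≫ E.hom = 𝟙 _ :=
    (Category.assoc _ _ _).trans ((congrArg (_ ≫ ·) (pullback.lift_snd _ _ _)).trans (pullback.lift_snd _ _ _))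
  haveI : Etale E.hom := E.prop
  haveI : Etale (s₁ ≫ E.hom) := h₁.symm ▸ inferInstance
  haveI : Etale s₁ := Etale.of_comp s₁ E.hom
  haveI : IsSplitMono s₁ := IsSplitMono.mk' ⟨E.hom, h₁⟩
  haveI : IsOpenImmersion s₁ := IsOpenImmersion.of_flat_of_mono s₁
  have hr : Set.range s₂ ⊆ Set.range s₁ := by
    rintro _ ⟨o, rfl⟩
    refine ⟨o, ?_⟩
    exact (isPreconnected_range ψ.continuous).subsingleton ⟨_, rfl⟩ ⟨_, rfl⟩
  have hs : s₂ = s₁ := by
    have h3 := IsOpenImmersion.lift_fac s₁ s₂ hr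
    have h4 : IsOpenImmersion.lift s₁ s₂ hr = 𝟙 _ :=
      ((Category.comp_id _).symm.trans (congrArg (_ ≫ ·) h₁.symm)).trans
        ((Category.assoc _ _ _).symm.trans ((congrArg (· ≫ E.hom) h3).trans h₂))
    exact (h3.symm.trans (congrArg (· ≫ s₁) h4)).trans (Category.id_comp _)
  have key := congrArg (· ≫ pullback.fst V'.hom y) hs
  simp only [s₁, s₂, ψ] at key
  refine (((congrArg (_ ≫ ·) (pullback.lift_fst _ _ _)).trans ((Category.assoc _ _ _).symm.trans
    (congrArg (· ≫ a') (pullback.lift_fst _ _ _)))).symm.trans (key.symm.trans ?_))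
  exact (congrArg (_ ≫ ·) (pullback.lift_fst _ _ _)).trans ((Category.assoc _ _ _).symm.trans
    (congrArg (· ≫ a') (pullback.lift_fst _ _ _)))

/-- The image in an étale scheme over the base is open. -/
theorem isOpen_range_lift (hs : EtDesc.IsUnivSubmersive a) (V' : V.Etale) (a' : N ⟶ V'.left)
    (ha : a' ≫ V'.hom = a) : IsOpen (Set.range a') := by
  let pr : pullback a V'.hom ⟶ V'.left := pullback.snd a V'.hom
  let σ : N ⟶ pullback a V'.hom := pullback.lift (𝟙 N) a' ((Category.id_comp _).trans ha.symm)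
  have hσ : σ ≫ pullback.fst a V'.hom = 𝟙 N := pullback.lift_fst _ _ _
  have hσ' : σ ≫ pr = a' := pullback.lift_snd _ _ _
  haveI : Etale V'.hom := V'.prop
  haveI : Etale (σ ≫ pullback.fst a V'.hom) := hσ.symm ▸ inferInstance
  haveI : Etale σ := Etale.of_comp σ (pullback.fst a V'.hom)
  refine (hs V'.left V'.hom).2.isOpen_preimage.1 ?_
  have : pr ⁻¹' Set.range a' = Set.range σ := by
    refine Set.Subset.antisymm ?_ ?_
    · rintro p ⟨z, hz⟩
      obtain ⟨w, hw₁, hw₂⟩ := Scheme.Pullback.exists_preimage_pullback p z (f := pr) (g := a') hz.symm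
      obtain ⟨L, _, _, l, hl⟩ := exists_algPoint_top w
      let pp : Spec (CommRingCat.of L) ⟶ pullback a V'.hom := l ≫ pullback.fst pr a'
      let zz : Spec (CommRingCat.of L) ⟶ N := l ≫ pullback.snd pr a'
      have hpz : pp ≫ pr = zz ≫ a' := by
        simp only [pp, zz, Category.assoc, pullback.condition]
      have h1 : (pp ≫ pullback.fst a V'.hom) ≫ a = zz ≫ a := by
        rw [Category.assoc, pullback.condition, ← Category.assoc, hpz, Category.assoc, ha]
      have h2 := comp_eq_of_geometricallyConnected a V' a' ha _ _ h1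
      have hpp : (pp ≫ pullback.fst a V'.hom) ≫ σ = pp := by
        refine pullback.hom_ext ?_ ?_
        · exact (Category.assoc _ _ _).trans ((congrArg (_ ≫ ·) hσ).trans (Category.comp_id _))
        · exact (Category.assoc _ _ _).trans ((congrArg (_ ≫ ·) hσ').trans (h2.trans hpz.symm))
      refine ⟨(pp ≫ pullback.fst a V'.hom) default, ?_⟩
      rw [← Scheme.Hom.comp_apply, hpp, Scheme.Hom.comp_apply, hl, hw₁]
    · rintro _ ⟨z, rfl⟩
      exact ⟨z, by rw [← hσ', Scheme.Hom.comp_apply]⟩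
  exact this ▸ σ.isOpenMap.isOpen_range

end Geom

section Agree

variable {M B T : Scheme.{u}} (c : M ⟶ B) (πB : B ⟶ T) (π : M ⟶ T) (w : c ≫ πB = π) {F : EtDesc.Sh T}

include w in
/-- A section of an inverse image from the base is constant on geometrically connected fibres. -/
theorem agree_of_connected [GeometricallyConnected c] (t : EtDesc.sect ((EtDesc.pullSh π).obj F) (EtCoh.top M))
    {L : Type u} [Field L] [IsSepClosed L] (z₁ z₂ : Spec (CommRingCat.of L) ⟶ M) (hz : z₁ ≫ c = z₂ ≫ c)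
    (ξ : Spec (CommRingCat.of L) ⟶ T) (e₁ : z₁ ≫ π = ξ) (e₂ : z₂ ≫ π = ξ) (v : (SetStalk.stalkSh ξ).obj F)
    (hv : topGerm t z₁ = pullAt π z₁ ξ e₁ F v) : topGerm t z₂ = pullAt π z₂ ξ e₂ F v := by
  let y : Spec (CommRingCat.of L) ⟶ B := z₁ ≫ c
  haveI : ConnectedSpace ↥(pullback c y) :=
    GeometricallyConnected.geometrically_connectedSpace _ _ _ (IsPullback.of_hasPullback c y)
  let α : pullback c y ⟶ M := pullback.fst c y
  let m : pullback c y ⟶ Spec (CommRingCat.of L) := pullback.snd c y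
  have hmξ : m ≫ ξ = α ≫ π := by
    rw [← e₁, ← w, ← Category.assoc z₁, ← Category.assoc m, ← Category.assoc α]
    exact congrArg (· ≫ πB) pullback.condition.symm
  have hm₁ : (m ≫ z₁) ≫ π = α ≫ π := by rw [Category.assoc, e₁, hmξ]
  let r₁ := viaTop α π (α ≫ π) rfl t
  let r₂ := viaTop (m ≫ z₁) π (α ≫ π) hm₁ t
  let H := (EtDesc.pullSh (α ≫ π)).obj F
  let vv := (EtDesc.pullVia m ξ (α ≫ π) hmξ F).symm
  have hset : {p | ¬ EqAt H r₁ r₂ p} = {p | ¬ EqAt ((EtDesc.pullSh m).obj ((EtDesc.pullSh ξ).obj F))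
      (vv.hom.hom.app (op (EtCoh.top _)) r₁) (vv.hom.hom.app (op (EtCoh.top _)) r₂) p} :=
    Set.ext fun p => not_congr (eqAt_app_iff vv.hom r₁ r₂ p).symm
  let D : Set ↥(pullback c y) := {p | EqAt H r₁ r₂ p}
  have hD : IsOpen {p | ¬ EqAt H r₁ r₂ p} :=
    (congrArg IsOpen hset).mpr (isOpen_not_eqAt_field m _ _ _)
  have hcl : IsClopen D := ⟨⟨hD⟩, isOpen_eqAt H r₁ r₂⟩
  let q₁ : Spec (CommRingCat.of L) ⟶ pullback c y := pullback.lift z₁ (𝟙 _) (Category.id_comp _).symm
  let q₂ : Spec (CommRingCat.of L) ⟶ pullback c y :=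
    pullback.lift z₂ (𝟙 _) (hz.symm.trans (Category.id_comp _).symm)
  have hq₁ : q₁ ≫ α = z₁ := pullback.lift_fst _ _ _
  have hq₂ : q₂ ≫ α = z₂ := pullback.lift_fst _ _ _
  have hq₁' : q₁ ≫ m ≫ z₁ = z₁ := by
    rw [← Category.assoc, pullback.lift_snd, Category.id_comp]
  have hq₂' : q₂ ≫ m ≫ z₁ = z₁ := by
    rw [← Category.assoc, pullback.lift_snd, Category.id_comp]
  have e₁' : q₁ ≫ α ≫ π = ξ := by rw [← Category.assoc, hq₁, e₁]
  have e₂' : q₂ ≫ α ≫ π = ξ := by rw [← Category.assoc, hq₂, e₂]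
  have huniv := hcl.eq_univ ⟨q₁ default, (eqAt_top_iff H r₁ r₂ q₁).2
    ((topGerm_viaTop α π _ rfl t q₁ z₁ hq₁ ξ e₁ e₁' v hv).trans
      (topGerm_viaTop (m ≫ z₁) π _ hm₁ t q₁ z₁ hq₁' ξ e₁ e₁' v hv).symm)⟩
  have h2 := (eqAt_top_iff H r₁ r₂ q₂).1 (huniv.symm ▸ Set.mem_univ _ : q₂ default ∈ D)
  obtain ⟨v', hv'⟩ := (pullAt_bijective π z₂ ξ e₂ F).2 (topGerm t z₂)
  rw [topGerm_viaTop α π _ rfl t q₂ z₂ hq₂ ξ e₂ e₂' v' hv'.symm,
    topGerm_viaTop (m ≫ z₁) π _ hm₁ t q₂ z₁ hq₂' ξ e₁ e₂' v hv] at h2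
  rw [← hv', (pullAt_bijective _ q₂ ξ e₂' F).1 h2]

/-- A section of the inverse image along a composite as a section of an iterated inverse image. -/
noncomputable def relTop (t : EtDesc.sect ((EtDesc.pullSh π).obj F) (EtCoh.top M)) :
    EtDesc.sect ((EtDesc.pullSh c).obj ((EtDesc.pullSh πB).obj F)) (EtCoh.top M) :=
  (EtDesc.pullVia c πB π w F).inv.hom.app (op (EtCoh.top M)) t

theorem topGerm_relTop (t : EtDesc.sect ((EtDesc.pullSh π).obj F) (EtCoh.top M))
    {L : Type u} [Field L] [IsSepClosed L] (z : Spec (CommRingCat.of L) ⟶ M) (q : Spec (CommRingCat.of L) ⟶ B)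
    (hq : z ≫ c = q) (ξ : Spec (CommRingCat.of L) ⟶ T) (eq : q ≫ πB = ξ) (ez : z ≫ π = ξ)
    (x : (SetStalk.stalkSh ξ).obj F) (hx : topGerm t z = pullAt π z ξ ez F x) :
    topGerm (relTop c πB π w t) z = pullAt c z q hq _ (pullAt πB q ξ eq F x) := by
  unfold relTop
  rw [← topGerm_app, hx]
  exact stalk_symm' (EtDesc.pullVia c πB π w F) (pullAt_pullVia c πB π w F z q hq ξ eq ez x)

/-- Sections on a universally submersive morphism with geometrically connected fibres come from below. -/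
theorem exists_secPull_relTop [GeometricallyConnected c] (hc : EtDesc.IsUnivSubmersive c)
    (t : EtDesc.sect ((EtDesc.pullSh π).obj F) (EtCoh.top M)) :
    ∃ s, EtDesc.secPull c ((EtDesc.pullSh πB).obj F) s = relTop c πB π w t := by
  refine exists_secPull_eq' c hc _ _ fun c₀ => ?_
  obtain ⟨L, iL, iL', θ, hθ⟩ := exists_algPoint_top c₀
  refine ⟨L, iL, iL', θ, hθ, fun q e₁ e₂ x hx => ?_⟩
  have ez : ∀ z : Spec (CommRingCat.of L) ⟶ M, z ≫ c = q → z ≫ π = q ≫ πB := fun z hz => by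
    rw [← w, ← Category.assoc, hz]
  obtain ⟨v, hv⟩ := (pullAt_bijective π (θ ≫ pullback.fst c c) _ (ez _ e₁) F).2
    (topGerm t (θ ≫ pullback.fst c c))
  have hv₂ := agree_of_connected c πB π w t _ _ (e₁.trans e₂.symm) _ (ez _ e₁) (ez _ e₂) v hv.symm
  rw [topGerm_relTop c πB π w t _ q e₂ _ rfl (ez _ e₂) v hv₂]
  refine congrArg (pullAt c _ q e₂ _) ((pullAt_bijective c _ q e₁ _).1 ?_)
  exact (topGerm_relTop c πB π w t _ q e₁ _ rfl (ez _ e₁) v hv.symm).symm.trans hx

end Agree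

section BC

/-- Étale schemes over the source factor locally through universally submersive morphisms with
geometrically connected fibres followed by étale morphisms. -/
def HasFactor {X S : Scheme.{u}} (f : X ⟶ S) : Prop :=
  ∀ (N : X.Etale) (z : N.left), ∃ (N₁ : X.Etale) (j : N₁ ⟶ N) (z₁ : N₁.left) (V : S.Etale)
    (a : N₁.left ⟶ V.left), j.left z₁ = z ∧ a ≫ V.hom = N₁.hom ≫ f ∧
      GeometricallyConnected a ∧ EtDesc.IsUnivSubmersive a

variable {X S Y T : Scheme.{u}} (f : X ⟶ S) (g : T ⟶ S) (h : Y ⟶ X) (e : Y ⟶ T)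

theorem isPullback_imgMap (c : IsPullback e h g f) {N : X.Etale} {W : S.Etale} (k : N.left ⟶ W.left)
    (hk : k ≫ W.hom = N.hom ≫ f) :
    IsPullback (imgMap f g h e c.w k hk) (pullback.fst N.hom h : ((EtCoh.bc h).obj N).left ⟶ N.left)
      (pullback.fst W.hom g) k := by
  refine IsPullback.of_right ?_ (imgMap_fst f g h e c.w k hk) (IsPullback.of_hasPullback W.hom g).flip
  rw [imgMap_snd]
  exact hk.symm ▸ (IsPullback.of_hasPullback N.hom h).flip.paste_horiz c

variable {F : EtDesc.Sh T} {Ω : Type u} [Field Ω] [IsSepClosed Ω] (η : Spec (CommRingCat.of Ω) ⟶ X)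

theorem injAt (c : IsPullback e h g f) (hf : HasFactor f) : BCGerm.InjAt f g h e c.w F η := by
  intro N n W v k hk s₁ s₂ hnv heq
  obtain ⟨N₁, j₁, z₁, V, a, hz₁, ha, _, hau⟩ := hf N (n.left (default : Spec (CommRingCat.of Ω)))
  obtain ⟨n₁, hn₁, -⟩ := exists_lift_fiber j₁ n z₁ hz₁
  let Wv : V.left.Etale := (EtCoh.bc V.hom).obj W
  have hWv : pullback.fst W.hom V.hom ≫ W.hom = (BCLocal.down Wv).hom := pullback.condition
  have hcond : (j₁.left ≫ k) ≫ W.hom = a ≫ V.hom :=
    (Category.assoc _ _ _).trans ((congrArg (j₁.left ≫ ·) hk).trans ((Category.assoc _ _ _).symm.trans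
      ((congrArg (· ≫ f) (MorphismProperty.Over.w j₁)).trans ha.symm)))
  let a' : N₁.left ⟶ (BCLocal.down Wv).left := pullback.lift (j₁.left ≫ k) a hcond
  let jW : BCLocal.down Wv ⟶ W := MorphismProperty.Over.homMk (pullback.fst W.hom V.hom) hWv trivial
  let WL : Scheme.{u} := (BCLocal.down Wv).left
  let O : WL.Opens := ⟨Set.range a', isOpen_range_lift a hau Wv a' (pullback.lift_snd _ _ _)⟩
  have hrO : Set.range a' ⊆ Set.range O.ι := (Scheme.Opens.range_ι O).symm ▸ subset_rfl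
  let aL : N₁.left ⟶ WL := a'
  let a₀ : N₁.left ⟶ (O : Scheme.{u}) := IsOpenImmersion.lift O.ι aL hrO
  let a'' : N₁.left ⟶ (piece (BCLocal.down Wv) O).left := a₀
  have ha'' : a'' ≫ O.ι = a' := IsOpenImmersion.lift_fac O.ι aL hrO
  have hpc : a' ≫ (BCLocal.down Wv).hom = N₁.hom ≫ f :=
    (congrArg (a' ≫ ·) hWv.symm).trans ((Category.assoc _ _ _).symm.trans
      ((congrArg (· ≫ W.hom) (pullback.lift_fst _ _ _)).trans (hcond.trans ha)))
  have hk'' : a'' ≫ (piece (BCLocal.down Wv) O).hom = N₁.hom ≫ f :=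
    (Category.assoc _ _ _).symm.trans ((congrArg (· ≫ (BCLocal.down Wv).hom) ha'').trans hpc)
  let J : piece (BCLocal.down Wv) O ⟶ W := pieceHom (BCLocal.down Wv) O ≫ jW
  have hJl : a'' ≫ J.left = j₁.left ≫ k :=
    (Category.assoc _ _ _).symm.trans ((congrArg (· ≫ pullback.fst W.hom V.hom) ha'').trans (pullback.lift_fst _ _ _))
  let v' : (Scheme.pointSmallEtale (η ≫ f)).fiber.obj (piece (BCLocal.down Wv) O) :=
    (Over.homMk (n₁.left ≫ a'') ((Category.assoc _ _ _).trans ((congrArg (n₁.left ≫ ·) hk'').trans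
      ((Category.assoc _ _ _).symm.trans (congrArg (· ≫ f) (Over.w n₁))))) :
      Over.mk (η ≫ f) ⟶ (Scheme.Etale.forget S).obj (piece (BCLocal.down Wv) O))
  refine ⟨piece (BCLocal.down Wv) O, J, v', Over.OverMorphism.ext ?_,
    eq_of_eqAt F _ _ fun u => (eqAt_res F _ s₁ s₂ u).2 ?_⟩
  · show (n₁.left ≫ a'') ≫ J.left = v.left
    exact (Category.assoc _ _ _).trans ((congrArg (n₁.left ≫ ·) hJl).trans ((Category.assoc _ _ _).symm.trans
      ((congrArg (· ≫ k) (congrArg (fun p : (Scheme.pointSmallEtale η).fiber.obj N => p.left) hn₁)).trans hnv)))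
  let π : ((EtCoh.bc g).obj (piece (BCLocal.down Wv) O)).left ⟶ (piece (BCLocal.down Wv) O).left :=
    pullback.fst (piece (BCLocal.down Wv) O).hom g
  have hu : ∃ z, a'' z = π u := by
    obtain ⟨z, hz⟩ := (π u).2
    exact ⟨z, Subtype.ext ((congrArg (fun m : N₁.left ⟶ (BCLocal.down Wv).left => m z) ha'').trans hz)⟩
  obtain ⟨z, hz⟩ := hu
  obtain ⟨y, hy, -⟩ := Scheme.exists_preimage_of_isPullback
    (isPullback_imgMap f g h e c (W := piece (BCLocal.down Wv) O) a'' hk'') u z hz.symm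
  have hsq : imgMap f g h e c.w (W := piece (BCLocal.down Wv) O) a'' hk'' ≫ ((EtCoh.bc g).map J).left =
      ((EtCoh.bc h).map j₁).left ≫ imgMap f g h e c.w k hk := by
    refine pullback.hom_ext ?_ ?_
    · refine (Category.assoc _ _ _).trans ((congrArg (_ ≫ ·) (EtCoh.isPullback_bc_map g J).w).trans ?_)
      refine ((Category.assoc _ _ _).symm.trans (congrArg (· ≫ J.left) (imgMap_fst f g h e c.w a'' hk''))).trans ?_
      refine ((Category.assoc _ _ _).trans (congrArg (_ ≫ ·) hJl)).trans ?_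
      refine Eq.trans ?_ ((Category.assoc _ _ _).trans (congrArg (_ ≫ ·) (imgMap_fst f g h e c.w k hk))).symm
      exact ((Category.assoc _ _ _).symm.trans (congrArg (· ≫ k) (EtCoh.isPullback_bc_map h j₁).w.symm)).trans
        (Category.assoc _ _ _)
    · refine (Category.assoc _ _ _).trans ((congrArg (_ ≫ ·) (MorphismProperty.Over.w ((EtCoh.bc g).map J))).trans ?_)
      refine (imgMap_snd f g h e c.w a'' hk'').trans ?_
      refine Eq.trans ?_ ((Category.assoc _ _ _).trans (congrArg (_ ≫ ·) (imgMap_snd f g h e c.w k hk))).symm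
      exact (congrArg (· ≫ e) (MorphismProperty.Over.w ((EtCoh.bc h).map j₁)).symm).trans (Category.assoc _ _ _)
  have hp := congrArg (fun m : ((EtCoh.bc h).obj N₁).left ⟶ ((EtCoh.bc g).obj W).left => m y) hsq
  have hp' : ((EtCoh.bc g).map J).left u = imgMap f g h e c.w k hk (((EtCoh.bc h).map j₁).left y) :=
    (congrArg ((EtCoh.bc g).map J).left hy).symm.trans hp
  exact hp' ▸ (BCLocal.eqAt_img_iff f g h e c.w k hk s₁ s₂ _).1 (BCLocal.eqAt_of_eq _ heq _)

theorem surjAt (c : IsPullback e h g f) (hf : HasFactor f) : BCGerm.SurjAt f g h e c.w F η := by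
  intro N n t
  obtain ⟨N₁, j₁, z₁, V, a, hz₁, ha, _, hau⟩ := hf N (n.left (default : Spec (CommRingCat.of Ω)))
  obtain ⟨n₁, hn₁, -⟩ := exists_lift_fiber j₁ n z₁ hz₁
  let U : Y.Etale := (EtCoh.bc h).obj N₁
  let B : T.Etale := (EtCoh.bc g).obj V
  let φ : U.left ⟶ B.left := imgMap f g h e c.w a ha
  haveI : GeometricallyConnected φ :=
    MorphismProperty.of_isPullback (isPullback_imgMap f g h e c a ha).flip ‹GeometricallyConnected a›
  have hφ : EtDesc.IsUnivSubmersive φ :=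
    isUnivSubmersive_of_isPullback (isPullback_imgMap f g h e c a ha).flip hau
  let π : U.left ⟶ T := U.hom ≫ e
  have hπ : φ ≫ B.hom = π := imgMap_snd f g h e c.w a ha
  let t₁ := ((EtDesc.pullSh e).obj F).obj.map ((EtCoh.bc h).map j₁).op t
  obtain ⟨s₀, hs₀⟩ := exists_secPull_relTop φ B.hom π hπ hφ (valTop e U π rfl t₁)
  obtain ⟨s, hs⟩ := (bijective_toTop F B).2 s₀
  refine ⟨N₁, j₁, n₁, V, a, ha, s, hn₁, ?_⟩
  refine sect_ext_alg ((EtDesc.pullSh e).obj F) _ _ fun L _ _ ξ x => ?_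
  rw [BCGerm.germ_img]
  have ez : x.left ≫ π = ξ ≫ e := (Category.assoc _ _ _).symm.trans (congrArg (· ≫ e) (Over.w x))
  refine (valTop_iff e U π rfl t₁ x.left ξ x rfl (ξ ≫ e) ez rfl _).2 ?_
  let P := BCGerm.imgPt f g h e c.w a ha x
  obtain ⟨v, hv⟩ := (pullAt_bijective π x.left _ ez F).2 (topGerm (valTop e U π rfl t₁) x.left)
  have hq : x.left ≫ φ = P.left := by
    refine pullback.hom_ext ?_ ?_
    · exact (Category.assoc _ _ _).trans ((congrArg (x.left ≫ ·) (imgMap_fst f g h e c.w a ha)).trans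
        (pullback.lift_fst _ _ _).symm)
    · exact (Category.assoc _ _ _).trans ((congrArg (x.left ≫ ·) hπ).trans (ez.trans (pullback.lift_snd _ _ _).symm))
  have h1 := topGerm_secPull φ _ s₀ x.left P.left hq
  rw [hs₀, topGerm_relTop φ B.hom π hπ _ x.left P.left hq (ξ ≫ e) (Over.w P) ez v hv.symm, ← hs,
    topGerm_toTop F B s P.left (ξ ≫ e) P rfl] at h1
  rw [← hv, (pullAt_bijective B.hom P.left _ (Over.w P) F).1 ((pullAt_bijective φ x.left _ hq _).1 h1)]

/-- Base change for morphisms with such factorisations. -/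
theorem isIso_baseChange0Sh (c : IsPullback e h g f) (hf : HasFactor f) :
    IsIso (EtBC.baseChange0Sh g f h e c.w F) :=
  BCGerm.isIso_of_forall f g h e c.w fun _ _ _ η => ⟨injAt f g h e η c hf, surjAt f g h e η c hf⟩

end BC

end Groth.Agent.DescSh.BCConn
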