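import Groth.Agent.DescSh.Morph
import Mathlib.CategoryTheory.Limits.Types.Pullbacks

/-!
Descent of subsheaves along universally submersive morphisms.
-/

set_option autoImplicit false
set_option linter.style.haveILetI false

universe u

open CategoryTheory CategoryTheory.Limits AlgebraicGeometry Opposite
open Groth.Agent.EtaleSite

namespace Groth.Agent.DescSh

variable {X : Scheme.{u}}

/-- `s` is in the image of `a` near the point `u`. -/
def InImAt {F' F : EtDesc.Sh X} (a : F' ⟶ F) {U : X.Etale} (s : F.obj.obj (op U)) (u : U.left) : Prop :=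
  ∃ (W : X.Etale) (g : W ⟶ U) (w : W.left),
    g.left w = u ∧ ∃ x : F'.obj.obj (op W), a.hom.app (op W) x = F.obj.map g.op s

theorem isOpen_inImAt {F' F : EtDesc.Sh X} (a : F' ⟶ F) {U : X.Etale} (s : F.obj.obj (op U)) :
    IsOpen {u : U.left | InImAt a s u} := by
  have h : {u : U.left | InImAt a s u} =
      ⋃ (W : X.Etale) (g : W ⟶ U) (_ : ∃ x : F'.obj.obj (op W), a.hom.app (op W) x = F.obj.map g.op s),
        Set.range g.left := by
    ext u
    simp only [Set.mem_ofPred_eq, Set.mem_iUnion, Set.mem_range, InImAt]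
    exact ⟨fun ⟨W, g, w, e, h⟩ => ⟨W, g, h, w, e⟩, fun ⟨W, g, h, w, e⟩ => ⟨W, g, w, e, h⟩⟩
  rw [h]
  refine isOpen_iUnion fun W => isOpen_iUnion fun g => isOpen_iUnion fun _ => ?_
  haveI := etale_left g
  exact g.left.isOpenMap.isOpen_range

theorem exists_lift_fiber {W U : X.Etale} (g : W ⟶ U) {Ω : Type u} [Field Ω] [IsSepClosed Ω]
    {ξ : Spec (CommRingCat.of Ω) ⟶ X} (x : (Scheme.pointSmallEtale ξ).fiber.obj U) (w : W.left)
    (hw : g.left w = x.left (default : Spec (CommRingCat.of Ω))) :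
    ∃ y : (Scheme.pointSmallEtale ξ).fiber.obj W,
      (Scheme.pointSmallEtale ξ).fiber.map g y = x ∧ y.left (default : Spec (CommRingCat.of Ω)) = w := by
  haveI := etale_left g
  obtain ⟨l, h₁, h₂⟩ := Scheme.exists_fac_of_etale_of_isSepClosed g.left x.left w hw
  refine ⟨(Over.homMk l (by
    change l ≫ W.hom = ξ
    rw [← MorphismProperty.Over.w g, reassoc_of% h₁]
    exact Over.w x) : Over.mk ξ ⟶ (Scheme.Etale.forget X).obj W), Over.OverMorphism.ext h₁, h₂⟩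

theorem inImAt_iff_germ {F' F : EtDesc.Sh X} (a : F' ⟶ F) {U : X.Etale} (s : F.obj.obj (op U))
    {Ω : Type u} [Field Ω] [IsSepClosed Ω] {ξ : Spec (CommRingCat.of Ω) ⟶ X}
    (x : (Scheme.pointSmallEtale ξ).fiber.obj U) {u : U.left}
    (hu : x.left (default : Spec (CommRingCat.of Ω)) = u) :
    InImAt a s u ↔ SetStalk.germ ξ F U x s ∈ Set.range ((SetStalk.stalkSh ξ).map a) := by
  subst hu
  constructor
  · rintro ⟨W, g, w, hw, z, hz⟩
    obtain ⟨y, rfl, -⟩ := exists_lift_fiber g x w hw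
    exact ⟨SetStalk.germ ξ F' W y z, (SetStalk.germ_naturality ξ a W y z).trans
      ((congrArg (SetStalk.germ ξ F W y) hz).trans (SetStalk.germ_res ξ F g y s))⟩
  · rintro ⟨p, hp⟩
    obtain ⟨V, y, z, rfl⟩ := SetStalk.exists_germ_eq ξ F' p
    obtain ⟨c, ⟨p₁, hp₁⟩, ⟨p₂, hp₂⟩, -⟩ :=
      IsCofilteredOrEmpty.cone_objs ((Scheme.pointSmallEtale ξ).fiber.elementsMk _ x)
        ((Scheme.pointSmallEtale ξ).fiber.elementsMk _ y)
    dsimp at p₁ p₂ hp₁ hp₂
    rw [SetStalk.germ_naturality, ← hp₁, ← hp₂, ← SetStalk.germ_res, ← SetStalk.germ_res,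
      SetStalk.germ_eq_iff] at hp
    obtain ⟨W, k, w, hw, e⟩ := hp
    refine ⟨W, k ≫ p₁, w.left (default : Spec (CommRingCat.of Ω)), ?_, F'.obj.map (k ≫ p₂).op z, ?_⟩
    · rw [← hp₁, ← hw]
      rfl
    · rw [NatTrans.naturality_apply, op_comp, op_comp, Functor.map_comp, Functor.map_comp,
        ConcreteCategory.comp_apply, ConcreteCategory.comp_apply]
      exact e

theorem inImAt_res {F' F : EtDesc.Sh X} (a : F' ⟶ F) {U W : X.Etale} (g : W ⟶ U) (s : F.obj.obj (op U))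
    (w : W.left) : InImAt a (F.obj.map g.op s) w ↔ InImAt a s (g.left w) := by
  obtain ⟨Ω, i₁, i₂, ξ, x, hx⟩ := exists_geomPoint w
  rw [inImAt_iff_germ a _ x hx, inImAt_iff_germ a s ((Scheme.pointSmallEtale ξ).fiber.map g x)
    (show g.left (x.left (default : Spec (CommRingCat.of Ω))) = g.left w by rw [hx]), SetStalk.germ_res]

theorem app_injective {F' F : EtDesc.Sh X} (a : F' ⟶ F) [Mono a] (U : X.Etaleᵒᵖ) :
    Function.Injective (a.hom.app U) := by
  have hm : Mono a.hom := inferInstanceAs (Mono ((sheafToPresheaf _ _).map a))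
  exact (CategoryTheory.mono_iff_injective _).1 inferInstance

theorem exists_preimage_of_inImAt {F' F : EtDesc.Sh X} (a : F' ⟶ F) [Mono a] {U : X.Etale}
    (s : F.obj.obj (op U)) (h : ∀ u, InImAt a s u) : ∃ x, a.hom.app (op U) x = s := by
  let S : Sieve U :=
    { arrows := fun W g => ∃ x, a.hom.app (op W) x = F.obj.map g.op s
      downward_closed := fun {W W' g} ⟨x, hx⟩ k => ⟨F'.obj.map k.op x, by
        rw [NatTrans.naturality_apply, hx, ← ConcreteCategory.comp_apply, ← Functor.map_comp, ← op_comp]⟩ }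
  have hS : S ∈ X.smallEtaleTopology U := by
    refine mem_topology_of_forall_exists S fun u => ?_
    obtain ⟨W, g, w, hw, hx⟩ := h u
    exact ⟨W, g, w, hx, hw⟩
  have hsh := (isSheaf_iff_isSheaf_of_type _ _).1 F'.property S hS
  let x : Presieve.FamilyOfElements F'.obj S.arrows := fun W g hg => hg.choose
  have hx : ∀ (W : X.Etale) (g : W ⟶ U) (hg : S g), a.hom.app (op W) (x g hg) = F.obj.map g.op s :=
    fun W g hg => hg.choose_spec
  have hc : x.Compatible := by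
    intro W₁ W₂ Z g₁ g₂ k₁ k₂ h₁ h₂ e
    apply app_injective a
    rw [NatTrans.naturality_apply, NatTrans.naturality_apply, hx, hx, ← ConcreteCategory.comp_apply,
      ← ConcreteCategory.comp_apply, ← Functor.map_comp, ← Functor.map_comp, ← op_comp, ← op_comp, e]
  refine ⟨hsh.amalgamate x hc, eq_of_eqAt _ _ _ fun u => ?_⟩
  obtain ⟨W, g, w, hw, hg⟩ := h u
  refine ⟨W, g, w, hw, ?_⟩
  rw [← NatTrans.naturality_apply, hsh.valid_glue hc g hg]
  exact hx W g hg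

theorem mem_range_natIso {C : Type*} [Category* C] {P Q : C ⥤ Type (u + 1)} (e : P ≅ Q) {A B : C} (a : A ⟶ B)
    (q : Q.obj B) : e.inv.app B q ∈ Set.range (P.map a) ↔ q ∈ Set.range (Q.map a) := by
  constructor
  · rintro ⟨p, hp⟩
    exact ⟨e.hom.app A p, by rw [← NatTrans.naturality_apply, hp, e.inv_hom_id_app_apply]⟩
  · rintro ⟨p, rfl⟩
    exact ⟨e.inv.app A p, (NatTrans.naturality_apply e.inv a p).symm⟩

theorem mem_range_of_natIso_fac {C : Type*} [Category* C] {D : Type*} [Category* D] {R : C ⥤ D}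
    {S : D ⥤ Type (u + 1)} {Q : C ⥤ Type (u + 1)} (e : R ⋙ S ≅ Q) {A₁ A₂ B : C} (a₁ : A₁ ⟶ B) (a₂ : A₂ ⟶ B)
    (φ : R.obj A₁ ⟶ R.obj A₂) (h : φ ≫ R.map a₂ = R.map a₁) (p : Q.obj A₁) :
    Q.map a₁ p ∈ Set.range (Q.map a₂) := by
  rw [← mem_range_natIso e]
  refine ⟨S.map φ (e.inv.app A₁ p), ?_⟩
  rw [NatTrans.naturality_apply]
  change S.map (R.map a₂) (S.map φ _) = S.map (R.map a₁) _
  rw [← ConcreteCategory.comp_apply, ← Functor.map_comp, h]

section Unit

variable {Y : Scheme.{u}} (f : X ⟶ Y)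

theorem inImAt_secUp_iff {G' G : EtDesc.Sh Y} (a : G' ⟶ G) {V : Y.Etale} (s : G.obj.obj (op V))
    (v : ((EtCoh.bc f).obj V).left) :
    InImAt ((EtDesc.pullSh f).map a) (secUp f G s) v ↔
      InImAt a s ((pullback.fst V.hom f : ((EtCoh.bc f).obj V).left ⟶ V.left) v) := by
  obtain ⟨Ω, i₁, i₂, ζ, x', hx⟩ := exists_geomPoint v
  obtain ⟨x, rfl⟩ := (fiberBcEquiv f ζ V).surjective x'
  have hx2 : x.left (default : Spec (CommRingCat.of Ω)) =
      (pullback.fst V.hom f : ((EtCoh.bc f).obj V).left ⟶ V.left) v := by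
    rw [← hx, ← fiberBcEquiv_fst f ζ V x]
    rfl
  rw [inImAt_iff_germ _ _ _ hx, inImAt_iff_germ a s x hx2, secUp, ← SetPush.germ_stalkPullShIso_inv]
  exact mem_range_natIso (SetStalk.stalkPullShIso f ζ) a _

end Unit

section Pair

variable {X' T : Scheme.{u}} (f : X' ⟶ X) (pr₁ pr₂ : T ⟶ X') (w : pr₁ ≫ f = pr₂ ≫ f)

include w in
theorem exists_pointT {W : X.Etale} {P : Scheme.{u}}
    (l₁ l₂ : P ⟶ ((EtCoh.bc f).obj W).left) (v : P ⟶ T)
    (hl : l₁ ≫ pullback.fst W.hom f = l₂ ≫ pullback.fst W.hom f)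
    (hv₁ : v ≫ pr₁ = l₁ ≫ pullback.snd W.hom f) (hv₂ : v ≫ pr₂ = l₂ ≫ pullback.snd W.hom f) (c : P) :
    ∃ z : ((EtCoh.bc pr₂).obj ((EtCoh.bc f).obj W)).left,
      (pullback.fst ((EtCoh.bc f).obj W).hom pr₁ :
          ((EtCoh.bc pr₁).obj ((EtCoh.bc f).obj W)).left ⟶ ((EtCoh.bc f).obj W).left)
        ((τ f pr₁ pr₂ w W).left z) = l₁ c ∧
      (pullback.fst ((EtCoh.bc f).obj W).hom pr₂ :
          ((EtCoh.bc pr₂).obj ((EtCoh.bc f).obj W)).left ⟶ ((EtCoh.bc f).obj W).left) z = l₂ c := by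
  let ψ : P ⟶ ((EtCoh.bc pr₂).obj ((EtCoh.bc f).obj W)).left := pullback.lift l₂ v hv₂.symm
  have hψ2 : ψ ≫ pullback.fst ((EtCoh.bc f).obj W).hom pr₂ = l₂ := pullback.lift_fst _ _ _
  have hψh : ψ ≫ ((EtCoh.bc pr₂).obj ((EtCoh.bc f).obj W)).hom = v := pullback.lift_snd _ _ _
  have hψ1 : ψ ≫ (τ f pr₁ pr₂ w W).left ≫ pullback.fst ((EtCoh.bc f).obj W).hom pr₁ = l₁ := by
    refine (congrArg (ψ ≫ ·) (τ_fst f pr₁ pr₂ w W)).trans (pullback.hom_ext ?_ ?_)
    · exact ((Category.assoc _ _ _).trans (congrArg (ψ ≫ ·) (pullback.lift_fst _ _ _))).trans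
        (((reassoc_of% hψ2) (pullback.fst W.hom f)).trans hl.symm)
    · exact ((Category.assoc _ _ _).trans (congrArg (ψ ≫ ·) (pullback.lift_snd _ _ _))).trans
        (((reassoc_of% hψh) pr₁).trans hv₁)
  exact ⟨ψ c, congrArg (fun k : P ⟶ pullback W.hom f => k c) hψ1,
    congrArg (fun k : P ⟶ pullback W.hom f => k c) hψ2⟩

theorem InImAt.mapSquare {Y : Scheme.{u}} {A B A' B' : EtDesc.Sh Y} {a : A ⟶ B} {a' : A' ⟶ B'}
    {φ : A ⟶ A'} {c : B ⟶ B'} (h : φ ≫ a' = a ≫ c) {U : Y.Etale} {s : B.obj.obj (op U)} {u : U.left}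
    (hu : InImAt a s u) : InImAt a' (c.hom.app (op U) s) u := by
  obtain ⟨W, g, x, hx, z, hz⟩ := hu
  refine ⟨W, g, x, hx, φ.hom.app (op W) z, ?_⟩
  rw [← NatTrans.naturality_apply, ← hz]
  exact congrArg (fun k => k.hom.app (op W) z) h

theorem inImT_saturated {F : EtDesc.Sh X} {G' : EtDesc.Sh X'} (a : G' ⟶ (EtDesc.pullSh f).obj F)
    {φ : (EtDesc.pullSh pr₁).obj G' ⟶ (EtDesc.pullSh pr₂).obj G'}
    (hφ : φ ≫ (EtDesc.pullSh pr₂).map a = (EtDesc.pullSh pr₁).map a ≫ (canT f pr₁ pr₂ w F).hom)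
    {W : X.Etale} (t : F.obj.obj (op W)) {P : Scheme.{u}}
    (l₁ l₂ : P ⟶ ((EtCoh.bc f).obj W).left) (v : P ⟶ T)
    (hl : l₁ ≫ pullback.fst W.hom f = l₂ ≫ pullback.fst W.hom f)
    (hv₁ : v ≫ pr₁ = l₁ ≫ pullback.snd W.hom f) (hv₂ : v ≫ pr₂ = l₂ ≫ pullback.snd W.hom f)
    (c : P) (h : InImAt a (secUp f F t) (l₁ c)) : InImAt a (secUp f F t) (l₂ c) := by
  obtain ⟨z, e1, e2⟩ := exists_pointT f pr₁ pr₂ w l₁ l₂ v hl hv₁ hv₂ c
  have h' := InImAt.mapSquare hφ ((inImAt_res _ (τ f pr₁ pr₂ w W) _ z).2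
    ((inImAt_secUp_iff pr₁ a (secUp f F t) _).2 (e1.symm ▸ h)))
  have hA := agreeT_secUp f pr₁ pr₂ w F t
  unfold AgreeT at hA
  rw [hA] at h'
  rw [← e2]
  exact (inImAt_secUp_iff pr₂ a (secUp f F t) _).1 h'

end Pair

variable {X' : Scheme.{u}} (f : X' ⟶ X)

theorem inIm_saturated {F : EtDesc.Sh X} {G' : EtDesc.Sh X'} (a : G' ⟶ (EtDesc.pullSh f).obj F)
    {φ : (EtDesc.pullSh (pullback.fst f f)).obj G' ⟶ (EtDesc.pullSh (pullback.snd f f)).obj G'}
    (hφ : φ ≫ (EtDesc.pullSh (pullback.snd f f)).map a =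
      (EtDesc.pullSh (pullback.fst f f)).map a ≫ (EtDesc.canIso f F).hom)
    {W : X.Etale} (t : F.obj.obj (op W)) (w₁ w₂ : ((EtCoh.bc f).obj W).left)
    (hw : (pullback.fst W.hom f : ((EtCoh.bc f).obj W).left ⟶ W.left) w₁ =
      (pullback.fst W.hom f : ((EtCoh.bc f).obj W).left ⟶ W.left) w₂)
    (h : InImAt a (secUp f F t) w₁) : InImAt a (secUp f F t) w₂ := by
  rw [canIso_eq] at hφ
  let q : pullback W.hom f ⟶ W.left := pullback.fst W.hom f
  obtain ⟨c, hc1, hc2⟩ := Scheme.Pullback.exists_preimage_pullback (f := q) (g := q) w₁ w₂ hw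
  have hc : pullback.fst q q ≫ q = pullback.snd q q ≫ q := pullback.condition
  have hcond : (pullback.fst q q ≫ pullback.snd W.hom f) ≫ f =
      (pullback.snd q q ≫ pullback.snd W.hom f) ≫ f :=
    (Category.assoc _ _ _).trans ((congrArg (pullback.fst q q ≫ ·) pullback.condition.symm).trans
      (((reassoc_of% hc) W.hom).trans ((congrArg (pullback.snd q q ≫ ·) pullback.condition).trans
        (Category.assoc _ _ _).symm)))
  rw [← hc2]
  exact inImT_saturated f _ _ pullback.condition a hφ t (pullback.fst q q) (pullback.snd q q)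
    (pullback.lift _ _ hcond) hc (pullback.lift_fst _ _ _) (pullback.lift_snd _ _ _) c (hc1.symm ▸ h)

/-- Subsheaves descend. -/
theorem exists_desc_sub (hf : EtDesc.IsUnivSubmersive f) {F : EtDesc.Sh X} {G' : EtDesc.Sh X'}
    (a : G' ⟶ (EtDesc.pullSh f).obj F) [Mono a]
    {φ : (EtDesc.pullSh (pullback.fst f f)).obj G' ⟶ (EtDesc.pullSh (pullback.snd f f)).obj G'}
    (hφ : φ ≫ (EtDesc.pullSh (pullback.snd f f)).map a =
      (EtDesc.pullSh (pullback.fst f f)).map a ≫ (EtDesc.canIso f F).hom) :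
    ∃ (G : EtDesc.Sh X) (b : G ⟶ F) (_ : Mono b) (ψ : (EtDesc.pullSh f).obj G ≅ G'),
      ψ.hom ≫ a = (EtDesc.pullSh f).map b := by
  haveI := (EtDesc.adjSh f).rightAdjoint_preservesLimits
  haveI : Mono ((EtDesc.pushSh f).map a) := inferInstance
  let η := (EtDesc.adjSh f).unit.app F
  let b : pullback η ((EtDesc.pushSh f).map a) ⟶ F := pullback.fst η _
  haveI : Mono b := pullback.fst_of_mono
  let ψ₀ : (EtDesc.pullSh f).obj (pullback η ((EtDesc.pushSh f).map a)) ⟶ G' :=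
    ((EtDesc.adjSh f).homEquiv _ _).symm (pullback.snd η _)
  have hψ : ψ₀ ≫ a = (EtDesc.pullSh f).map b := by
    refine ((EtDesc.adjSh f).homEquiv_naturality_right_symm (pullback.snd η _) a).symm.trans ?_
    apply ((EtDesc.adjSh f).homEquiv _ _).injective
    rw [Equiv.apply_symm_apply, Adjunction.homEquiv_unit, ← pullback.condition]
    exact (EtDesc.adjSh f).unit.naturality b
  haveI := SetStalk.faithful_pull (f := 𝟙 X)
  haveI : Mono ((EtDesc.pullSh f).map b) := SetStalk.mono_of_stalk _ fun Ω _ _ ζ =>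
    (SetStalk.stalk_pull_map_bijective_iff f b ζ).1.2 (SetStalk.stalk_injective_of_mono b _)
  haveI : Mono ψ₀ := mono_of_mono_fac hψ
  haveI : Epi ψ₀ := by
    refine SetStalk.epi_of_stalk ψ₀ fun Ω _ _ ζ p => ?_
    obtain ⟨W, y, t, ht⟩ := SetStalk.exists_germ_eq (ζ ≫ f) F
      ((SetStalk.stalkPullShIso f ζ).hom.app F ((SetStalk.stalkSh ζ).map a p))
    have hgerm : SetStalk.germ ζ _ _ (fiberBcEquiv f ζ W y) (secUp f F t) =
        (SetStalk.stalkSh ζ).map a p := by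
      rw [secUp, ← SetPush.germ_stalkPullShIso_inv, ht]
      exact (SetStalk.stalkPullShIso f ζ).hom_inv_id_app_apply F _
    let w : ((EtCoh.bc f).obj W).left :=
      (fiberBcEquiv f ζ W y).left (default : Spec (CommRingCat.of Ω))
    have hw : InImAt a (secUp f F t) w := (inImAt_iff_germ a _ _ rfl).2 ⟨p, hgerm.symm⟩
    let q : ((EtCoh.bc f).obj W).left ⟶ W.left := pullback.fst W.hom f
    let Z := {z : ((EtCoh.bc f).obj W).left | InImAt a (secUp f F t) z}
    have hsat : q.base ⁻¹' (q.base '' Z) = Z := Set.Subset.antisymm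
      (fun z ⟨z₁, hz₁, e⟩ => inIm_saturated f a hφ t z₁ z e hz₁)
      (Set.subset_preimage_image _ _)
    let O : W.left.Opens := ⟨q.base '' Z, (isQuotientMap_fst f hf W).2.isOpen_preimage.1
      (hsat.symm ▸ isOpen_inImAt _ _)⟩
    have hqw : q w = y.left (default : Spec (CommRingCat.of Ω)) := by
      rw [← fiberBcEquiv_fst f ζ W y]
      rfl
    obtain ⟨y₀, hy₀, -⟩ := exists_lift_fiber (pieceHom W O) y (⟨q w, w, hw, rfl⟩ : O) hqw
    obtain ⟨x₀, hx₀⟩ := exists_preimage_of_inImAt a (secUp f F (F.obj.map (pieceHom W O).op t))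
      fun z => by
        rw [secUp_res, inImAt_res]
        refine hsat.le ?_
        change q (((EtCoh.bc f).map (pieceHom W O)).left z) ∈ O
        rw [← Scheme.Hom.comp_apply, (EtCoh.isPullback_bc_map f (pieceHom W O)).w]
        exact Subtype.coe_prop _
    have sq := (IsPullback.of_hasPullback η ((EtDesc.pushSh f).map a)).map
      (sheafToPresheaf _ _ ⋙ (evaluation _ (Type (u + 1))).obj (op (piece W O)))
    obtain ⟨g₀, hg₁, hg₂⟩ := Types.exists_of_isPullback sq (F.obj.map (pieceHom W O).op t) x₀ hx₀.symm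
    refine ⟨SetStalk.germ ζ _ _ (fiberBcEquiv f ζ (piece W O) y₀) (secUp f _ g₀), ?_⟩
    apply SetStalk.stalk_injective_of_mono a ζ
    rw [SetStalk.germ_naturality, SetStalk.germ_naturality, ← hgerm]
    have h1 : ψ₀.hom.app (op ((EtCoh.bc f).obj (piece W O))) (secUp f _ g₀) = x₀ := by
      have e := Equiv.apply_symm_apply ((EtDesc.adjSh f).homEquiv _ G') (pullback.snd η ((EtDesc.pushSh f).map a))
      rw [Adjunction.homEquiv_unit] at e
      exact (congrArg (fun k => k.hom.app (op (piece W O)) g₀) e).trans hg₂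
    rw [h1, hx₀, secUp_res, SetStalk.germ_res]
    refine congrArg (fun k => SetStalk.germ ζ _ _ k _) ?_
    exact (congrArg (fun k => k y₀) ((fiberBcIso f ζ).hom.naturality (pieceHom W O))).symm.trans
      (congrArg (fiberBcEquiv f ζ W) hy₀)
  haveI : IsIso ψ₀ := isIso_of_mono_of_epi ψ₀
  exact ⟨_, b, inferInstance, asIso ψ₀, hψ⟩

theorem exists_iso_of_pull_iso [Surjective f] {F G₁ G₂ : EtDesc.Sh X} (a₁ : G₁ ⟶ F) (a₂ : G₂ ⟶ F)
    [Mono a₁] [Mono a₂] (φ : (EtDesc.pullSh f).obj G₁ ≅ (EtDesc.pullSh f).obj G₂)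
    (hφ : φ.hom ≫ (EtDesc.pullSh f).map a₂ = (EtDesc.pullSh f).map a₁) :
    ∃ ψ : G₁ ≅ G₂, ψ.hom ≫ a₂ = a₁ := by
  have hst : ∀ (Ω : Type u) [Field Ω] [IsSepClosed Ω] (ζ : Spec (CommRingCat.of Ω) ⟶ X'),
      ∀ p, (SetStalk.stalkSh (ζ ≫ f)).map a₁ p ∈ Set.range ((SetStalk.stalkSh (ζ ≫ f)).map a₂) := by
    intro Ω _ _ ζ p
    exact mem_range_of_natIso_fac (SetStalk.stalkPullShIso f ζ) a₁ a₂ φ.hom hφ p
  have hiff : ∀ (U : X.Etale) (s : G₁.obj.obj (op U)), ∃ x, a₂.hom.app (op U) x = a₁.hom.app (op U) s := by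
    intro U s
    refine exists_preimage_of_inImAt a₂ _ fun u => ?_
    obtain ⟨x', hx'⟩ := f.surjective (U.hom u)
    obtain ⟨v, rfl, -⟩ := Scheme.Pullback.exists_preimage_pullback (f := U.hom) (g := f) u x' hx'.symm
    obtain ⟨Ω, i₁, i₂, ζ, x', hx⟩ := exists_geomPoint (U := (EtCoh.bc f).obj U) v
    obtain ⟨x, rfl⟩ := (fiberBcEquiv f ζ U).surjective x'
    refine (inImAt_iff_germ a₂ _ x ?_).2 ?_
    · rw [← hx, ← fiberBcEquiv_fst f ζ U x]
      rfl
    · rw [← SetStalk.germ_naturality]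
      exact hst Ω ζ _
  choose χ hχ using hiff
  let ψ : G₁ ⟶ G₂ := ⟨{
    app := fun U => TypeCat.ofHom (χ U.unop)
    naturality := fun U V g => by
      ext s
      refine app_injective a₂ _ ?_
      change a₂.hom.app V (χ V.unop (G₁.obj.map g s)) = a₂.hom.app V (G₂.obj.map g (χ U.unop s))
      rw [hχ, NatTrans.naturality_apply, NatTrans.naturality_apply, hχ] }⟩
  have hψ : ψ ≫ a₂ = a₁ := by
    ext U s
    exact hχ U.unop s
  have hpull : (EtDesc.pullSh f).map ψ = φ.hom := by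
    haveI : Mono ((EtDesc.pullSh f).map a₂) := SetStalk.mono_of_stalk _ fun Ω _ _ ζ =>
      (SetStalk.stalk_pull_map_bijective_iff f a₂ ζ).1.2 (SetStalk.stalk_injective_of_mono a₂ _)
    rw [← cancel_mono ((EtDesc.pullSh f).map a₂), ← Functor.map_comp, hψ, hφ]
  haveI := SetStalk.reflectsIsomorphisms_pull f
  haveI : IsIso ((EtDesc.pullSh f).map ψ) := hpull ▸ inferInstance
  haveI : IsIso ψ := isIso_of_reflects_iso ψ (EtDesc.pullSh f)
  exact ⟨asIso ψ, hψ⟩

end Groth.Agent.DescSh
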