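import Groth.Agent.DescSh.Top
import Groth.Agent.DescSh.Sub
import Groth.Prelude.Def_EtBCD
import Mathlib.CategoryTheory.Sites.LeftExact

/-!
Sections along cartesian squares.
-/

set_option autoImplicit false
set_option linter.style.haveILetI false

universe u

open CategoryTheory CategoryTheory.Limits AlgebraicGeometry Opposite
open Groth.Agent.EtaleSite

namespace Groth.Agent.DescSh

variable {X Y Xb Yb : Scheme.{u}} (h : Y ⟶ X) (p : Xb ⟶ X) (hb : Yb ⟶ Xb) (pY : Yb ⟶ Y)

set_option backward.isDefEq.respectTransparency.types false in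
theorem pullbackComp_inv_fst {T S : Scheme.{u}} (g : T ⟶ S) (a : S ⟶ X) (W : X.Etale) :
    ((MorphismProperty.Over.pullbackComp (P := EtCoh.etaleMP) (Q := ⊤) g a).inv.app W).left ≫
      pullback.fst W.hom (g ≫ a) = pullback.fst ((EtCoh.bc a).obj W).hom g ≫ pullback.fst W.hom a := by
  rw [← MorphismProperty.Over.pullbackComp_left_fst_fst (P := EtCoh.etaleMP) (Q := ⊤) g a W,
    ← Category.assoc, ← MorphismProperty.Comma.comp_left, Iso.inv_hom_id_app]
  exact Category.id_comp _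

set_option backward.isDefEq.respectTransparency.types false in
theorem pullbackCongr_inv_fst {T : Scheme.{u}} {a a' : T ⟶ X} (w : a = a') (W : X.Etale) :
    ((MorphismProperty.Over.pullbackCongr (P := EtCoh.etaleMP) (Q := ⊤) w).inv.app W).left ≫
      pullback.fst W.hom a = pullback.fst W.hom a' := by
  rw [← MorphismProperty.Over.pullbackCongr_hom_app_left_fst (P := EtCoh.etaleMP) (Q := ⊤) w W,
    ← Category.assoc, ← MorphismProperty.Comma.comp_left, Iso.inv_hom_id_app]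
  exact Category.id_comp _

/-- The comparison `p_Y^{-1} h^{-1} W ⟶ h̄^{-1} p^{-1} W`. -/
noncomputable def sqHom (w : hb ≫ p = pY ≫ h) (W : X.Etale) :
    (EtCoh.bc pY).obj ((EtCoh.bc h).obj W) ⟶ (EtCoh.bc hb).obj ((EtCoh.bc p).obj W) :=
  (MorphismProperty.Over.pullbackComp (P := EtCoh.etaleMP) (Q := ⊤) pY h).inv.app W ≫
    (MorphismProperty.Over.pullbackCongr (P := EtCoh.etaleMP) (Q := ⊤) w).inv.app W ≫
      (MorphismProperty.Over.pullbackComp (P := EtCoh.etaleMP) (Q := ⊤) hb p).hom.app W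

set_option backward.isDefEq.respectTransparency.types false in
theorem sqHom_fst (w : hb ≫ p = pY ≫ h) (W : X.Etale) :
    (sqHom h p hb pY w W).left ≫ pullback.fst ((EtCoh.bc p).obj W).hom hb ≫ pullback.fst W.hom p =
      pullback.fst ((EtCoh.bc h).obj W).hom pY ≫ pullback.fst W.hom h := by
  have e₁ := MorphismProperty.Over.pullbackComp_left_fst_fst (P := EtCoh.etaleMP) (Q := ⊤) hb p W
  have e₄ := pullbackCongr_inv_fst w W
  have e₅ := pullbackComp_inv_fst pY h W
  simp only [sqHom, MorphismProperty.Comma.comp_left, Category.assoc]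
  exact ((congrArg (_ ≫ ·) (congrArg (_ ≫ ·) e₁)).trans (congrArg (_ ≫ ·) e₄)).trans e₅

set_option backward.isDefEq.respectTransparency.types false in
/-- The base change morphism on inverse images of sections. -/
theorem baseChange0Sh_secUp (w : hb ≫ p = pY ≫ h) (G : EtDesc.Sh Xb) (W : X.Etale)
    (u : ((EtDesc.pushSh p).obj G).obj.obj (op W)) :
    (EtBC.baseChange0Sh p h pY hb w G).hom.app (op ((EtCoh.bc h).obj W))
        (secUp h ((EtDesc.pushSh p).obj G) u) =
      ((EtDesc.pullSh hb).obj G).obj.map (sqHom h p hb pY w W).op (secUp hb G u) := by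
  have key := (EtDesc.adjSh h).homEquiv_unit ((EtDesc.pushSh p).obj G)
    ((EtDesc.pushSh pY).obj ((EtDesc.pullSh hb).obj G)) (EtBC.baseChange0Sh p h pY hb w G)
  rw [EtBC.baseChange0Sh, Equiv.apply_symm_apply] at key
  refine (congrArg (fun k => k.hom.app (op W) u) key.symm).trans ?_
  simp [sqHom, EtBC.pushCongrSh, EtDesc.pushCompSh, secUp]
  rfl

theorem map_comp_op {S : Scheme.{u}} (F : EtDesc.Sh S) {A B C : S.Etale} (a : A ⟶ B) (b : B ⟶ C)
    (x : F.obj.obj (op C)) : F.obj.map (a ≫ b).op x = F.obj.map a.op (F.obj.map b.op x) := by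
  rw [op_comp, Functor.map_comp, ConcreteCategory.comp_apply]

theorem map_op_of_eq {S : Scheme.{u}} (F : EtDesc.Sh S) {A B C : S.Etale} {k : A ⟶ C} {a : A ⟶ B}
    {b : B ⟶ C} (e : k = a ≫ b) (x : F.obj.obj (op C)) :
    F.obj.map k.op x = F.obj.map a.op (F.obj.map b.op x) := by
  subst e
  exact map_comp_op F a b x

theorem trans_symm_app {S : Scheme.{u}} {L M N : EtDesc.Sh S} (j : L ≅ N) (i : M ≅ N) {P Q : S.Etale}
    (k : P ⟶ Q) (z : L.obj.obj (op P)) (x : M.obj.obj (op Q)) (y : N.obj.obj (op Q))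
    (hj : j.hom.hom.app (op P) z = N.obj.map k.op y) (hi : i.hom.hom.app (op Q) x = y) :
    (j ≪≫ i.symm).hom.hom.app (op P) z = M.obj.map k.op x := by
  subst hi
  change i.inv.hom.app (op P) (j.hom.hom.app (op P) z) = _
  rw [hj, ← NatTrans.naturality_apply]
  exact congrArg (fun m => m.hom.app (op P) (M.obj.map k.op x)) i.hom_inv_id

theorem homEquiv_app {T S : Scheme.{u}} (g : T ⟶ S) (M : EtDesc.Sh S) (N : EtDesc.Sh T)
    (φ : (EtDesc.pullSh g).obj M ⟶ N) (V : S.Etale) (t : M.obj.obj (op V)) :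
    ((EtDesc.adjSh g).homEquiv M N φ).hom.app (op V) t = φ.hom.app (op ((EtCoh.bc g).obj V)) (secUp g M t) := by
  rw [Adjunction.homEquiv_unit]
  rfl

theorem hom_ext_secUp {T S : Scheme.{u}} (g : T ⟶ S) {M : EtDesc.Sh S} {N : EtDesc.Sh T}
    (a b : (EtDesc.pullSh g).obj M ⟶ N)
    (e : ∀ (W : S.Etale) (s : M.obj.obj (op W)), a.hom.app (op ((EtCoh.bc g).obj W)) (secUp g M s) =
      b.hom.app (op ((EtCoh.bc g).obj W)) (secUp g M s)) : a = b := by
  refine ((EtDesc.adjSh g).homEquiv _ _).injective ?_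
  ext W s
  exact (homEquiv_app g M N a W.unop s).trans ((e W.unop s).trans (homEquiv_app g M N b W.unop s).symm)

theorem app_eq_of_secUp {T S U : Scheme.{u}} (g : T ⟶ S) (q : U ⟶ T) {M : EtDesc.Sh S} {A : EtDesc.Sh T}
    {N : EtDesc.Sh U} (a : (EtDesc.pullSh g).obj M ⟶ A) (b : A ⟶ (EtDesc.pushSh q).obj N)
    (i : (EtDesc.pullSh q).obj ((EtDesc.pullSh g).obj M) ⟶ N)
    (e : ∀ (W : S.Etale) (s : M.obj.obj (op W)),
      b.hom.app (op ((EtCoh.bc g).obj W)) (a.hom.app (op ((EtCoh.bc g).obj W)) (secUp g M s)) =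
      i.hom.app (op ((EtCoh.bc q).obj ((EtCoh.bc g).obj W))) (secUp q _ (secUp g M s)))
    (V : T.Etale) (t : ((EtDesc.pullSh g).obj M).obj.obj (op V)) :
    b.hom.app (op V) (a.hom.app (op V) t) =
      i.hom.app (op ((EtCoh.bc q).obj V)) (secUp q _ t) := by
  have hab : a ≫ b = (EtDesc.adjSh q).homEquiv _ _ i :=
    hom_ext_secUp g _ _ fun W s => (e W s).trans (homEquiv_app q _ _ i _ _).symm
  exact (congrArg (fun k => k.hom.app (op V) t) hab).trans (homEquiv_app q _ _ i V t)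

/-- The identification `p_Y^*h^*F ≅ h̄^*p^*F`. -/
noncomputable def sqIso (w : hb ≫ p = pY ≫ h) (F : EtDesc.Sh X) :
    (EtDesc.pullSh pY).obj ((EtDesc.pullSh h).obj F) ≅ (EtDesc.pullSh hb).obj ((EtDesc.pullSh p).obj F) :=
  EtDesc.pullVia pY h (pY ≫ h) rfl F ≪≫ (EtDesc.pullVia hb p (pY ≫ h) w F).symm

theorem sqIso_secUp (w : hb ≫ p = pY ≫ h) (F : EtDesc.Sh X) (W : X.Etale) (s : F.obj.obj (op W)) :
    (sqIso h p hb pY w F).hom.hom.app (op ((EtCoh.bc pY).obj ((EtCoh.bc h).obj W)))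
        (secUp pY _ (secUp h F s)) =
      ((EtDesc.pullSh hb).obj ((EtDesc.pullSh p).obj F)).obj.map (sqHom h p hb pY w W).op
        (secUp hb _ (secUp p F s)) := by
  let κ₁ := (MorphismProperty.Over.pullbackComp (P := EtCoh.etaleMP) (Q := ⊤) pY h).inv.app W
  have hκ₁ : κ₁.left ≫ pullback.fst W.hom (pY ≫ h) =
      pullback.fst ((EtCoh.bc h).obj W).hom pY ≫ pullback.fst W.hom h := pullbackComp_inv_fst pY h W
  let κ₂ : (EtCoh.bc hb).obj ((EtCoh.bc p).obj W) ⟶ (EtCoh.bc (pY ≫ h)).obj W :=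
    (MorphismProperty.Over.pullbackComp (P := EtCoh.etaleMP) (Q := ⊤) hb p).inv.app W ≫
      (MorphismProperty.Over.pullbackCongr (P := EtCoh.etaleMP) (Q := ⊤) w).hom.app W
  have hκ₂ : κ₂.left ≫ pullback.fst W.hom (pY ≫ h) =
      pullback.fst ((EtCoh.bc p).obj W).hom hb ≫ pullback.fst W.hom p := by
    simp only [κ₂, MorphismProperty.Comma.comp_left, Category.assoc]
    exact (congrArg (_ ≫ ·) (MorphismProperty.Over.pullbackCongr_hom_app_left_fst (P := EtCoh.etaleMP) (Q := ⊤) w W)).trans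
      (pullbackComp_inv_fst hb p W)
  have e₁ := secUp_pullVia pY h (pY ≫ h) rfl F s κ₁ hκ₁
  have e₂ := secUp_pullVia hb p (pY ≫ h) w F s κ₂ hκ₂
  have hκ : κ₁ = sqHom h p hb pY w W ≫ κ₂ := by
    refine bc_hom_ext _ _ (hκ₁.trans ?_)
    change _ = ((sqHom h p hb pY w W).left ≫ κ₂.left) ≫ _
    exact ((Category.assoc _ _ _).trans ((congrArg (_ ≫ ·) hκ₂).trans (sqHom_fst h p hb pY w W))).symm
  have e₃ : (EtDesc.pullVia pY h (pY ≫ h) rfl F).hom.hom.app (op ((EtCoh.bc pY).obj ((EtCoh.bc h).obj W)))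
      (secUp pY _ (secUp h F s)) =
      ((EtDesc.pullSh (pY ≫ h)).obj F).obj.map (sqHom h p hb pY w W).op
        (((EtDesc.pullSh (pY ≫ h)).obj F).obj.map κ₂.op (secUp (pY ≫ h) F s)) :=
    e₁.trans (map_op_of_eq _ hκ _)
  exact trans_symm_app _ _ _ _ _ _ e₃ e₂

/-- The base change morphism restricted to `h^*F`. -/
theorem baseChange0Sh_unit_app (w : hb ≫ p = pY ≫ h) (F : EtDesc.Sh X) (V : Y.Etale)
    (t : ((EtDesc.pullSh h).obj F).obj.obj (op V)) :
    (EtBC.baseChange0Sh p h pY hb w ((EtDesc.pullSh p).obj F)).hom.app (op V)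
        (((EtDesc.pullSh h).map ((EtDesc.adjSh p).unit.app F)).hom.app (op V) t) =
      (sqIso h p hb pY w F).hom.hom.app (op ((EtCoh.bc pY).obj V)) (secUp pY _ t) := by
  refine app_eq_of_secUp (T := Y) h pY ((EtDesc.pullSh h).map ((EtDesc.adjSh p).unit.app F))
    (EtBC.baseChange0Sh p h pY hb w ((EtDesc.pullSh p).obj F)) (sqIso h p hb pY w F).hom (fun W s => ?_) V t
  exact ((congrArg ((EtBC.baseChange0Sh p h pY hb w ((EtDesc.pullSh p).obj F)).hom.app (op ((EtCoh.bc h).obj W)))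
      (secUp_map h ((EtDesc.adjSh p).unit.app F) s)).trans
      (baseChange0Sh_secUp h p hb pY w _ W _)).trans
    (sqIso_secUp h p hb pY w F W s).symm

end Groth.Agent.DescSh

namespace Groth.Agent.DescSh

variable {S T : Scheme.{u}} (f : T ⟶ S)

theorem secPull_eq (G : EtDesc.Sh S) (s : G.obj.obj (op (EtCoh.top S))) :
    EtDesc.secPull f G s = ((EtDesc.pullSh f).obj G).obj.map (EtCore.bcTopIso f).inv.op (secUp f G s) :=
  rfl

theorem bijective_map_iso (G : EtDesc.Sh S) {A B : S.Etale} (e : A ≅ B) :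
    Function.Bijective (G.obj.map e.hom.op) :=
  ⟨fun x y h => (map_map_self G _ _ e.inv_hom_id x).symm.trans
      ((congrArg (G.obj.map e.inv.op) h).trans (map_map_self G _ _ e.inv_hom_id y)),
    fun y => ⟨G.obj.map e.inv.op y, map_map_self G _ _ e.hom_inv_id y⟩⟩

theorem injective_secPull_iff_secUp (G : EtDesc.Sh S) {W : S.Etale} (hW : IsTerminal W) :
    Function.Injective (EtDesc.secPull f G) ↔ Function.Injective (secUp f G (V := W)) := by
  let e : W ≅ EtCoh.top S := hW.uniqueUpToIso (EtCore.topIsTerminal S)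
  have h₁ : secUp f G (V := W) ∘ G.obj.map e.hom.op =
      ((EtDesc.pullSh f).obj G).obj.map ((EtCoh.bc f).mapIso e).hom.op ∘ secUp f G :=
    funext fun s => secUp_res f G e.hom s
  have h₂ : EtDesc.secPull f G =
      ((EtDesc.pullSh f).obj G).obj.map (EtCore.bcTopIso f).symm.hom.op ∘ secUp f G := rfl
  rw [h₂, (bijective_map_iso _ _).1.of_comp_iff, ← Function.Injective.of_comp_iff' (secUp f G (V := W))
    (bijective_map_iso G e), h₁, (bijective_map_iso _ _).1.of_comp_iff]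

theorem bijective_secPull_iff_secUp (G : EtDesc.Sh S) {W : S.Etale} (hW : IsTerminal W) :
    Function.Bijective (EtDesc.secPull f G) ↔ Function.Bijective (secUp f G (V := W)) := by
  let e : W ≅ EtCoh.top S := hW.uniqueUpToIso (EtCore.topIsTerminal S)
  have h₁ : secUp f G (V := W) ∘ G.obj.map e.hom.op =
      ((EtDesc.pullSh f).obj G).obj.map ((EtCoh.bc f).mapIso e).hom.op ∘ secUp f G :=
    funext fun s => secUp_res f G e.hom s
  have h₂ : EtDesc.secPull f G =
      ((EtDesc.pullSh f).obj G).obj.map (EtCore.bcTopIso f).symm.hom.op ∘ secUp f G := rfl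
  rw [h₂, (bijective_map_iso _ _).of_comp_iff', ← Function.Bijective.of_comp_iff (secUp f G (V := W))
    (bijective_map_iso G e), h₁, (bijective_map_iso _ _).of_comp_iff']

theorem app_eq_app_of_comp_eq {A B C : EtDesc.Sh S} (a : A ⟶ B) (i₁ i₂ : B ⟶ C) (e : a ≫ i₁ = a ≫ i₂)
    (W : S.Etaleᵒᵖ) (t : A.obj.obj W) : i₁.hom.app W (a.hom.app W t) = i₂.hom.app W (a.hom.app W t) :=
  congrArg (fun k => k.hom.app W t) e

theorem mono_pull_map {F K : EtDesc.Sh S} (η : F ⟶ K) [Mono η] : Mono ((EtDesc.pullSh f).map η) :=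
  SetStalk.mono_of_stalk _ fun _ _ _ ξ =>
    (SetStalk.stalk_pull_map_bijective_iff f η ξ).1.2 (SetStalk.stalk_injective_of_mono η _)

theorem isIso_app_of_isIso {A B : EtDesc.Sh S} (a : A ⟶ B) [IsIso a] (W : S.Etaleᵒᵖ) :
    IsIso (a.hom.app W) :=
  inferInstanceAs (IsIso (((sheafToPresheaf _ _).map a).app W))

/-- A section on which all maps equalizing a monomorphism agree comes from the source. -/
theorem exists_preimage_of_forall_eq {F K : EtDesc.Sh S} (η : F ⟶ K) [Mono η] {W : S.Etale}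
    (u : K.obj.obj (op W))
    (h : ∀ (Q : EtDesc.Sh S) (i₁ i₂ : K ⟶ Q), η ≫ i₁ = η ≫ i₂ →
      i₁.hom.app (op W) u = i₂.hom.app (op W) u) :
    ∃ s, η.hom.app (op W) s = u := by
  let ev := sheafToPresheaf S.smallEtaleTopology (Type (u + 1)) ⋙
    (evaluation S.Etaleᵒᵖ (Type (u + 1))).obj (op W)
  have hp := (Adhesive.isPullback_of_isPushout_of_mono_left (IsPushout.of_hasPushout η η)).map ev
  obtain ⟨s, hs, -⟩ := Types.exists_of_isPullback hp u u
    (h _ (pushout.inl η η) (pushout.inr η η) pushout.condition)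
  exact ⟨s, hs⟩

end Groth.Agent.DescSh
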