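import Groth.Agent.DescSh.Germ
import Groth.Agent.DescSh.Square

/-!
Base change morphisms for sheaves of sets through germs of sections.
-/

set_option autoImplicit false
set_option linter.style.haveILetI false
set_option backward.isDefEq.respectTransparency.types false

universe u

open CategoryTheory CategoryTheory.Limits AlgebraicGeometry Opposite
open Groth.Agent.EtaleSite

namespace Groth.Agent.DescSh.BCGerm

variable {X S Y T : Scheme.{u}} (f : X ⟶ S) (g : T ⟶ S) (h : Y ⟶ X) (e : Y ⟶ T) (w : e ≫ g = h ≫ f)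
  {F : EtDesc.Sh T}

section Img

variable {N : X.Etale} {W : S.Etale} (k : N.left ⟶ W.left) (hk : k ≫ W.hom = N.hom ≫ f)

/-- The morphism to the base change defined by `k`. -/
noncomputable def toBc : N ⟶ (EtCoh.bc f).obj W :=
  MorphismProperty.Over.homMk (pullback.lift k N.hom hk) (pullback.lift_snd _ _ _) trivial

/-- The image of a section under the base change morphism. -/
noncomputable def img (s : F.obj.obj (op ((EtCoh.bc g).obj W))) :
    ((EtDesc.pullSh e).obj F).obj.obj (op ((EtCoh.bc h).obj N)) :=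
  ((EtDesc.pullSh e).obj F).obj.map ((EtCoh.bc h).map (toBc f k hk) ≫ sqHom f g e h w W).op (secUp e F s)

include hk w in
theorem imgPt_eq {Ω : Type u} [Field Ω] [IsSepClosed Ω] {ξ : Spec (CommRingCat.of Ω) ⟶ Y}
    (x : (Scheme.pointSmallEtale ξ).fiber.obj ((EtCoh.bc h).obj N)) :
    (x.left ≫ pullback.fst N.hom h ≫ k) ≫ W.hom = (ξ ≫ e) ≫ g := by
  refine (Category.assoc _ _ _).trans ((congrArg (x.left ≫ ·) ((Category.assoc _ _ _).trans
    ((congrArg (_ ≫ ·) hk).trans ((Category.assoc _ _ _).symm.trans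
      ((congrArg (· ≫ f) pullback.condition).trans (Category.assoc _ _ _)))))).trans ?_)
  rw [← w]
  exact (Category.assoc _ _ _).symm.trans ((congrArg (· ≫ e ≫ g) (Over.w x)).trans (Category.assoc _ _ _).symm)

/-- The point under a point. -/
noncomputable def imgPt {Ω : Type u} [Field Ω] [IsSepClosed Ω] {ξ : Spec (CommRingCat.of Ω) ⟶ Y}
    (x : (Scheme.pointSmallEtale ξ).fiber.obj ((EtCoh.bc h).obj N)) :
    (Scheme.pointSmallEtale (ξ ≫ e)).fiber.obj ((EtCoh.bc g).obj W) :=
  (Over.homMk (pullback.lift (x.left ≫ pullback.fst N.hom h ≫ k) (ξ ≫ e) (imgPt_eq f g h e w k hk x))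
    (pullback.lift_snd _ _ _) : Over.mk (ξ ≫ e) ⟶ (Scheme.Etale.forget T).obj ((EtCoh.bc g).obj W))

theorem germ_img (s : F.obj.obj (op ((EtCoh.bc g).obj W))) {Ω : Type u} [Field Ω] [IsSepClosed Ω]
    {ξ : Spec (CommRingCat.of Ω) ⟶ Y} (x : (Scheme.pointSmallEtale ξ).fiber.obj ((EtCoh.bc h).obj N)) :
    SetStalk.germ ξ _ _ x (img f g h e w k hk s) =
      pullAt e ξ _ rfl F (SetStalk.germ (ξ ≫ e) F _ (imgPt f g h e w k hk x) s) := by
  unfold img
  rw [SetStalk.germ_res, pullAt_germ]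
  refine congrArg (fun z => SetStalk.germ ξ _ _ z (secUp e F s))
    (Over.OverMorphism.ext (pullback.hom_ext (pullback.hom_ext ?_ ?_) ?_))
  · refine (Category.assoc _ _ _).trans ((Category.assoc _ _ _).trans ?_)
    refine (congrArg (x.left ≫ ·) ((Category.assoc _ _ _).trans (congrArg (_ ≫ ·) (sqHom_fst f g e h w W)))).trans ?_
    refine (congrArg (x.left ≫ ·) ((Category.assoc _ _ _).symm.trans ((congrArg (· ≫ pullback.fst W.hom f)
      (EtCoh.isPullback_bc_map h (toBc f k hk)).w).trans ((Category.assoc _ _ _).trans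
        (congrArg (_ ≫ ·) (pullback.lift_fst _ _ _)))))).trans ?_
    exact ((congrArg (· ≫ pullback.fst W.hom g) (pullback.lift_fst _ _ _)).trans (pullback.lift_fst _ _ _)).symm
  · refine (Category.assoc _ _ _).trans ?_
    refine (congrArg (_ ≫ ·) pullback.condition).trans ((Category.assoc _ _ _).symm.trans ?_)
    refine (congrArg (· ≫ e) (Over.w ((Scheme.pointSmallEtale ξ).fiber.map
      ((EtCoh.bc h).map (toBc f k hk) ≫ sqHom f g e h w W) x))).trans ?_
    exact ((congrArg (· ≫ pullback.snd W.hom g) (pullback.lift_fst _ _ _)).trans (pullback.lift_snd _ _ _)).symm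
  · exact (Over.w _).trans (pullback.lift_snd _ _ _).symm

end Img

/-- Injectivity of the base change morphism at a point. -/
def InjAt (F : EtDesc.Sh T) {Ω : Type u} [Field Ω] [IsSepClosed Ω] (η : Spec (CommRingCat.of Ω) ⟶ X) : Prop :=
  ∀ (N : X.Etale) (n : (Scheme.pointSmallEtale η).fiber.obj N) (W : S.Etale)
    (v : (Scheme.pointSmallEtale (η ≫ f)).fiber.obj W) (k : N.left ⟶ W.left) (hk : k ≫ W.hom = N.hom ≫ f)
    (s₁ s₂ : F.obj.obj (op ((EtCoh.bc g).obj W))), n.left ≫ k = v.left →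
    img f g h e w k hk s₁ = img f g h e w k hk s₂ →
    ∃ (W' : S.Etale) (j : W' ⟶ W) (v' : (Scheme.pointSmallEtale (η ≫ f)).fiber.obj W'),
      (Scheme.pointSmallEtale (η ≫ f)).fiber.map j v' = v ∧
        F.obj.map ((EtCoh.bc g).map j).op s₁ = F.obj.map ((EtCoh.bc g).map j).op s₂

/-- Surjectivity of the base change morphism at a point. -/
def SurjAt (F : EtDesc.Sh T) {Ω : Type u} [Field Ω] [IsSepClosed Ω] (η : Spec (CommRingCat.of Ω) ⟶ X) : Prop :=
  ∀ (N : X.Etale) (n : (Scheme.pointSmallEtale η).fiber.obj N)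
    (t : ((EtDesc.pullSh e).obj F).obj.obj (op ((EtCoh.bc h).obj N))),
    ∃ (N' : X.Etale) (j : N' ⟶ N) (n' : (Scheme.pointSmallEtale η).fiber.obj N') (W : S.Etale)
      (k : N'.left ⟶ W.left) (hk : k ≫ W.hom = N'.hom ≫ f) (s : F.obj.obj (op ((EtCoh.bc g).obj W))),
      (Scheme.pointSmallEtale η).fiber.map j n' = n ∧
        ((EtDesc.pullSh e).obj F).obj.map ((EtCoh.bc h).map j).op t = img f g h e w k hk s

theorem map_bc_app {N : X.Etale} {W : S.Etale} (j : N ⟶ (EtCoh.bc f).obj W) (k : N.left ⟶ W.left)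
    (hk : k ≫ W.hom = N.hom ≫ f) (hj : j.left ≫ pullback.fst W.hom f = k)
    (s : F.obj.obj (op ((EtCoh.bc g).obj W))) :
    ((EtDesc.pushSh h).obj ((EtDesc.pullSh e).obj F)).obj.map j.op
        ((EtBC.baseChange0Sh g f h e w F).hom.app (op ((EtCoh.bc f).obj W))
          (secUp f ((EtDesc.pushSh g).obj F) s)) = img f g h e w k hk s := by
  obtain rfl : j = toBc f k hk := bc_hom_ext _ _ (hj.trans (pullback.lift_fst _ _ _).symm)
  rw [baseChange0Sh_secUp f g e h w F W s]
  exact (map_comp_op ((EtDesc.pullSh e).obj F) ((EtCoh.bc h).map (toBc f k hk)) (sqHom f g e h w W) _).symm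

variable {Ω : Type u} [Field Ω] [IsSepClosed Ω] (η : Spec (CommRingCat.of Ω) ⟶ X)

theorem stalk_bc_germ (W : S.Etale) (v : (Scheme.pointSmallEtale (η ≫ f)).fiber.obj W)
    (s : F.obj.obj (op ((EtCoh.bc g).obj W))) :
    (SetStalk.stalkSh η).map (EtBC.baseChange0Sh g f h e w F)
        (pullAt f η _ rfl ((EtDesc.pushSh g).obj F) (SetStalk.germ (η ≫ f) ((EtDesc.pushSh g).obj F) W v s)) =
      SetStalk.germ η ((EtDesc.pushSh h).obj ((EtDesc.pullSh e).obj F)) ((EtCoh.bc f).obj W) (bcPt f η rfl W v)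
        ((EtBC.baseChange0Sh g f h e w F).hom.app (op ((EtCoh.bc f).obj W))
          (secUp f ((EtDesc.pushSh g).obj F) s)) := by
  rw [pullAt_germ, SetStalk.germ_naturality]

theorem bijective_stalk (hi : InjAt f g h e w F η) (hs : SurjAt f g h e w F η) :
    Function.Bijective ((SetStalk.stalkSh η).map (EtBC.baseChange0Sh g f h e w F)) := by
  rw [← Function.Bijective.of_comp_iff _ (pullAt_bijective f η _ rfl _)]
  constructor
  · intro p q hpq
    obtain ⟨W, v, s₁, s₂, rfl, rfl⟩ := SetPush.exists_germ_eq_pair (η ≫ f) ((EtDesc.pushSh g).obj F) p q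
    simp only [Function.comp_apply] at hpq
    rw [stalk_bc_germ, stalk_bc_germ, SetStalk.germ_eq_iff] at hpq
    obtain ⟨N, j, n, hn, hj⟩ := hpq
    rw [map_bc_app f g h e w j (j.left ≫ pullback.fst W.hom f) ((Category.assoc _ _ _).trans
        ((congrArg (j.left ≫ ·) pullback.condition).trans ((Category.assoc _ _ _).symm.trans
          (congrArg (· ≫ f) (MorphismProperty.Over.w j))))) rfl,
      map_bc_app f g h e w j (j.left ≫ pullback.fst W.hom f) ((Category.assoc _ _ _).trans
        ((congrArg (j.left ≫ ·) pullback.condition).trans ((Category.assoc _ _ _).symm.trans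
          (congrArg (· ≫ f) (MorphismProperty.Over.w j))))) rfl] at hj
    have hnv : n.left ≫ j.left ≫ pullback.fst W.hom f = v.left := by
      refine (Category.assoc _ _ _).symm.trans ((congrArg (fun z : (Scheme.pointSmallEtale η).fiber.obj
        ((EtCoh.bc f).obj W) => z.left ≫ pullback.fst W.hom f) hn).trans (pullback.lift_fst _ _ _))
    obtain ⟨W', j', v', hv', he⟩ := hi N n W v _ _ s₁ s₂ hnv hj
    rw [← hv', ← SetStalk.germ_res, ← SetStalk.germ_res]
    exact congrArg (SetStalk.germ (η ≫ f) _ W' v') he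
  · intro p
    obtain ⟨N, n, t, rfl⟩ := SetStalk.exists_germ_eq η _ p
    obtain ⟨N', j, n', W, k, hk, s, hn', ht⟩ := hs N n t
    let v : (Scheme.pointSmallEtale (η ≫ f)).fiber.obj W :=
      (Over.homMk (n'.left ≫ k) ((Category.assoc _ _ _).trans ((congrArg (n'.left ≫ ·) hk).trans
        ((Category.assoc _ _ _).symm.trans (congrArg (· ≫ f) (Over.w n'))))) :
        Over.mk (η ≫ f) ⟶ (Scheme.Etale.forget S).obj W)
    refine ⟨SetStalk.germ (η ≫ f) ((EtDesc.pushSh g).obj F) W v s, ?_⟩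
    simp only [Function.comp_apply]
    have hv : (Scheme.pointSmallEtale η).fiber.map (toBc f k hk) n' = bcPt f η rfl W v :=
      Over.OverMorphism.ext (pullback.hom_ext
        (((Category.assoc _ _ _).trans (congrArg (n'.left ≫ ·) (pullback.lift_fst _ _ _))).trans
          (pullback.lift_fst _ _ _).symm)
        (((Category.assoc _ _ _).trans (congrArg (n'.left ≫ ·) (pullback.lift_snd _ _ _))).trans
          ((Over.w n').trans (pullback.lift_snd _ _ _).symm)))
    rw [stalk_bc_germ, ← hv, ← SetStalk.germ_res, ← hn', ← SetStalk.germ_res,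
      map_bc_app f g h e w (toBc f k hk) k hk (pullback.lift_fst _ _ _) s]
    exact congrArg (SetStalk.germ η _ N' n') ht.symm

theorem injAt_of_injective (hb : Function.Injective ((SetStalk.stalkSh η).map (EtBC.baseChange0Sh g f h e w F))) :
    InjAt f g h e w F η := by
  intro N n W v k hk s₁ s₂ hnv heq
  have hv : (Scheme.pointSmallEtale η).fiber.map (toBc f k hk) n = bcPt f η rfl W v :=
    Over.OverMorphism.ext (pullback.hom_ext
      (((Category.assoc _ _ _).trans (congrArg (n.left ≫ ·) (pullback.lift_fst _ _ _))).trans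
        (hnv.trans (pullback.lift_fst _ _ _).symm))
      (((Category.assoc _ _ _).trans (congrArg (n.left ≫ ·) (pullback.lift_snd _ _ _))).trans
        ((Over.w n).trans (pullback.lift_snd _ _ _).symm)))
  have : SetStalk.germ (η ≫ f) ((EtDesc.pushSh g).obj F) W v s₁ =
      SetStalk.germ (η ≫ f) ((EtDesc.pushSh g).obj F) W v s₂ := by
    refine (pullAt_bijective f η _ rfl _).1 (hb ?_)
    rw [stalk_bc_germ, stalk_bc_germ, ← hv, ← SetStalk.germ_res, ← SetStalk.germ_res,
      map_bc_app f g h e w (toBc f k hk) k hk (pullback.lift_fst _ _ _),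
      map_bc_app f g h e w (toBc f k hk) k hk (pullback.lift_fst _ _ _)]
    exact congrArg (SetStalk.germ η _ N n) heq
  obtain ⟨W', j, v', hv', he⟩ := (SetStalk.germ_eq_iff _ _ _ _ _ _).1 this
  exact ⟨W', j, v', hv', he⟩

theorem surjAt_of_surjective (hb : Function.Surjective ((SetStalk.stalkSh η).map (EtBC.baseChange0Sh g f h e w F))) :
    SurjAt f g h e w F η := by
  intro N n t
  obtain ⟨p, hp⟩ := hb (SetStalk.germ η ((EtDesc.pushSh h).obj ((EtDesc.pullSh e).obj F)) N n t)
  obtain ⟨p, rfl⟩ := (pullAt_bijective f η _ rfl _).2 p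
  obtain ⟨W, v, s, rfl⟩ := SetStalk.exists_germ_eq (η ≫ f) ((EtDesc.pushSh g).obj F) p
  rw [stalk_bc_germ] at hp
  obtain ⟨z, ⟨p₁, hp₁⟩, ⟨p₂, hp₂⟩, -⟩ :=
    IsCofilteredOrEmpty.cone_objs ((Scheme.pointSmallEtale η).fiber.elementsMk _ (bcPt f η rfl W v))
      ((Scheme.pointSmallEtale η).fiber.elementsMk _ n)
  dsimp at p₁ p₂ hp₁ hp₂
  rw [← hp₁, ← hp₂, ← SetStalk.germ_res, ← SetStalk.germ_res, SetStalk.germ_eq_iff] at hp
  obtain ⟨N', l, n', hn', hl⟩ := hp
  have hk : ((l ≫ p₁).left ≫ pullback.fst W.hom f) ≫ W.hom = N'.hom ≫ f :=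
    (Category.assoc _ _ _).trans ((congrArg ((l ≫ p₁).left ≫ ·) pullback.condition).trans
      ((Category.assoc _ _ _).symm.trans (congrArg (· ≫ f) (MorphismProperty.Over.w (l ≫ p₁)))))
  refine ⟨N', l ≫ p₂, n', W, _, hk, s, ?_, ?_⟩
  · exact ((congrArg (fun q => q n') ((Scheme.pointSmallEtale η).fiber.map_comp l p₂)).trans
      (congrArg ((Scheme.pointSmallEtale η).fiber.map p₂) hn')).trans hp₂
  · rw [← map_bc_app f g h e w (l ≫ p₁) _ hk rfl]
    exact (map_comp_op ((EtDesc.pushSh h).obj ((EtDesc.pullSh e).obj F)) _ _ _).trans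
      (hl.symm.trans (map_comp_op ((EtDesc.pushSh h).obj ((EtDesc.pullSh e).obj F)) _ _ _).symm)

/-- The base change morphism is an isomorphism if it is injective and surjective on germs. -/
theorem isIso_of_forall
    (H : ∀ (Ω : Type u) [Field Ω] [IsSepClosed Ω] (η : Spec (CommRingCat.of Ω) ⟶ X),
      InjAt f g h e w F η ∧ SurjAt f g h e w F η) :
    IsIso (EtBC.baseChange0Sh g f h e w F) :=
  SetStalk.isIso_of_stalk _ fun Ω _ _ η => bijective_stalk f g h e w η (H Ω η).1 (H Ω η).2

end Groth.Agent.DescSh.BCGerm
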