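import Groth.Agent.DescSh.BCConn
import Groth.Agent.DescSh.Criterion

/-!
Effective descent of étale sheaves of sets from chains of an integral surjection followed by a morphism
which factors locally through morphisms with geometrically connected fibres and étale morphisms.
-/

set_option autoImplicit false
set_option linter.style.haveILetI false
set_option backward.isDefEq.respectTransparency.types false

universe u

open CategoryTheory CategoryTheory.Limits AlgebraicGeometry Opposite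
open Groth.Agent.EtaleSite
open Groth.Agent.DescSh.CohPropField (viaTop topGerm_viaTop)

namespace Groth.Agent.DescSh.Chain

open Groth.Agent.DescSh.Eff

theorem isUnivSubmersive_comp {A B C : Scheme.{u}} (p : A ⟶ B) (q : B ⟶ C) [Surjective p]
    [UniversallyClosed p] (hq : EtDesc.IsUnivSubmersive q) : EtDesc.IsUnivSubmersive (p ≫ q) := by
  intro Y y
  obtain ⟨hs, hqu⟩ := hq Y y
  obtain ⟨hs', hqu'⟩ := isUnivSubmersive_of_universallyClosed p _ (pullback.fst q y)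
  have hp : IsPullback (pullback.fst p (pullback.fst q y)) (pullback.snd p (pullback.fst q y) ≫ pullback.snd q y)
      (p ≫ q) y :=
    (IsPullback.of_hasPullback p (pullback.fst q y)).paste_vert (IsPullback.of_hasPullback q y)
  rw [← hp.isoPullback_inv_snd]
  exact ⟨(hs.comp hs').comp hp.isoPullback.inv.surjective,
    (hqu.comp hqu').comp hp.isoPullback.inv.homeomorph.isQuotientMap⟩

variable {X' X T : Scheme.{u}} {f : X' ⟶ X} {pr₁ pr₂ : T ⟶ X'}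
  {F' : EtDesc.Sh X'} (φ : (EtDesc.pullSh pr₁).obj F' ≅ (EtDesc.pullSh pr₂).obj F')

/-- The values of a section at points with the same image correspond under the descent datum. -/
def CompatMap {W N : Scheme.{u}} (π : W ⟶ N) (σ : W ⟶ X')
    (r : EtDesc.sect ((EtDesc.pullSh σ).obj F') (EtCoh.top W)) : Prop :=
  ∀ (L : Type u) [Field L] [IsAlgClosed L] (θ : Spec (CommRingCat.of L) ⟶ T)
    (y₁ y₂ : Spec (CommRingCat.of L) ⟶ W), y₁ ≫ π = y₂ ≫ π →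
    ∀ (ξ₁ ξ₂ : Spec (CommRingCat.of L) ⟶ X') (e₁ : y₁ ≫ σ = ξ₁) (e₂ : y₂ ≫ σ = ξ₂)
      (h₁ : θ ≫ pr₁ = ξ₁) (h₂ : θ ≫ pr₂ = ξ₂)
      (x₁ : (SetStalk.stalkSh ξ₁).obj F') (x₂ : (SetStalk.stalkSh ξ₂).obj F'),
      topGerm r y₁ = pullAt σ y₁ ξ₁ e₁ F' x₁ → topGerm r y₂ = pullAt σ y₂ ξ₂ e₂ F' x₂ →
        Rel pr₁ pr₂ φ θ ξ₁ ξ₂ h₁ h₂ x₁ x₂

variable (hsq : IsPullback pr₁ pr₂ f f)
  (htrans : ∀ (L : Type u) [Field L] [IsAlgClosed L] (a b c : Spec (CommRingCat.of L) ⟶ T)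
    (ξ ζ ρ : Spec (CommRingCat.of L) ⟶ X') (a₁ : a ≫ pr₁ = ξ) (a₂ : a ≫ pr₂ = ζ) (b₁ : b ≫ pr₁ = ζ)
    (b₂ : b ≫ pr₂ = ρ) (c₁ : c ≫ pr₁ = ξ) (c₂ : c ≫ pr₂ = ρ)
    (x : (SetStalk.stalkSh ξ).obj F') (y : (SetStalk.stalkSh ζ).obj F') (z : (SetStalk.stalkSh ρ).obj F'),
    Rel pr₁ pr₂ φ a ξ ζ a₁ a₂ x y → Rel pr₁ pr₂ φ b ζ ρ b₁ b₂ y z → Rel pr₁ pr₂ φ c ξ ρ c₁ c₂ x z)

section Comp

variable {V : X.Etale} {W N : Scheme.{u}} (π : W ⟶ N) (a : N ⟶ V.left) (σ : W ⟶ X')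
  (hσ : σ ≫ f = (π ≫ a) ≫ V.hom)

include hσ hsq htrans in
/-- Compatibility propagates along morphisms with geometrically connected fibres. -/
theorem compat_comp [Surjective π] [UniversallyClosed π] [GeometricallyConnected a]
    (r : EtDesc.sect ((EtDesc.pullSh σ).obj F') (EtCoh.top W)) (hr : CompatMap φ π σ r) :
    Compat φ (π ≫ a) σ r := by
  intro L _ _ θ y₁ y₂ hy ξ₁ ξ₂ e₁ e₂ h₁ h₂ x₁ x₂ hx₁ hx₂
  let yb : Spec (CommRingCat.of L) ⟶ V.left := y₁ ≫ π ≫ a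
  haveI : ConnectedSpace ↥(pullback a yb) :=
    GeometricallyConnected.geometrically_connectedSpace _ _ _ (IsPullback.of_hasPullback a yb)
  let U : Scheme.{u} := pullback (π ≫ a) yb
  let α : U ⟶ W := pullback.fst (π ≫ a) yb
  let m : U ⟶ Spec (CommRingCat.of L) := pullback.snd (π ≫ a) yb
  let pQ : U ⟶ pullback a yb :=
    pullback.lift (α ≫ π) m ((Category.assoc _ _ _).trans pullback.condition)
  have hpQ : IsPullback α pQ π (pullback.fst a yb) :=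
    IsPullback.of_bot (by rw [pullback.lift_snd]; exact IsPullback.of_hasPullback (π ≫ a) yb)
      (pullback.lift_fst _ _ _).symm (IsPullback.of_hasPullback a yb)
  haveI : Surjective pQ := MorphismProperty.of_isPullback hpQ ‹Surjective π›
  haveI : UniversallyClosed pQ := MorphismProperty.of_isPullback hpQ ‹UniversallyClosed π›
  have hξ : ξ₁ ≫ f = yb ≫ V.hom :=
    (congrArg (· ≫ f) e₁.symm).trans ((Category.assoc _ _ _).trans ((congrArg (y₁ ≫ ·) hσ).trans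
      (Category.assoc _ _ _).symm))
  have hk : (m ≫ ξ₁) ≫ f = (α ≫ σ) ≫ f :=
    (Category.assoc _ _ _).trans ((congrArg (m ≫ ·) hξ).trans ((Category.assoc _ _ _).symm.trans
      ((congrArg (· ≫ V.hom) pullback.condition.symm).trans ((Category.assoc _ _ _).trans
        ((congrArg (α ≫ ·) hσ.symm).trans (Category.assoc _ _ _).symm)))))
  let k : U ⟶ T := hsq.lift _ _ hk
  have k₁ : k ≫ pr₁ = m ≫ ξ₁ := hsq.lift_fst _ _ _
  have k₂ : k ≫ pr₂ = α ≫ σ := hsq.lift_snd _ _ _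
  have hm₁ : (m ≫ y₁) ≫ σ = m ≫ ξ₁ := by rw [Category.assoc, e₁]
  let J := (EtDesc.pullVia k pr₁ (m ≫ ξ₁) k₁ F').symm ≪≫ (EtDesc.pullSh k).mapIso φ ≪≫
    EtDesc.pullVia k pr₂ (α ≫ σ) k₂ F'
  let r₀ := viaTop (m ≫ y₁) σ (m ≫ ξ₁) hm₁ r
  let r₁' := J.hom.hom.app (op (EtCoh.top U)) r₀
  let r₂ := viaTop α σ (α ≫ σ) rfl r
  let H := (EtDesc.pullSh (α ≫ σ)).obj F'
  let vv := J.symm ≪≫ (EtDesc.pullVia m ξ₁ (m ≫ ξ₁) rfl F').symm
  let D : Set ↥U := {p | EqAt H r₁' r₂ p}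
  have hset : {p | ¬ EqAt H r₁' r₂ p} = {p | ¬ EqAt ((EtDesc.pullSh m).obj ((EtDesc.pullSh ξ₁).obj F'))
      (vv.hom.hom.app (op (EtCoh.top _)) r₁') (vv.hom.hom.app (op (EtCoh.top _)) r₂) p} :=
    Set.ext fun p => not_congr (eqAt_app_iff vv.hom r₁' r₂ p).symm
  have hDo : IsOpen {p | ¬ EqAt H r₁' r₂ p} := (congrArg IsOpen hset).mpr (isOpen_not_eqAt_field m _ _ _)
  have val : ∀ (K : Type u) [Field K] [IsAlgClosed K] (u : Spec (CommRingCat.of K) ⟶ U)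
      (θu : Spec (CommRingCat.of K) ⟶ T) (eθ : u ≫ k = θu)
      (ζ₀ ζ : Spec (CommRingCat.of K) ⟶ X') (g₀ : (u ≫ m ≫ y₁) ≫ σ = ζ₀) (g : (u ≫ α) ≫ σ = ζ)
      (g₁ : θu ≫ pr₁ = ζ₀) (g₂ : θu ≫ pr₂ = ζ)
      (v₀ : (SetStalk.stalkSh ζ₀).obj F') (v : (SetStalk.stalkSh ζ).obj F'),
      topGerm r (u ≫ m ≫ y₁) = pullAt σ _ ζ₀ g₀ F' v₀ → topGerm r (u ≫ α) = pullAt σ _ ζ g F' v →
        (u default ∈ D ↔ Rel pr₁ pr₂ φ θu ζ₀ ζ g₁ g₂ v₀ v) := by
    intro K _ _ u θu eθ ζ₀ ζ g₀ g g₁ g₂ v₀ v hv₀ hv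
    have b₁ : u ≫ m ≫ ξ₁ = ζ₀ := by
      rw [← g₀]; simp only [Category.assoc, e₁]
    have b₂ : u ≫ α ≫ σ = ζ := (Category.assoc _ _ _).symm.trans g
    refine (eqAt_top_iff H r₁' r₂ u).trans ?_
    rw [topGerm_viaTop α σ _ rfl r u _ rfl ζ g b₂ v hv]
    rw [show topGerm r₁' u = (SetStalk.stalkSh u).map J.hom (topGerm r₀ u) from (topGerm_app _ _ u).symm,
      topGerm_viaTop (m ≫ y₁) σ _ hm₁ r u (u ≫ m ≫ y₁) rfl ζ₀ g₀ b₁ v₀ hv₀]
    exact rel_pullIsoVia pr₁ pr₂ φ k (m ≫ ξ₁) (α ≫ σ) k₁ k₂ u θu eθ ζ₀ ζ g₁ g₂ b₁ b₂ v₀ v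
  have hsat : ∀ p p' : U, pQ p = pQ p' → p ∈ D → p' ∈ D := by
    intro p p' hpp hp
    obtain ⟨w, hw₁, hw₂⟩ := Scheme.Pullback.exists_preimage_pullback p p' (f := pQ) (g := pQ) hpp
    obtain ⟨K, _, _, l, hl⟩ := exists_algPoint_top w
    let u : Spec (CommRingCat.of K) ⟶ U := l ≫ pullback.fst pQ pQ
    let u' : Spec (CommRingCat.of K) ⟶ U := l ≫ pullback.snd pQ pQ
    have huu : u ≫ pQ = u' ≫ pQ := by simp only [u, u', Category.assoc, pullback.condition]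
    have hum : u ≫ m = u' ≫ m := by
      have := congrArg (· ≫ pullback.snd a yb) huu
      simp only [Category.assoc] at this
      rwa [show pQ ≫ pullback.snd a yb = m from pullback.lift_snd _ _ _] at this
    have hua : (u ≫ α) ≫ π = (u' ≫ α) ≫ π := by
      have := congrArg (· ≫ pullback.fst a yb) huu
      simp only [Category.assoc] at this ⊢
      rwa [show pQ ≫ pullback.fst a yb = α ≫ π from pullback.lift_fst _ _ _] at this
    have hu₁ : u default = p := (congrArg (pullback.fst pQ pQ) hl).trans hw₁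
    have hu₂ : u' default = p' := (congrArg (pullback.snd pQ pQ) hl).trans hw₂
    obtain ⟨v₀, hv₀⟩ := (pullAt_bijective σ (u ≫ m ≫ y₁) _ rfl F').2 (topGerm r (u ≫ m ≫ y₁))
    obtain ⟨v, hv⟩ := (pullAt_bijective σ (u ≫ α) _ rfl F').2 (topGerm r (u ≫ α))
    obtain ⟨v', hv'⟩ := (pullAt_bijective σ (u' ≫ α) _ rfl F').2 (topGerm r (u' ≫ α))
    have hm' : u' ≫ m ≫ y₁ = u ≫ m ≫ y₁ := by rw [← Category.assoc, ← hum, Category.assoc]
    have g₀' : (u' ≫ m ≫ y₁) ≫ σ = (u ≫ m ≫ y₁) ≫ σ := by rw [hm']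
    have c₁ : ∀ (w : Spec (CommRingCat.of K) ⟶ U), (w ≫ k) ≫ pr₁ = (w ≫ m ≫ y₁) ≫ σ := fun w => by
      simp only [Category.assoc, k₁, e₁]
    have c₂ : ∀ (w : Spec (CommRingCat.of K) ⟶ U), (w ≫ k) ≫ pr₂ = (w ≫ α) ≫ σ := fun w => by
      simp only [Category.assoc, k₂]
    have h01 := (val K u _ rfl _ _ rfl rfl (c₁ u) (c₂ u) v₀ v hv₀.symm hv.symm).1 (hu₁.symm ▸ hp)
    have hθ : ((u ≫ α) ≫ σ) ≫ f = ((u' ≫ α) ≫ σ) ≫ f := by
      simp only [Category.assoc, hσ]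
      have := congrArg (· ≫ a ≫ V.hom) hua
      simpa only [Category.assoc] using this
    have h12 := hr K (hsq.lift _ _ hθ) (u ≫ α) (u' ≫ α) hua _ _ rfl rfl (hsq.lift_fst _ _ _) (hsq.lift_snd _ _ _)
      v v' hv.symm hv'.symm
    have h02 := htrans K _ _ (u' ≫ k) _ _ _ (c₁ u) (c₂ u) (hsq.lift_fst _ _ _) (hsq.lift_snd _ _ _)
      ((c₁ u').trans g₀') (c₂ u') v₀ v v' h01 h12
    rw [← hu₂]
    refine (val K u' _ rfl _ _ g₀' rfl ((c₁ u').trans g₀') (c₂ u') v₀ v' ?_ hv'.symm).2 h02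
    have aux : ∀ (z z' : Spec (CommRingCat.of K) ⟶ W) (ζ : Spec (CommRingCat.of K) ⟶ X')
        (g : z ≫ σ = ζ) (g' : z' ≫ σ = ζ) (x : (SetStalk.stalkSh ζ).obj F'), z' = z →
        topGerm r z = pullAt σ z ζ g F' x → topGerm r z' = pullAt σ z' ζ g' F' x := by
      rintro z z' ζ g g' x rfl h
      exact h
    exact aux _ _ _ rfl g₀' v₀ hm' hv₀.symm
  let u₁ : Spec (CommRingCat.of L) ⟶ U := pullback.lift y₁ (𝟙 _) (Category.id_comp _).symm
  let u₂ : Spec (CommRingCat.of L) ⟶ U :=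
    pullback.lift y₂ (𝟙 _) (hy.symm.trans (Category.id_comp _).symm)
  have hu : ∀ (y : Spec (CommRingCat.of L) ⟶ W) (hy' : y ≫ π ≫ a = 𝟙 _ ≫ yb)
      (ξ : Spec (CommRingCat.of L) ⟶ X') (e : y ≫ σ = ξ) (x : (SetStalk.stalkSh ξ).obj F'),
      topGerm r y = pullAt σ y ξ e F' x →
      ∀ (θ : Spec (CommRingCat.of L) ⟶ T) (t₁ : θ ≫ pr₁ = ξ₁) (t₂ : θ ≫ pr₂ = ξ),
        (pullback.lift y (𝟙 _) hy' : _ ⟶ U) default ∈ D ↔ Rel pr₁ pr₂ φ θ ξ₁ ξ t₁ t₂ x₁ x := by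
    intro y hy' ξ e x hx θ t₁ t₂
    let u : Spec (CommRingCat.of L) ⟶ U := pullback.lift y (𝟙 _) hy'
    have um : u ≫ m = 𝟙 _ := pullback.lift_snd _ _ _
    have ua : u ≫ α = y := pullback.lift_fst _ _ _
    have uy : u ≫ m ≫ y₁ = y₁ := by rw [← Category.assoc, um, Category.id_comp]
    have eθ : u ≫ k = θ := hsq.hom_ext
      (by rw [Category.assoc, k₁, ← Category.assoc, um, Category.id_comp, t₁])
      (by rw [Category.assoc, k₂, ← Category.assoc, ua, e, t₂])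
    have aux : ∀ (z z' : Spec (CommRingCat.of L) ⟶ W) (ζ : Spec (CommRingCat.of L) ⟶ X')
        (g : z ≫ σ = ζ) (g' : z' ≫ σ = ζ) (x : (SetStalk.stalkSh ζ).obj F'), z' = z →
        topGerm r z = pullAt σ z ζ g F' x → topGerm r z' = pullAt σ z' ζ g' F' x := by
      rintro z z' ζ g g' x rfl h
      exact h
    exact val L u θ eθ ξ₁ ξ ((congrArg (· ≫ σ) uy).trans e₁) ((congrArg (· ≫ σ) ua).trans e) t₁ t₂ x₁ x
      (aux _ _ _ e₁ _ x₁ uy hx₁) (aux _ _ _ e _ x ua hx)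
  let d := hsq.lift ξ₁ ξ₁ rfl
  have hu₁ : u₁ default ∈ D := (hu y₁ (Category.id_comp _).symm ξ₁ e₁ x₁ hx₁ d (hsq.lift_fst _ _ _)
    (hsq.lift_snd _ _ _)).2 (rel_refl φ htrans d (hsq.lift_fst _ _ _) (hsq.lift_snd _ _ _) x₁)
  have hcl : IsClopen (pQ '' D) := by
    have hdisj : pQ '' D = (pQ '' {p | ¬ EqAt H r₁' r₂ p})ᶜ := by
      refine Set.Subset.antisymm ?_ ?_
      · rintro _ ⟨p, hp, rfl⟩ ⟨p', hp', e⟩
        exact hp' (hsat p p' e.symm hp)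
      · intro q hq
        obtain ⟨p, rfl⟩ := pQ.surjective q
        exact ⟨p, by_contra fun hp => hq ⟨p, hp, rfl⟩, rfl⟩
    exact ⟨pQ.isClosedMap _ ⟨hDo⟩,
      hdisj ▸ (pQ.isClosedMap _ (isOpen_eqAt H r₁' r₂).isClosed_compl).isOpen_compl⟩
  have huniv := hcl.eq_univ ⟨_, ⟨_, hu₁, rfl⟩⟩
  obtain ⟨p, hp, hp'⟩ := huniv.ge (Set.mem_univ (pQ (u₂ default)))
  exact (hu y₂ _ ξ₂ e₂ x₂ hx₂ θ h₁ h₂).1 (hsat p _ hp' hp)

end Comp

section Good

variable (w : pr₁ ≫ f = pr₂ ≫ f)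

theorem good_of_mapA_eq {V : X.Etale} (s : F'.obj.obj (op ((EtCoh.bc f).obj V)))
    (h : (mapA f pr₁ pr₂ w φ).hom.app (op V) s = (mapB f pr₂).hom.app (op V) s) :
    Good f pr₁ pr₂ φ s := by
  obtain ⟨s', hs'⟩ := exists_incl_eq f pr₁ pr₂ w φ V s h
  have := good_incl pr₁ pr₂ w φ s'
  rwa [hs'] at this

theorem germ_mapA_eq_mapB_of_rel {V : X.Etale} (s : F'.obj.obj (op ((EtCoh.bc f).obj V)))
    {L : Type u} [Field L] [IsSepClosed L] {θ : Spec (CommRingCat.of L) ⟶ T}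
    (z : (Scheme.pointSmallEtale θ).fiber.obj ((EtCoh.bc pr₂).obj ((EtCoh.bc f).obj V)))
    (hrel : ∀ (x₁ : (Scheme.pointSmallEtale (θ ≫ pr₁)).fiber.obj ((EtCoh.bc f).obj V))
      (x₂ : (Scheme.pointSmallEtale (θ ≫ pr₂)).fiber.obj ((EtCoh.bc f).obj V)),
      x₁.left ≫ pullback.fst V.hom f =
        z.left ≫ pullback.fst ((EtCoh.bc f).obj V).hom pr₂ ≫ pullback.fst V.hom f →
      x₂.left ≫ pullback.fst V.hom f =
        z.left ≫ pullback.fst ((EtCoh.bc f).obj V).hom pr₂ ≫ pullback.fst V.hom f →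
      Rel pr₁ pr₂ φ θ _ _ rfl rfl (SetStalk.germ _ F' _ x₁ s) (SetStalk.germ _ F' _ x₂ s)) :
    SetStalk.germ θ _ _ z ((mapA f pr₁ pr₂ w φ).hom.app (op V) s) =
      SetStalk.germ θ _ _ z ((mapB f pr₂).hom.app (op V) s) := by
  let ξ₁ := θ ≫ pr₁
  let ξ₂ := θ ≫ pr₂
  have e₁ : ξ₁ ≫ f = ξ₂ ≫ f := by simp only [ξ₁, ξ₂, Category.assoc, w]
  let x₂ := lowPt z (η := ξ₂) rfl
  let v := lowPt x₂ (η := ξ₂ ≫ f) rfl
  have hz : bcPt pr₂ θ rfl ((EtCoh.bc f).obj V) (bcPt f ξ₂ rfl V v) = z := by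
    rw [bcPt_of_point x₂ rfl v rfl]
    exact bcPt_of_point z rfl x₂ rfl
  let p := SetStalk.germ (ξ₂ ≫ f) ((EtDesc.pushSh f).obj F') V v s
  have hA := cmpAt_mapA f pr₁ pr₂ w φ θ (ξ₁ := ξ₁) (ξ₂ := ξ₂) rfl rfl e₁ rfl p
  have hB := cmpAt_mapB f pr₂ θ (ξ₂ := ξ₂) rfl (η := ξ₂ ≫ f) rfl p
  rw [SetStalk.germ_naturality, SetPush.cmpAt_germ, SetPush.cmpAt_germ, SetPush.cmpAt_germ, hz] at hA
  rw [SetStalk.germ_naturality, SetPush.cmpAt_germ, SetPush.cmpAt_germ, SetPush.cmpAt_germ, hz] at hB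
  refine hA.trans (Eq.trans ?_ hB.symm)
  exact hrel _ _ ((pullback.lift_fst _ _ _).trans (Category.assoc _ _ _))
    ((pullback.lift_fst _ _ _).trans (Category.assoc _ _ _))

variable {V : X.Etale} {W : Scheme.{u}} (c : W ⟶ V.left) (σ : W ⟶ X') (hσ : σ ≫ f = c ≫ V.hom)

include hσ hsq htrans in
/-- A compatible section on a universally submersive multisection gives a `Good` section. -/
theorem exists_good (hc : EtDesc.IsUnivSubmersive c)
    (r : EtDesc.sect ((EtDesc.pullSh σ).obj F') (EtCoh.top W)) (hr : Compat φ c σ r) :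
    ∃ s : F'.obj.obj (op ((EtCoh.bc f).obj V)), Good f pr₁ pr₂ φ s ∧
      ∀ (L : Type u) [Field L] [IsAlgClosed L] (θ : Spec (CommRingCat.of L) ⟶ T)
        (y : Spec (CommRingCat.of L) ⟶ W) (ξ₁ ξ : Spec (CommRingCat.of L) ⟶ X') (e₁ : y ≫ σ = ξ₁)
        (h₁ : θ ≫ pr₁ = ξ₁) (h₂ : θ ≫ pr₂ = ξ)
        (x : (Scheme.pointSmallEtale ξ).fiber.obj ((EtCoh.bc f).obj V)),
        x.left ≫ pullback.fst V.hom f = y ≫ c →
        ∀ x₁ : (SetStalk.stalkSh ξ₁).obj F', topGerm r y = pullAt σ y ξ₁ e₁ F' x₁ →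
          Rel pr₁ pr₂ φ θ ξ₁ ξ h₁ h₂ x₁ (SetStalk.germ ξ F' _ x s) := by
  obtain ⟨s, hs⟩ := exists_good_of_submersive φ c σ hσ hsq htrans hc r hr
  refine ⟨s, good_of_mapA_eq φ hsq.w s (eq_of_eqAt ((EtDesc.pullSh pr₂).obj F') _ _ fun u => ?_), hs⟩
  let U'' : T.Etale := (EtCoh.bc pr₂).obj ((EtCoh.bc f).obj V)
  let a'' : U''.left ⟶ V.left := pullback.fst ((EtCoh.bc f).obj V).hom pr₂ ≫ pullback.fst V.hom f
  obtain ⟨w₀, hw₀⟩ := (hc V.left (𝟙 _)).1 (a'' u)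
  let wW : W := pullback.fst c (𝟙 V.left) w₀
  have hwW : c wW = a'' u := by
    rw [← hw₀]
    exact congrArg (fun m : pullback c (𝟙 V.left) ⟶ V.left => m w₀) (pullback.condition.trans (Category.comp_id _))
  obtain ⟨pt, hpt, -⟩ := Scheme.Pullback.exists_preimage_pullback u wW (f := a'') (g := c) hwW.symm
  obtain ⟨L, _, _, l, hl⟩ := exists_algPoint_top pt
  let zl : Spec (CommRingCat.of L) ⟶ U''.left := l ≫ pullback.fst a'' c
  let y : Spec (CommRingCat.of L) ⟶ W := l ≫ pullback.snd a'' c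
  have hy : zl ≫ a'' = y ≫ c := by simp only [zl, y, Category.assoc, pullback.condition]
  let θ : Spec (CommRingCat.of L) ⟶ T := zl ≫ U''.hom
  let z : (Scheme.pointSmallEtale θ).fiber.obj U'' :=
    (Over.homMk zl rfl : Over.mk θ ⟶ (Scheme.Etale.forget T).obj U'')
  refine (eqAt_iff_germ _ _ _ z ((congrArg (pullback.fst a'' c) hl).trans hpt)).2
    (germ_mapA_eq_mapB_of_rel φ hsq.w s z fun x₁ x₂ hx₁ hx₂ => ?_)
  obtain ⟨p, hp⟩ := (pullAt_bijective σ y _ rfl F').2 (topGerm r y)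
  have e : ∀ (ξ : Spec (CommRingCat.of L) ⟶ X')
      (x : (Scheme.pointSmallEtale ξ).fiber.obj ((EtCoh.bc f).obj V)),
      x.left ≫ pullback.fst V.hom f = y ≫ c → (y ≫ σ) ≫ f = ξ ≫ f := fun ξ x hv => by
    rw [Category.assoc, hσ, ← Category.assoc, ← hv]
    exact (Category.assoc _ _ _).trans ((congrArg (_ ≫ ·) pullback.condition).trans
      ((Category.assoc _ _ _).symm.trans (congrArg (· ≫ f) (Over.w x))))
  have r₁ := hs L (hsq.lift _ _ (e _ x₁ (hx₁.trans hy))) y _ _ rfl (hsq.lift_fst _ _ _) (hsq.lift_snd _ _ _) x₁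
    (hx₁.trans hy) p hp.symm
  have r₂ := hs L (hsq.lift _ _ (e _ x₂ (hx₂.trans hy))) y _ _ rfl (hsq.lift_fst _ _ _) (hsq.lift_snd _ _ _) x₂
    (hx₂.trans hy) p hp.symm
  obtain ⟨v, hv⟩ := rel_exists φ θ rfl rfl (SetStalk.germ (θ ≫ pr₁) F' _ x₁ s)
  rw [← rel_unique φ (htrans L _ _ _ _ _ _ (hsq.lift_fst _ _ _) (hsq.lift_snd _ _ _) rfl rfl
    (hsq.lift_fst _ _ _) (hsq.lift_snd _ _ _) _ _ _ r₁ hv) r₂]
  exact hv

end Good

/-- A geometric point of an étale scheme over an extension comes from the smaller field. -/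
theorem exists_point_of_ext (V : X.Etale) {L : Type u} [Field L] [IsSepClosed L] {L' : Type u} [Field L']
    (η : Spec (CommRingCat.of L) ⟶ X) (ι : Spec (CommRingCat.of L') ⟶ Spec (CommRingCat.of L))
    (v' : Spec (CommRingCat.of L') ⟶ V.left) (hv : v' ≫ V.hom = ι ≫ η) :
    ∃ v : (Scheme.pointSmallEtale η).fiber.obj V, ι ≫ v.left = v' := by
  let E : (Spec (CommRingCat.of L)).Etale := (EtCoh.bc η).obj V
  haveI : Etale E.hom := E.prop
  let e' : Spec (CommRingCat.of L') ⟶ E.left := pullback.lift v' ι hv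
  obtain ⟨s, hs, hsp⟩ := Scheme.exists_fac_of_etale_of_isSepClosed E.hom (𝟙 _) (e' default)
    (Subsingleton.elim (α := Spec (CommRingCat.of L)) _ _)
  haveI : Etale (s ≫ E.hom) := hs.symm ▸ inferInstance
  haveI : Etale s := Etale.of_comp s E.hom
  haveI : IsSplitMono s := IsSplitMono.mk' ⟨E.hom, hs⟩
  haveI : IsOpenImmersion s := IsOpenImmersion.of_flat_of_mono s
  have hr : Set.range e' ⊆ Set.range s := by
    rintro _ ⟨o, rfl⟩
    rw [Subsingleton.elim (α := Spec (CommRingCat.of L')) o default]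
    exact ⟨default, hsp⟩
  have h3 := IsOpenImmersion.lift_fac s e' hr
  have h4 : IsOpenImmersion.lift s e' hr = ι :=
    ((Category.comp_id _).symm.trans (congrArg (_ ≫ ·) hs.symm)).trans
      ((Category.assoc _ _ _).symm.trans ((congrArg (· ≫ E.hom) h3).trans (pullback.lift_snd _ _ _)))
  let v : Spec (CommRingCat.of L) ⟶ V.left := s ≫ pullback.fst V.hom η
  refine ⟨(Over.homMk v ((Category.assoc _ _ _).trans ((congrArg (s ≫ ·) pullback.condition).trans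
    ((Category.assoc _ _ _).symm.trans ((congrArg (· ≫ η) hs).trans (Category.id_comp _))))) :
    Over.mk η ⟶ (Scheme.Etale.forget X).obj V), ?_⟩
  exact (Category.assoc _ _ _).symm.trans ((congrArg (· ≫ pullback.fst V.hom η)
    (((congrArg (· ≫ s) h4.symm).trans h3))).trans (pullback.lift_fst _ _ _))

end Groth.Agent.DescSh.Chain
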