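import Groth.Agent.DescSh.Chain

/-!
Effective descent of étale sheaves of sets along morphisms admitting chains.
-/

set_option autoImplicit false
set_option linter.style.haveILetI false
set_option backward.isDefEq.respectTransparency.types false

universe u

open CategoryTheory CategoryTheory.Limits AlgebraicGeometry Opposite
open Groth.Agent.EtaleSite

namespace Groth.Agent.DescSh.ChainEff

open Groth.Agent.DescSh.Eff Groth.Agent.DescSh.Chain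

variable {X' X T : Scheme.{u}} {f : X' ⟶ X} {pr₁ pr₂ : T ⟶ X'}
  {F' : EtDesc.Sh X'} (φ : (EtDesc.pullSh pr₁).obj F' ≅ (EtDesc.pullSh pr₂).obj F')
  (hsq : IsPullback pr₁ pr₂ f f)
  (htrans : ∀ (L : Type u) [Field L] [IsAlgClosed L] (a b c : Spec (CommRingCat.of L) ⟶ T)
    (ξ ζ ρ : Spec (CommRingCat.of L) ⟶ X') (a₁ : a ≫ pr₁ = ξ) (a₂ : a ≫ pr₂ = ζ) (b₁ : b ≫ pr₁ = ζ)
    (b₂ : b ≫ pr₂ = ρ) (c₁ : c ≫ pr₁ = ξ) (c₂ : c ≫ pr₂ = ρ)
    (x : (SetStalk.stalkSh ξ).obj F') (y : (SetStalk.stalkSh ζ).obj F') (z : (SetStalk.stalkSh ρ).obj F'),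
    Rel pr₁ pr₂ φ a ξ ζ a₁ a₂ x y → Rel pr₁ pr₂ φ b ζ ρ b₁ b₂ y z → Rel pr₁ pr₂ φ c ξ ρ c₁ c₂ x z)

include htrans in
theorem htrans_pulled {W M : Scheme.{u}} (c : W ⟶ M) (σ : W ⟶ X') (k : pullback c c ⟶ T)
    (k₁ : k ≫ pr₁ = pullback.fst c c ≫ σ) (k₂ : k ≫ pr₂ = pullback.snd c c ≫ σ)
    (K : Type u) [Field K] [IsAlgClosed K] (a b d : Spec (CommRingCat.of K) ⟶ pullback c c)
    (ξ ζ ρ : Spec (CommRingCat.of K) ⟶ W) (a₁ : a ≫ pullback.fst c c = ξ) (a₂ : a ≫ pullback.snd c c = ζ)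
    (b₁ : b ≫ pullback.fst c c = ζ) (b₂ : b ≫ pullback.snd c c = ρ) (d₁ : d ≫ pullback.fst c c = ξ)
    (d₂ : d ≫ pullback.snd c c = ρ) (x : (SetStalk.stalkSh ξ).obj ((EtDesc.pullSh σ).obj F'))
    (y : (SetStalk.stalkSh ζ).obj ((EtDesc.pullSh σ).obj F'))
    (z : (SetStalk.stalkSh ρ).obj ((EtDesc.pullSh σ).obj F'))
    (hxy : Rel (pullback.fst c c) (pullback.snd c c) (pulledDatum φ σ k k₁ k₂) a ξ ζ a₁ a₂ x y)
    (hyz : Rel (pullback.fst c c) (pullback.snd c c) (pulledDatum φ σ k k₁ k₂) b ζ ρ b₁ b₂ y z) :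
    Rel (pullback.fst c c) (pullback.snd c c) (pulledDatum φ σ k k₁ k₂) d ξ ρ d₁ d₂ x z := by
  obtain ⟨x', rfl⟩ := (pullAt_bijective σ ξ _ rfl F').2 x
  obtain ⟨y', rfl⟩ := (pullAt_bijective σ ζ _ rfl F').2 y
  obtain ⟨z', rfl⟩ := (pullAt_bijective σ ρ _ rfl F').2 z
  have g₁ : ∀ (t : Spec (CommRingCat.of K) ⟶ pullback c c) (p : Spec (CommRingCat.of K) ⟶ W),
      t ≫ pullback.fst c c = p → (t ≫ k) ≫ pr₁ = p ≫ σ := fun t p h => by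
    rw [Category.assoc, k₁, reassoc_of% h]
  have g₂ : ∀ (t : Spec (CommRingCat.of K) ⟶ pullback c c) (p : Spec (CommRingCat.of K) ⟶ W),
      t ≫ pullback.snd c c = p → (t ≫ k) ≫ pr₂ = p ≫ σ := fun t p h => by
    rw [Category.assoc, k₂, reassoc_of% h]
  rw [rel_pulledDatum φ σ k _ _ a ξ ζ a₁ a₂ _ rfl _ _ rfl rfl (g₁ a ξ a₁) (g₂ a ζ a₂)] at hxy
  rw [rel_pulledDatum φ σ k _ _ b ζ ρ b₁ b₂ _ rfl _ _ rfl rfl (g₁ b ζ b₁) (g₂ b ρ b₂)] at hyz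
  rw [rel_pulledDatum φ σ k _ _ d ξ ρ d₁ d₂ _ rfl _ _ rfl rfl (g₁ d ξ d₁) (g₂ d ρ d₂)]
  exact htrans K _ _ _ _ _ _ _ _ _ _ _ _ x' y' z' hxy hyz

include hsq htrans in
theorem exists_local_good_of_chain {L : Type u} [Field L] [IsAlgClosed L]
    (ξ₀ : Spec (CommRingCat.of L) ⟶ X') (q : (SetStalk.stalkSh ξ₀).obj F')
    {M W : Scheme.{u}} (h : M ⟶ X) (hh : BCConn.HasFactor h) (c₀ : W ⟶ M) [Surjective c₀] [IsIntegralHom c₀]
    (σ₀ : W ⟶ X') (hσ₀ : σ₀ ≫ f = c₀ ≫ h) (m : M)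
    (hm : h m = (ξ₀ ≫ f) (default : Spec (CommRingCat.of L))) :
    ∃ (V : X.Etale) (v : (Scheme.pointSmallEtale (ξ₀ ≫ f)).fiber.obj V)
      (s : F'.obj.obj (op ((EtCoh.bc f).obj V))),
        Good f pr₁ pr₂ φ s ∧ SetStalk.germ ξ₀ F' _ (bcPt f ξ₀ rfl V v) s = q := by
  obtain ⟨U₀, u₀, s₀, rfl⟩ := SetStalk.exists_germ_eq ξ₀ F' q
  obtain ⟨w₀, hw₀⟩ := c₀.surjective m
  obtain ⟨pt, hpt, -⟩ := Scheme.Pullback.exists_preimage_pullback w₀ (default : Spec (CommRingCat.of L))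
    (f := c₀ ≫ h) (g := ξ₀ ≫ f) (by rw [Scheme.Hom.comp_apply, hw₀, hm])
  obtain ⟨L', iL', iA', l, hl⟩ := exists_algPoint_top pt
  let y₀ : Spec (CommRingCat.of L') ⟶ W := l ≫ pullback.fst (c₀ ≫ h) (ξ₀ ≫ f)
  let ι : Spec (CommRingCat.of L') ⟶ Spec (CommRingCat.of L) := l ≫ pullback.snd (c₀ ≫ h) (ξ₀ ≫ f)
  let ξ' : Spec (CommRingCat.of L') ⟶ X' := ι ≫ ξ₀
  have hy₀ : (y₀ ≫ σ₀) ≫ f = ξ' ≫ f := by
    simp only [y₀, ξ', ι, Category.assoc, hσ₀, pullback.condition]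
  have hu₀ : (ι ≫ u₀.left) ≫ U₀.hom = ξ' :=
    (Category.assoc _ _ _).trans (congrArg (ι ≫ ·) (Over.w u₀))
  let u₀' : (Scheme.pointSmallEtale ξ').fiber.obj U₀ :=
    (Over.homMk (ι ≫ u₀.left) hu₀ : Over.mk ξ' ⟶ (Scheme.Etale.forget X').obj U₀)
  let θ₀ := hsq.lift ξ' (y₀ ≫ σ₀) hy₀.symm
  obtain ⟨x₁, hx₁⟩ := rel_exists φ θ₀ (hsq.lift_fst _ _ _) (hsq.lift_snd _ _ _) (SetStalk.germ ξ' F' U₀ u₀' s₀)
  have hk : (pullback.fst c₀ c₀ ≫ σ₀) ≫ f = (pullback.snd c₀ c₀ ≫ σ₀) ≫ f := by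
    rw [Category.assoc, Category.assoc, hσ₀, pullback.condition_assoc]
  let k := hsq.lift _ _ hk
  let ψ := pulledDatum φ σ₀ k (hsq.lift_fst _ _ _) (hsq.lift_snd _ _ _)
  obtain ⟨p, hp⟩ := (bijective_cmp_incl ψ (IsPullback.of_hasPullback c₀ c₀)
    (htrans_pulled φ htrans c₀ σ₀ k (hsq.lift_fst _ _ _) (hsq.lift_snd _ _ _)) y₀ pullback.condition).2
    (pullAt σ₀ y₀ _ rfl F' x₁)
  obtain ⟨V₂, v₂, r₂, rfl⟩ := SetStalk.exists_germ_eq (y₀ ≫ c₀) _ p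
  simp only [SetStalk.germ_naturality, SetPush.cmpAt_germ] at hp
  obtain ⟨N₁, j, z₁, V, a, hz₁, ha, hgc, hus⟩ := hh V₂ (v₂.left (default : Spec (CommRingCat.of L')))
  obtain ⟨n₁, hn₁, -⟩ := exists_lift_fiber j v₂ z₁ hz₁
  let G := (EtDesc.pullSh σ₀).obj F'
  let U₁ : W.Etale := (EtCoh.bc c₀).obj N₁
  let ρ₀ : G.obj.obj (op ((EtCoh.bc c₀).obj V₂)) :=
    (incl c₀ (pullback.fst c₀ c₀) (pullback.snd c₀ c₀) pullback.condition ψ).hom.app (op V₂) r₂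
  have hgood : Good c₀ (pullback.fst c₀ c₀) (pullback.snd c₀ c₀) ψ ρ₀ :=
    good_incl (pullback.fst c₀ c₀) (pullback.snd c₀ c₀) pullback.condition ψ r₂
  let r₁ : G.obj.obj (op U₁) := G.obj.map ((EtCoh.bc c₀).map j).op ρ₀
  let π : U₁.left ⟶ N₁.left := pullback.fst N₁.hom c₀
  haveI : Surjective π := MorphismProperty.pullback_fst N₁.hom c₀ ‹_›
  haveI : IsIntegralHom π := MorphismProperty.pullback_fst N₁.hom c₀ ‹_›
  haveI : UniversallyClosed π := inferInstance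
  let σ : U₁.left ⟶ X' := U₁.hom ≫ σ₀
  have hσ : σ ≫ f = (π ≫ a) ≫ V.hom :=
    (Category.assoc _ _ _).trans ((congrArg (U₁.hom ≫ ·) hσ₀).trans ((Category.assoc _ _ _).symm.trans
      ((congrArg (· ≫ h) pullback.condition.symm).trans ((Category.assoc _ _ _).trans
        ((congrArg (π ≫ ·) ha.symm).trans (Category.assoc _ _ _).symm)))))
  let r : EtDesc.sect ((EtDesc.pullSh σ).obj F') (EtCoh.top U₁.left) :=
    (EtDesc.pullVia U₁.hom σ₀ σ rfl F').hom.hom.app (op (EtCoh.top U₁.left)) (toTop G U₁ r₁)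
  have hval : ∀ (K : Type u) [Field K] [IsAlgClosed K] (y : Spec (CommRingCat.of K) ⟶ U₁.left)
      (n : Spec (CommRingCat.of K) ⟶ W) (u : (Scheme.pointSmallEtale n).fiber.obj U₁), u.left = y →
      ∀ (ξ : Spec (CommRingCat.of K) ⟶ X') (e : y ≫ σ = ξ) (e' : n ≫ σ₀ = ξ)
      (x : (SetStalk.stalkSh ξ).obj F'),
      SetStalk.germ n G U₁ u r₁ = pullAt σ₀ n ξ e' F' x ↔ topGerm r y = pullAt σ y ξ e F' x := by
    intro K _ _ y n u hu ξ e e' x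
    have hn : y ≫ U₁.hom = n := (congrArg (· ≫ U₁.hom) hu.symm).trans (Over.w u)
    have h1 : topGerm r y = (SetStalk.stalkSh y).map (EtDesc.pullVia U₁.hom σ₀ σ rfl F').hom
        (pullAt U₁.hom y n hn G (SetStalk.germ n G U₁ u r₁)) :=
      (topGerm_app _ _ y).symm.trans (congrArg _ (topGerm_toTop G U₁ r₁ y n u hu))
    rw [h1, ← pullAt_pullVia U₁.hom σ₀ σ rfl F' y n hn ξ e' e x]
    exact (((SetStalk.stalkSh y).mapIso (EtDesc.pullVia U₁.hom σ₀ σ rfl F')).toEquiv.injective.comp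
      (pullAt_bijective U₁.hom y n hn G).1).eq_iff.symm
  have hπr : CompatMap φ π σ r := by
    intro K _ _ θ y₁ y₂ hy ξ₁ ξ₂ e₁ e₂ h₁ h₂ z₁' z₂' hz₁' hz₂'
    let u₁ : (Scheme.pointSmallEtale (y₁ ≫ U₁.hom)).fiber.obj U₁ :=
      (Over.homMk y₁ rfl : Over.mk (y₁ ≫ U₁.hom) ⟶ (Scheme.Etale.forget W).obj U₁)
    let u₂ : (Scheme.pointSmallEtale (y₂ ≫ U₁.hom)).fiber.obj U₁ :=
      (Over.homMk y₂ rfl : Over.mk (y₂ ≫ U₁.hom) ⟶ (Scheme.Etale.forget W).obj U₁)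
    have e₁' : (y₁ ≫ U₁.hom) ≫ σ₀ = ξ₁ := (Category.assoc _ _ _).trans e₁
    have e₂' : (y₂ ≫ U₁.hom) ≫ σ₀ = ξ₂ := (Category.assoc _ _ _).trans e₂
    have g₁ := (hval K y₁ _ u₁ rfl ξ₁ e₁ e₁' z₁').2 hz₁'
    have g₂ := (hval K y₂ _ u₂ rfl ξ₂ e₂ e₂' z₂').2 hz₂'
    rw [SetStalk.germ_res] at g₁ g₂
    have hyc : (y₁ ≫ U₁.hom) ≫ c₀ = (y₂ ≫ U₁.hom) ≫ c₀ :=
      (Category.assoc _ _ _).trans ((congrArg (y₁ ≫ ·) pullback.condition.symm).trans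
        ((Category.assoc _ _ _).symm.trans ((congrArg (· ≫ N₁.hom) hy).trans ((Category.assoc _ _ _).trans
          ((congrArg (y₂ ≫ ·) pullback.condition).trans (Category.assoc _ _ _).symm)))))
    let t := pullback.lift (f := c₀) (g := c₀) (y₁ ≫ U₁.hom) (y₂ ≫ U₁.hom) hyc
    have hw : ∀ y : Spec (CommRingCat.of K) ⟶ U₁.left,
        (y ≫ ((EtCoh.bc c₀).map j).left) ≫ pullback.fst V₂.hom c₀ = (y ≫ π) ≫ j.left := fun y =>
      (Category.assoc _ _ _).trans ((congrArg (y ≫ ·) (EtCoh.isPullback_bc_map c₀ j).w).trans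
        (Category.assoc _ _ _).symm)
    have hg := hgood K t _ _ (pullback.lift_fst _ _ _) (pullback.lift_snd _ _ _)
      ((Scheme.pointSmallEtale (y₁ ≫ U₁.hom)).fiber.map ((EtCoh.bc c₀).map j) u₁)
      ((Scheme.pointSmallEtale (y₂ ≫ U₁.hom)).fiber.map ((EtCoh.bc c₀).map j) u₂)
      ((hw y₁).trans ((congrArg (· ≫ j.left) hy).trans (hw y₂).symm))
    rw [g₁, g₂] at hg
    refine (rel_pulledDatum φ σ₀ k _ _ t _ _ _ _ θ ?_ ξ₁ ξ₂ e₁' e₂' h₁ h₂ z₁' z₂').1 hg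
    refine hsq.hom_ext ?_ ?_
    · rw [Category.assoc, hsq.lift_fst, h₁, pullback.lift_fst_assoc, e₁']
    · rw [Category.assoc, hsq.lift_snd, h₂, pullback.lift_snd_assoc, e₂']
  obtain ⟨s, hs, hspec⟩ := exists_good φ hsq htrans (π ≫ a) σ hσ (isUnivSubmersive_comp π a hus) r
    (compat_comp φ hsq htrans π a σ hσ r hπr)
  have hv' : (n₁.left ≫ a) ≫ V.hom = ι ≫ ξ₀ ≫ f :=
    (Category.assoc _ _ _).trans ((congrArg (n₁.left ≫ ·) ha).trans ((Category.assoc _ _ _).symm.trans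
      ((congrArg (· ≫ h) (Over.w n₁)).trans (by
        simp only [y₀, ι, Category.assoc, ← pullback.condition]
        rfl))))
  obtain ⟨v, hv⟩ := exists_point_of_ext V (ξ₀ ≫ f) ι (n₁.left ≫ a) hv'
  refine ⟨V, v, s, hs, ?_⟩
  let v' : (Scheme.pointSmallEtale (ξ' ≫ f)).fiber.obj V :=
    (Over.homMk (n₁.left ≫ a) (hv'.trans (Category.assoc _ _ _).symm) :
      Over.mk (ξ' ≫ f) ⟶ (Scheme.Etale.forget X).obj V)
  let u₁ := bcPt c₀ y₀ rfl N₁ n₁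
  have hmap : (Scheme.pointSmallEtale y₀).fiber.map ((EtCoh.bc c₀).map j) u₁ = bcPt c₀ y₀ rfl V₂ v₂ := by
    refine Over.OverMorphism.ext (pullback.hom_ext ?_ ((Over.w _).trans (Over.w _).symm))
    refine (Category.assoc _ _ _).trans ((congrArg (u₁.left ≫ ·) (EtCoh.isPullback_bc_map c₀ j).w).trans ?_)
    refine ((Category.assoc _ _ _).symm.trans (congrArg (· ≫ j.left) (pullback.lift_fst _ _ _))).trans ?_
    exact (congrArg (fun p : (Scheme.pointSmallEtale (y₀ ≫ c₀)).fiber.obj V₂ => p.left) hn₁).trans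
      (pullback.lift_fst _ _ _).symm
  have e₀ : u₁.left ≫ σ = y₀ ≫ σ₀ :=
    (Category.assoc _ _ _).symm.trans (congrArg (· ≫ σ₀) (Over.w u₁))
  have hx : topGerm r u₁.left = pullAt σ u₁.left (y₀ ≫ σ₀) e₀ F' x₁ :=
    (hval L' u₁.left y₀ u₁ rfl _ e₀ rfl x₁).1 (by rw [SetStalk.germ_res, hmap]; exact hp)
  have hxv : (bcPt f ξ' rfl V v').left ≫ pullback.fst V.hom f = u₁.left ≫ π ≫ a :=
    (pullback.lift_fst _ _ _).trans ((congrArg (· ≫ a) (pullback.lift_fst _ _ _).symm).trans (Category.assoc _ _ _))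
  have h' := hspec L' (hsq.lift (y₀ ≫ σ₀) ξ' hy₀) u₁.left (y₀ ≫ σ₀) ξ' e₀ (hsq.lift_fst _ _ _)
    (hsq.lift_snd _ _ _) (bcPt f ξ' rfl V v') hxv x₁ hx
  let d := hsq.lift ξ' ξ' rfl
  have heq : SetStalk.germ ξ' F' _ (bcPt f ξ' rfl V v') s = SetStalk.germ ξ' F' U₀ u₀' s₀ :=
    rel_unique φ (htrans L' _ _ d _ _ _ (hsq.lift_fst _ _ _) (hsq.lift_snd _ _ _) (hsq.lift_fst _ _ _)
      (hsq.lift_snd _ _ _) (hsq.lift_fst _ _ _) (hsq.lift_snd _ _ _) _ x₁ _ hx₁ h')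
      (rel_refl φ htrans d (hsq.lift_fst _ _ _) (hsq.lift_snd _ _ _) _)
  obtain ⟨z, ⟨p₁, hp₁⟩, ⟨p₂, hp₂⟩, -⟩ :=
    IsCofilteredOrEmpty.cone_objs ((Scheme.pointSmallEtale ξ₀).fiber.elementsMk _ (bcPt f ξ₀ rfl V v))
      ((Scheme.pointSmallEtale ξ₀).fiber.elementsMk _ u₀)
  dsimp at p₁ p₂ hp₁ hp₂
  let z' : (Scheme.pointSmallEtale ξ').fiber.obj z.1 :=
    (Over.homMk (ι ≫ z.2.left) ((Category.assoc _ _ _).trans (congrArg (ι ≫ ·) (Over.w z.2))) :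
      Over.mk ξ' ⟶ (Scheme.Etale.forget X').obj z.1)
  have hz₁' : (Scheme.pointSmallEtale ξ').fiber.map p₁ z' = bcPt f ξ' rfl V v' := by
    refine Over.OverMorphism.ext (pullback.hom_ext ?_ ((Over.w _).trans (Over.w _).symm))
    refine (congrArg (fun m => m ≫ pullback.fst V.hom f) ((Category.assoc _ _ _).trans
      (congrArg (fun q : (Scheme.pointSmallEtale ξ₀).fiber.obj _ => ι ≫ q.left) hp₁))).trans ?_
    refine (Category.assoc _ _ _).trans ((congrArg (ι ≫ ·) (pullback.lift_fst _ _ _)).trans ?_)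
    exact hv.trans (pullback.lift_fst _ _ _).symm
  have hz₂' : (Scheme.pointSmallEtale ξ').fiber.map p₂ z' = u₀' :=
    Over.OverMorphism.ext ((Category.assoc _ _ _).trans
      (congrArg (fun q : (Scheme.pointSmallEtale ξ₀).fiber.obj _ => ι ≫ q.left) hp₂))
  rw [← hz₁', ← hz₂', ← SetStalk.germ_res, ← SetStalk.germ_res] at heq
  rw [← hp₁, ← hp₂, ← SetStalk.germ_res, ← SetStalk.germ_res]
  refine (eqAt_iff_germ F' _ _ z.2 (u := z.2.left (default : Spec (CommRingCat.of L))) rfl).1 ((eqAt_iff_germ F' _ _ z' ?_).2 heq)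
  exact congrArg z.2.left (Subsingleton.elim (α := Spec (CommRingCat.of L)) _ _)

/-- Descent along `f` is effective if every point of the base is covered by a chain. -/
theorem isEffective_of_chain {X' X : Scheme.{u}} (f : X' ⟶ X) (hf : EtDesc.IsUnivSubmersive f)
    (hms : ∀ x : X, ∃ (M W : Scheme.{u}) (h : M ⟶ X) (c : W ⟶ M) (σ : W ⟶ X'),
      BCConn.HasFactor h ∧ x ∈ Set.range h ∧ Surjective c ∧ IsIntegralHom c ∧ σ ≫ f = c ≫ h)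
    (F' : EtDesc.Sh X')
    (φ : (EtDesc.pullSh (pullback.fst f f)).obj F' ≅ (EtDesc.pullSh (pullback.snd f f)).obj F')
    (hφ : EtDesc.IsCocycle F' φ) : EtDesc.IsEffective f F' φ := by
  have htrans : ∀ (L : Type u) [Field L] [IsAlgClosed L] (a b c : Spec (CommRingCat.of L) ⟶ EtDesc.X2 f)
    (ξ ζ ρ : Spec (CommRingCat.of L) ⟶ X') (a₁ : a ≫ pullback.fst f f = ξ) (a₂ : a ≫ pullback.snd f f = ζ)
    (b₁ : b ≫ pullback.fst f f = ζ) (b₂ : b ≫ pullback.snd f f = ρ) (c₁ : c ≫ pullback.fst f f = ξ)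
    (c₂ : c ≫ pullback.snd f f = ρ)
    (x : (SetStalk.stalkSh ξ).obj F') (y : (SetStalk.stalkSh ζ).obj F')
    (z : (SetStalk.stalkSh ρ).obj F'),
    Rel (pullback.fst f f) (pullback.snd f f) φ a ξ ζ a₁ a₂ x y →
    Rel (pullback.fst f f) (pullback.snd f f) φ b ζ ρ b₁ b₂ y z →
    Rel (pullback.fst f f) (pullback.snd f f) φ c ξ ρ c₁ c₂ x z := by
    intro L _ _ a b c ξ ζ ρ a₁ a₂ b₁ b₂ c₁ c₂ x y z hxy hyz
    let t : Spec (CommRingCat.of L) ⟶ EtDesc.X3 f := pullback.lift a b (a₂.trans b₁.symm)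
    have ta : t ≫ EtDesc.p12 f = a := pullback.lift_fst _ _ _
    have tb : t ≫ EtDesc.p23 f = b := pullback.lift_snd _ _ _
    have tc : t ≫ EtDesc.p13 f = c := by
      apply pullback.hom_ext
      · rw [Category.assoc, EtDesc.p13_fst, ← Category.assoc, ta, a₁, c₁]
      · rw [Category.assoc, EtDesc.p13_snd, ← Category.assoc, tb, b₂, c₂]
    unfold EtDesc.IsCocycle at hφ
    rw [Criterion.pullIsoVia_def, Criterion.pullIsoVia_def, Criterion.pullIsoVia_def] at hφ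
    exact rel_trans_of_cocycle _ _ φ (EtDesc.p12 f) (EtDesc.p23 f) (EtDesc.p13 f) _ _ _ rfl rfl
      EtDesc.p23_fst rfl EtDesc.p13_fst EtDesc.p13_snd hφ t a b c ta tb tc ξ ζ ρ a₁ a₂ b₁ b₂ c₁ c₂ x y z hxy hyz
  obtain ⟨F, ψ, hψ⟩ := exists_desc_of_local (pr₁ := pullback.fst f f) (pr₂ := pullback.snd f f)
    pullback.condition φ (IsPullback.of_hasPullback f f) hf fun L _ _ ξ₀ q => by
      obtain ⟨M, W, h, c, σ, hh, ⟨m, hm⟩, hc, hi, hσ⟩ := hms ((ξ₀ ≫ f) default)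
      exact exists_local_good_of_chain φ (IsPullback.of_hasPullback f f) htrans ξ₀ q h hh c σ hσ m hm
  exact ⟨F, ψ, Criterion.eq_of_comp_eq _ _ _ _ ((congrArg (fun k => k ≫ (EtDesc.pullSh (pullback.snd f f)).map ψ.hom)
    (congrArg Iso.hom (canIso_eq f F))).trans hψ)⟩

end Groth.Agent.DescSh.ChainEff
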