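import Groth.Agent.DescSh.Germ
import Groth.Agent.S0658

/-!
Inverse images from the spectrum of a field: the agreement locus of two sections is clopen.
-/

set_option autoImplicit false
set_option linter.style.haveILetI false
set_option backward.isDefEq.respectTransparency.types false

universe u

open CategoryTheory CategoryTheory.Limits AlgebraicGeometry Opposite
open Groth.Agent.EtaleSite

namespace Groth.Agent.DescSh

variable {M Z : Scheme.{u}}

/-- The agreement of global sections at a point, on geometric germs. -/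
theorem eqAt_top_iff (G : EtDesc.Sh M) (r₁ r₂ : EtDesc.sect G (EtCoh.top M)) {L : Type u} [Field L]
    [IsSepClosed L] (z : Spec (CommRingCat.of L) ⟶ M) :
    EqAt G r₁ r₂ (z default) ↔ topGerm r₁ z = topGerm r₂ z :=
  eqAt_iff_germ G r₁ r₂ (topPt z) rfl

theorem exists_algPoint_top (m : M) :
    ∃ (L : Type u) (_ : Field L) (_ : IsAlgClosed L) (z : Spec (CommRingCat.of L) ⟶ M), z default = m := by
  obtain ⟨L, i₁, i₂, ξ, x, hx⟩ := exists_algPoint (Y := M) (U := EtCoh.top M) m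
  exact ⟨L, i₁, i₂, x.left, hx⟩

theorem eqAt_app_iff {A B : EtDesc.Sh M} (v : A ⟶ B) [IsIso v] (r₁ r₂ : EtDesc.sect A (EtCoh.top M)) (m : M) :
    EqAt B (v.hom.app (op (EtCoh.top M)) r₁) (v.hom.app (op (EtCoh.top M)) r₂) m ↔ EqAt A r₁ r₂ m := by
  obtain ⟨L, _, _, z, rfl⟩ := exists_algPoint_top m
  refine (eqAt_top_iff B _ _ z).trans (Iff.trans ?_ (eqAt_top_iff A r₁ r₂ z).symm)
  rw [← topGerm_app, ← topGerm_app]
  exact (((SetStalk.stalkSh z).mapIso (asIso v)).toEquiv.injective).eq_iff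

theorem eqAt_secPull_iff {P : Scheme.{u}} (a : P ⟶ M) (G : EtDesc.Sh M) (r₁ r₂ : EtDesc.sect G (EtCoh.top M))
    (p : P) : EqAt ((EtDesc.pullSh a).obj G) (EtDesc.secPull a G r₁) (EtDesc.secPull a G r₂) p ↔
      EqAt G r₁ r₂ (a p) := by
  obtain ⟨L, _, _, z, rfl⟩ := exists_algPoint_top p
  refine (eqAt_top_iff _ _ _ z).trans (Iff.trans ?_ (eqAt_top_iff G r₁ r₂ (z ≫ a)).symm)
  rw [topGerm_secPull a G r₁ z _ rfl, topGerm_secPull a G r₂ z _ rfl]
  exact (pullAt_bijective a z _ rfl G).1.eq_iff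

/-- If étale schemes over `Z` are discrete, two sections of an inverse image from `Z` disagree on an
open set. -/
theorem isOpen_not_eqAt (hZ : ∀ W : Z.Etale, DiscreteTopology W.left) (m : M ⟶ Z) (G : EtDesc.Sh Z)
    (r₁ r₂ : EtDesc.sect ((EtDesc.pullSh m).obj G) (EtCoh.top M)) :
    IsOpen {p : M | ¬ EqAt ((EtDesc.pullSh m).obj G) r₁ r₂ p} := by
  let H := (EtDesc.pullSh m).obj G
  rw [isOpen_iff_forall_mem_open]
  intro p hp
  obtain ⟨L, _, _, z, rfl⟩ := exists_algPoint_top p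
  obtain ⟨c₁, hc₁⟩ := (pullAt_bijective m z _ rfl G).2 (topGerm r₁ z)
  obtain ⟨c₂, hc₂⟩ := (pullAt_bijective m z _ rfl G).2 (topGerm r₂ z)
  obtain ⟨W, y, t₁, t₂, rfl, rfl⟩ := SetPush.exists_germ_eq_pair (z ≫ m) G c₁ c₂
  let P := (EtCoh.bc m).obj W
  let π : P ⟶ EtCoh.top M := (EtCore.topIsTerminal M).from P
  let q : P.left ⟶ M := π.left
  haveI : Etale q := etale_left π
  let R₁ := H.obj.map π.op r₁
  let R₂ := H.obj.map π.op r₂
  let w : P.left → W.left := (pullback.fst W.hom m : P.left ⟶ W.left)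
  let O : Set P.left := {u | EqAt H R₁ (secUp m G t₁) u} ∩ {u | EqAt H R₂ (secUp m G t₂) u} ∩
    w ⁻¹' {v | ¬ EqAt G t₁ t₂ v}
  have hO : IsOpen O := ((isOpen_eqAt H _ _).inter (isOpen_eqAt H _ _)).inter
    ((@isOpen_discrete W.left _ (hZ W) {v | ¬ EqAt G t₁ t₂ v}).preimage (pullback.fst W.hom m).continuous)
  refine ⟨q '' O, ?_, q.isOpenMap O hO, ?_⟩
  · rintro _ ⟨u, ⟨⟨h₁, h₂⟩, h₃⟩, rfl⟩ he
    obtain ⟨K, _, _, ξ, x, hx⟩ := exists_algPoint u
    have hh := (eqAt_res H π r₁ r₂ u).2 he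
    rw [eqAt_iff_germ H _ _ x hx] at hh
    have g₁ := (eqAt_iff_germ H _ _ x hx).1 h₁
    have g₂ := (eqAt_iff_germ H _ _ x hx).1 h₂
    exact h₃ ((eqAt_secUp_iff m G t₁ t₂ u).1 ((eqAt_iff_germ H _ _ x hx).2 (g₁.symm.trans (hh.trans g₂))))
  · let x := bcPt m z rfl W y
    have hπ : (Scheme.pointSmallEtale z).fiber.map π x = topPt z := eq_topPt z _
    have e₁ : SetStalk.germ z H P x R₁ = SetStalk.germ z H P x (secUp m G t₁) := by
      rw [SetStalk.germ_res, hπ]
      exact hc₁.symm.trans (pullAt_germ m z _ rfl G W y t₁)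
    have e₂ : SetStalk.germ z H P x R₂ = SetStalk.germ z H P x (secUp m G t₂) := by
      rw [SetStalk.germ_res, hπ]
      exact hc₂.symm.trans (pullAt_germ m z _ rfl G W y t₂)
    have hqx : q (x.left (default : Spec (CommRingCat.of L))) = z default :=
      congrArg (fun k : (Scheme.pointSmallEtale z).fiber.obj (EtCoh.top M) =>
        k.left (default : Spec (CommRingCat.of L))) hπ
    refine ⟨_, ⟨⟨(eqAt_iff_germ H _ _ x rfl).2 e₁, (eqAt_iff_germ H _ _ x rfl).2 e₂⟩, fun h3 => hp ?_⟩, hqx⟩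
    rw [← hqx]
    refine (eqAt_res H π r₁ r₂ _).1 ((eqAt_iff_germ H _ _ x rfl).2 ?_)
    exact e₁.trans (((eqAt_iff_germ H _ _ x rfl).1 ((eqAt_secUp_iff m G t₁ t₂ _).2 h3)).trans e₂.symm)

theorem discreteTopology_etale_field (K : Type u) [Field K] (W : (Spec (CommRingCat.of K)).Etale) :
    DiscreteTopology W.left := by
  let q : W.left ⟶ Spec (CommRingCat.of K) := W.hom
  haveI : Etale q := W.prop
  refine discreteTopology_iff_isOpen_singleton.2 fun z => ?_
  obtain ⟨_, _, _, _, _, j, _, -, hj⟩ := Groth.Agent.S0658.exists_piece q z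
  exact hj ▸ j.isOpenEmbedding.isOpen_range

theorem isOpen_not_eqAt_field {K : Type u} [Field K] (m : M ⟶ Spec (CommRingCat.of K))
    (G : EtDesc.Sh (Spec (CommRingCat.of K)))
    (r₁ r₂ : EtDesc.sect ((EtDesc.pullSh m).obj G) (EtCoh.top M)) :
    IsOpen {p : M | ¬ EqAt ((EtDesc.pullSh m).obj G) r₁ r₂ p} :=
  isOpen_not_eqAt (discreteTopology_etale_field K) m G r₁ r₂

/-- A global section of an inverse image comes from below if, over every pair of points, its germs
correspond after some extension. -/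
theorem exists_secPull_eq' {Y : Scheme.{u}} (f : Z ⟶ Y) (hf : EtDesc.IsUnivSubmersive f) (G : EtDesc.Sh Y)
    (t : EtDesc.sect ((EtDesc.pullSh f).obj G) (EtCoh.top Z))
    (h : ∀ c : ↥(pullback f f), ∃ (L : Type u) (_ : Field L) (_ : IsAlgClosed L)
      (θ : Spec (CommRingCat.of L) ⟶ pullback f f), θ default = c ∧
      ∀ (n : Spec (CommRingCat.of L) ⟶ Y) (e₁ : (θ ≫ pullback.fst f f) ≫ f = n)
        (e₂ : (θ ≫ pullback.snd f f) ≫ f = n) (x : (SetStalk.stalkSh n).obj G),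
        topGerm t (θ ≫ pullback.fst f f) = pullAt f _ n e₁ G x →
          topGerm t (θ ≫ pullback.snd f f) = pullAt f _ n e₂ G x) :
    ∃ s, EtDesc.secPull f G s = t := by
  refine (range_secPull f hf G t).2 ((canIso_app_iff f G t).2 ?_)
  refine eq_of_eqAt (X := pullback f f) ((EtDesc.pullSh (pullback.snd f f)).obj ((EtDesc.pullSh f).obj G))
    (U := EtCoh.top (pullback f f)) _ _ fun c => ?_
  obtain ⟨L, _, _, θ, rfl, hθ⟩ := h c
  refine (eqAt_top_iff _ _ _ θ).2 ?_
  have e₂ : (θ ≫ pullback.snd f f) ≫ f = (θ ≫ pullback.fst f f) ≫ f := by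
    rw [Category.assoc, Category.assoc, pullback.condition]
  obtain ⟨p, hp⟩ := (pullAt_bijective f (θ ≫ pullback.fst f f) _ rfl G).2 (topGerm t (θ ≫ pullback.fst f f))
  refine (topGerm_app _ _ θ).symm.trans ?_
  refine Eq.trans ?_ (topGerm_secPull (pullback.snd f f) ((EtDesc.pullSh f).obj G) t θ _ rfl).symm
  rw [topGerm_secPull (pullback.fst f f) ((EtDesc.pullSh f).obj G) t θ _ rfl, ← hp, hθ _ rfl e₂ p hp.symm]
  exact canT_stalk f _ _ pullback.condition G θ _ _ rfl rfl _ rfl e₂ p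

end Groth.Agent.DescSh
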