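import Groth.Agent.DescSh.LocalEff
import Groth.Agent.EtaleSite.PushFiber

/-!
Compatible sections from a multisection.
-/

set_option autoImplicit false
set_option linter.style.haveILetI false
set_option backward.isDefEq.respectTransparency.types false

universe u

open CategoryTheory CategoryTheory.Limits AlgebraicGeometry Opposite
open Groth.Agent.EtaleSite

namespace Groth.Agent.DescSh

theorem isUnivSubmersive_of_universallyClosed {A B : Scheme.{u}} (f : A ⟶ B) [Surjective f]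
    [UniversallyClosed f] : EtDesc.IsUnivSubmersive f := fun Y g =>
  ⟨(pullback.snd f g).surjective,
    (pullback.snd f g).isClosedMap.isQuotientMap (pullback.snd f g).continuous (pullback.snd f g).surjective⟩

theorem isUnivSubmersive_of_universallyOpen {A B : Scheme.{u}} (f : A ⟶ B) [Surjective f]
    [UniversallyOpen f] : EtDesc.IsUnivSubmersive f := fun Y g =>
  ⟨(pullback.snd f g).surjective,
    (pullback.snd f g).isOpenMap.isQuotientMap (pullback.snd f g).continuous (pullback.snd f g).surjective⟩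

theorem isUnivSubmersive_pullback_fst {A B C : Scheme.{u}} (a : A ⟶ C) (b : B ⟶ C) (hb : EtDesc.IsUnivSubmersive b) :
    EtDesc.IsUnivSubmersive (pullback.fst a b) := by
  intro Y y
  have hp : IsPullback (pullback.fst (pullback.fst a b) y ≫ pullback.snd a b)
      (pullback.snd (pullback.fst a b) y) b (y ≫ a) :=
    (IsPullback.of_hasPullback (pullback.fst a b) y).paste_horiz (IsPullback.of_hasPullback a b).flip
  obtain ⟨hs, hq⟩ := hb Y (y ≫ a)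
  rw [← hp.isoPullback_hom_snd]
  exact ⟨hs.comp hp.isoPullback.hom.surjective, hq.comp hp.isoPullback.hom.homeomorph.isQuotientMap⟩

namespace Eff

variable {X' X T : Scheme.{u}} {f : X' ⟶ X} {pr₁ pr₂ : T ⟶ X'}
  {F' : EtDesc.Sh X'} (φ : (EtDesc.pullSh pr₁).obj F' ≅ (EtDesc.pullSh pr₂).obj F')
  {V : X.Etale} {W : Scheme.{u}} (c : W ⟶ V.left) (σ : W ⟶ X') (hσ : σ ≫ f = c ≫ V.hom)

/-- The values of a section along a multisection correspond under the descent datum. -/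
def Compat (r : EtDesc.sect ((EtDesc.pullSh σ).obj F') (EtCoh.top W)) : Prop :=
  ∀ (L : Type u) [Field L] [IsAlgClosed L] (θ : Spec (CommRingCat.of L) ⟶ T)
    (y₁ y₂ : Spec (CommRingCat.of L) ⟶ W), y₁ ≫ c = y₂ ≫ c →
    ∀ (ξ₁ ξ₂ : Spec (CommRingCat.of L) ⟶ X') (e₁ : y₁ ≫ σ = ξ₁) (e₂ : y₂ ≫ σ = ξ₂)
      (h₁ : θ ≫ pr₁ = ξ₁) (h₂ : θ ≫ pr₂ = ξ₂)
      (x₁ : (SetStalk.stalkSh ξ₁).obj F') (x₂ : (SetStalk.stalkSh ξ₂).obj F'),
      topGerm r y₁ = pullAt σ y₁ ξ₁ e₁ F' x₁ → topGerm r y₂ = pullAt σ y₂ ξ₂ e₂ F' x₂ →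
        Rel pr₁ pr₂ φ θ ξ₁ ξ₂ h₁ h₂ x₁ x₂

variable (hsq : IsPullback pr₁ pr₂ f f)
  (htrans : ∀ (L : Type u) [Field L] [IsAlgClosed L] (a b c : Spec (CommRingCat.of L) ⟶ T)
    (ξ ζ ρ : Spec (CommRingCat.of L) ⟶ X') (a₁ : a ≫ pr₁ = ξ) (a₂ : a ≫ pr₂ = ζ) (b₁ : b ≫ pr₁ = ζ)
    (b₂ : b ≫ pr₂ = ρ) (c₁ : c ≫ pr₁ = ξ) (c₂ : c ≫ pr₂ = ρ)
    (x : (SetStalk.stalkSh ξ).obj F') (y : (SetStalk.stalkSh ζ).obj F') (z : (SetStalk.stalkSh ρ).obj F'),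
    Rel pr₁ pr₂ φ a ξ ζ a₁ a₂ x y → Rel pr₁ pr₂ φ b ζ ρ b₁ b₂ y z → Rel pr₁ pr₂ φ c ξ ρ c₁ c₂ x z)

include hσ hsq htrans in
/-- A compatible section on a multisection spreads to a compatible section. -/
theorem exists_good_of_submersive (hc : EtDesc.IsUnivSubmersive c)
    (r : EtDesc.sect ((EtDesc.pullSh σ).obj F') (EtCoh.top W)) (hr : Compat φ c σ r) :
    ∃ s : F'.obj.obj (op ((EtCoh.bc f).obj V)),
      ∀ (L : Type u) [Field L] [IsAlgClosed L] (θ : Spec (CommRingCat.of L) ⟶ T)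
        (y : Spec (CommRingCat.of L) ⟶ W) (ξ₁ ξ : Spec (CommRingCat.of L) ⟶ X') (e₁ : y ≫ σ = ξ₁)
        (h₁ : θ ≫ pr₁ = ξ₁) (h₂ : θ ≫ pr₂ = ξ)
        (x : (Scheme.pointSmallEtale ξ).fiber.obj ((EtCoh.bc f).obj V)),
        x.left ≫ pullback.fst V.hom f = y ≫ c →
        ∀ x₁ : (SetStalk.stalkSh ξ₁).obj F', topGerm r y = pullAt σ y ξ₁ e₁ F' x₁ →
          Rel pr₁ pr₂ φ θ ξ₁ ξ h₁ h₂ x₁ (SetStalk.germ ξ F' _ x s) := by
  let U' : X'.Etale := (EtCoh.bc f).obj V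
  let a : U'.left ⟶ V.left := pullback.fst V.hom f
  let Z : Scheme.{u} := pullback a c
  let πX : Z ⟶ U'.left := pullback.fst a c
  let πW : Z ⟶ W := pullback.snd a c
  have hZ : (πW ≫ σ) ≫ f = (πX ≫ U'.hom) ≫ f :=
    (Category.assoc _ _ _).trans ((congrArg (πW ≫ ·) hσ).trans ((Category.assoc _ _ _).symm.trans
      ((congrArg (· ≫ V.hom) pullback.condition.symm).trans ((Category.assoc _ _ _).trans
        ((congrArg (πX ≫ ·) pullback.condition).trans (Category.assoc _ _ _).symm)))))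
  let k : Z ⟶ T := hsq.lift (πW ≫ σ) (πX ≫ U'.hom) hZ
  have k₁ : k ≫ pr₁ = πW ≫ σ := hsq.lift_fst _ _ _
  have k₂ : k ≫ pr₂ = πX ≫ U'.hom := hsq.lift_snd _ _ _
  let M : (EtDesc.pullSh πW).obj ((EtDesc.pullSh σ).obj F') ⟶
      (EtDesc.pullSh πX).obj ((EtDesc.pullSh U'.hom).obj F') :=
    (EtDesc.pullVia πW σ (πW ≫ σ) rfl F').hom ≫
      ((EtDesc.pullVia k pr₁ (πW ≫ σ) k₁ F').inv ≫ (EtDesc.pullSh k).map φ.hom ≫
        (EtDesc.pullVia k pr₂ (πX ≫ U'.hom) k₂ F').hom) ≫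
      (EtDesc.pullVia πX U'.hom (πX ≫ U'.hom) rfl F').inv
  let t := M.hom.app (op (EtCoh.top Z)) (EtDesc.secPull πW _ r)
  have key : ∀ (L : Type u) [Field L] [IsAlgClosed L] (z : Spec (CommRingCat.of L) ⟶ Z)
      (y : Spec (CommRingCat.of L) ⟶ W) (n : Spec (CommRingCat.of L) ⟶ U'.left) (ey : z ≫ πW = y)
      (en : z ≫ πX = n) (θ : Spec (CommRingCat.of L) ⟶ T) (eθ : z ≫ k = θ)
      (ξ₁ ξ : Spec (CommRingCat.of L) ⟶ X') (e₁ : y ≫ σ = ξ₁) (e₂ : n ≫ U'.hom = ξ)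
      (h₁ : θ ≫ pr₁ = ξ₁) (h₂ : θ ≫ pr₂ = ξ)
      (x₁ : (SetStalk.stalkSh ξ₁).obj F') (x₂ : (SetStalk.stalkSh ξ).obj F'),
      topGerm r y = pullAt σ y ξ₁ e₁ F' x₁ → Rel pr₁ pr₂ φ θ ξ₁ ξ h₁ h₂ x₁ x₂ →
        topGerm t z = pullAt πX z n en _ (pullAt U'.hom n ξ e₂ F' x₂) := by
    intro L _ _ z y n ey en θ eθ ξ₁ ξ e₁ e₂ h₁ h₂ x₁ x₂ hx hrel
    have b₁ : z ≫ πW ≫ σ = ξ₁ := by rw [← Category.assoc, ey, e₁]
    have b₂ : z ≫ πX ≫ U'.hom = ξ := ((Category.assoc _ _ _).symm.trans (congrArg (· ≫ U'.hom) en)).trans e₂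
    refine (topGerm_app M _ z).symm.trans ?_
    rw [topGerm_secPull πW _ r z y ey, hx]
    refine (stalk_trans _ _ _).trans ((stalk_trans _ _ _).trans ?_)
    rw [pullAt_pullVia πW σ (πW ≫ σ) rfl F' z y ey ξ₁ e₁ b₁ x₁,
      (rel_pullIsoVia pr₁ pr₂ φ k (πW ≫ σ) (πX ≫ U'.hom) k₁ k₂ z θ eθ ξ₁ ξ h₁ h₂ b₁ b₂ x₁ x₂).2 hrel]
    exact stalk_symm (EtDesc.pullVia πX U'.hom (πX ≫ U'.hom) rfl F') _ _
      (pullAt_pullVia πX U'.hom (πX ≫ U'.hom) rfl F' z n en ξ e₂ b₂ x₂)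
  obtain ⟨s₀, hs₀⟩ := exists_secPull_eq πX (isUnivSubmersive_pullback_fst a c hc) _ t
    (fun L _ _ z₁ z₂ n e₁ e₂ p hp => by
      let y₁ := z₁ ≫ πW
      let y₂ := z₂ ≫ πW
      let ξ := n ≫ U'.hom
      have hy : y₁ ≫ c = y₂ ≫ c :=
        (Category.assoc _ _ _).trans ((congrArg (z₁ ≫ ·) pullback.condition.symm).trans
          ((Category.assoc _ _ _).symm.trans ((congrArg (· ≫ a) (e₁.trans e₂.symm)).trans
            ((Category.assoc _ _ _).trans ((congrArg (z₂ ≫ ·) pullback.condition).trans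
              (Category.assoc _ _ _).symm)))))
      have q₁ : (z₁ ≫ k) ≫ pr₁ = y₁ ≫ σ := by rw [Category.assoc, k₁, ← Category.assoc]
      have q₂ : (z₂ ≫ k) ≫ pr₁ = y₂ ≫ σ := by rw [Category.assoc, k₁, ← Category.assoc]
      have r₁ : (z₁ ≫ k) ≫ pr₂ = ξ :=
        (Category.assoc _ _ _).trans ((congrArg (z₁ ≫ ·) k₂).trans
          ((Category.assoc _ _ _).symm.trans (congrArg (· ≫ U'.hom) e₁)))
      have r₂ : (z₂ ≫ k) ≫ pr₂ = ξ :=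
        (Category.assoc _ _ _).trans ((congrArg (z₂ ≫ ·) k₂).trans
          ((Category.assoc _ _ _).symm.trans (congrArg (· ≫ U'.hom) e₂)))
      obtain ⟨x₁, hx₁⟩ := (pullAt_bijective σ y₁ _ rfl F').2 (topGerm r y₁)
      obtain ⟨x₂, hx₂⟩ := (pullAt_bijective σ y₂ _ rfl F').2 (topGerm r y₂)
      obtain ⟨v₁, hv₁⟩ := rel_exists φ (z₁ ≫ k) q₁ r₁ x₁
      obtain ⟨v₂, hv₂⟩ := rel_exists φ (z₂ ≫ k) q₂ r₂ x₂
      have hc₁ := key L z₁ y₁ n rfl e₁ _ rfl _ ξ rfl rfl q₁ r₁ x₁ v₁ hx₁.symm hv₁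
      have hc₂ := key L z₂ y₂ n rfl e₂ _ rfl _ ξ rfl rfl q₂ r₂ x₂ v₂ hx₂.symm hv₂
      have hθ : (y₁ ≫ σ) ≫ f = (y₂ ≫ σ) ≫ f :=
        (Category.assoc _ _ _).trans ((congrArg (y₁ ≫ ·) hσ).trans ((Category.assoc _ _ _).symm.trans
          ((congrArg (· ≫ V.hom) hy).trans ((Category.assoc _ _ _).trans
            ((congrArg (y₂ ≫ ·) hσ.symm).trans (Category.assoc _ _ _).symm)))))
      have h12 := hr L (hsq.lift _ _ hθ) y₁ y₂ hy _ _ rfl rfl (hsq.lift_fst _ _ _) (hsq.lift_snd _ _ _)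
        x₁ x₂ hx₁.symm hx₂.symm
      obtain rfl := rel_unique φ
        (htrans L _ _ (z₁ ≫ k) _ _ _ (hsq.lift_fst _ _ _) (hsq.lift_snd _ _ _) q₂ r₂ q₁ r₁ _ _ _ h12 hv₂) hv₁
      rw [hc₂]
      obtain rfl := (pullAt_bijective πX z₁ n e₁ _).1 (hc₁.symm.trans hp)
      rfl)
  obtain ⟨s, hs⟩ := (bijective_toTop F' U').2 s₀
  refine ⟨s, fun L _ _ θ y ξ₁ ξ e₁ h₁ h₂ x hx x₁ hx₁ => ?_⟩
  obtain ⟨x₂, hrel⟩ := rel_exists φ θ h₁ h₂ x₁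
  let n : Spec (CommRingCat.of L) ⟶ U'.left := x.left
  have e₂ : n ≫ U'.hom = ξ := Over.w x
  let z : Spec (CommRingCat.of L) ⟶ Z := pullback.lift n y hx
  have ey : z ≫ πW = y := pullback.lift_snd _ _ _
  have en : z ≫ πX = n := pullback.lift_fst _ _ _
  have eθ : z ≫ k = θ := hsq.hom_ext
    (((Category.assoc _ _ _).trans (congrArg (z ≫ ·) k₁)).trans
      (((Category.assoc _ _ _).symm.trans (congrArg (· ≫ σ) ey)).trans (e₁.trans h₁.symm)))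
    (((Category.assoc _ _ _).trans (congrArg (z ≫ ·) k₂)).trans
      (((Category.assoc _ _ _).symm.trans (congrArg (· ≫ U'.hom) en)).trans (e₂.trans h₂.symm)))
  have ht := key L z y n ey en θ eθ ξ₁ ξ e₁ e₂ h₁ h₂ x₁ x₂ hx₁ hrel
  rw [← hs₀, topGerm_secPull πX _ s₀ z n en, ← hs] at ht
  have := (pullAt_bijective πX z n en _).1 ht
  rw [topGerm_toTop F' U' s n ξ x rfl] at this
  rw [(pullAt_bijective U'.hom n ξ e₂ F').1 this]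
  exact hrel

include hσ hsq htrans in
/-- A compatible section on a universally closed multisection spreads to a compatible section. -/
theorem exists_good_of_multisection [Surjective c] [UniversallyClosed c]
    (r : EtDesc.sect ((EtDesc.pullSh σ).obj F') (EtCoh.top W)) (hr : Compat φ c σ r) :
    ∃ s : F'.obj.obj (op ((EtCoh.bc f).obj V)),
      ∀ (L : Type u) [Field L] [IsAlgClosed L] (θ : Spec (CommRingCat.of L) ⟶ T)
        (y : Spec (CommRingCat.of L) ⟶ W) (ξ₁ ξ : Spec (CommRingCat.of L) ⟶ X') (e₁ : y ≫ σ = ξ₁)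
        (h₁ : θ ≫ pr₁ = ξ₁) (h₂ : θ ≫ pr₂ = ξ)
        (x : (Scheme.pointSmallEtale ξ).fiber.obj ((EtCoh.bc f).obj V)),
        x.left ≫ pullback.fst V.hom f = y ≫ c →
        ∀ x₁ : (SetStalk.stalkSh ξ₁).obj F', topGerm r y = pullAt σ y ξ₁ e₁ F' x₁ →
          Rel pr₁ pr₂ φ θ ξ₁ ξ h₁ h₂ x₁ (SetStalk.germ ξ F' _ x s) :=
  exists_good_of_submersive φ c σ hσ hsq htrans (isUnivSubmersive_of_universallyClosed c) r hr

include hσ hsq htrans in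
/-- A compatible section on an integral multisection gives a `Good` section with prescribed value. -/
theorem exists_good_of_integral [Surjective c] [IsIntegralHom c]
    (r : EtDesc.sect ((EtDesc.pullSh σ).obj F') (EtCoh.top W)) (hr : Compat φ c σ r) :
    ∃ s : F'.obj.obj (op ((EtCoh.bc f).obj V)), Good f pr₁ pr₂ φ s ∧
      ∀ (L : Type u) [Field L] [IsAlgClosed L] (θ : Spec (CommRingCat.of L) ⟶ T)
        (y : Spec (CommRingCat.of L) ⟶ W) (ξ₁ ξ : Spec (CommRingCat.of L) ⟶ X') (e₁ : y ≫ σ = ξ₁)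
        (h₁ : θ ≫ pr₁ = ξ₁) (h₂ : θ ≫ pr₂ = ξ)
        (x : (Scheme.pointSmallEtale ξ).fiber.obj ((EtCoh.bc f).obj V)),
        x.left ≫ pullback.fst V.hom f = y ≫ c →
        ∀ x₁ : (SetStalk.stalkSh ξ₁).obj F', topGerm r y = pullAt σ y ξ₁ e₁ F' x₁ →
          Rel pr₁ pr₂ φ θ ξ₁ ξ h₁ h₂ x₁ (SetStalk.germ ξ F' _ x s) := by
  obtain ⟨s, hs⟩ := exists_good_of_multisection φ c σ hσ hsq htrans r hr
  refine ⟨s, fun L _ _ θ ξ₁ ξ₂ h₁ h₂ x₁ x₂ hx => ?_, hs⟩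
  let v : Spec (CommRingCat.of L) ⟶ V.left := x₁.left ≫ pullback.fst V.hom f
  obtain ⟨y₀, hy₀⟩ := c.surjective (v default)
  obtain ⟨y, hy, -⟩ := exists_point_over c v y₀ hy₀
  obtain ⟨p, hp⟩ := (pullAt_bijective σ y _ rfl F').2 (topGerm r y)
  have e : ∀ (ξ : Spec (CommRingCat.of L) ⟶ X')
      (x : (Scheme.pointSmallEtale ξ).fiber.obj ((EtCoh.bc f).obj V)),
      x.left ≫ pullback.fst V.hom f = v → (y ≫ σ) ≫ f = ξ ≫ f := fun ξ x hv => by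
    rw [Category.assoc, hσ, reassoc_of% hy, ← hv]
    exact (Category.assoc _ _ _).trans ((congrArg (_ ≫ ·) pullback.condition).trans
      ((Category.assoc _ _ _).symm.trans (congrArg (· ≫ f) (Over.w x))))
  have r₁ := hs L (hsq.lift _ _ (e ξ₁ x₁ rfl)) y _ ξ₁ rfl (hsq.lift_fst _ _ _) (hsq.lift_snd _ _ _) x₁
    hy.symm p hp.symm
  have r₂ := hs L (hsq.lift _ _ (e ξ₂ x₂ hx.symm)) y _ ξ₂ rfl (hsq.lift_fst _ _ _) (hsq.lift_snd _ _ _) x₂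
    (hx.symm.trans hy.symm) p hp.symm
  obtain ⟨u, hu⟩ := rel_exists φ θ h₁ h₂ (SetStalk.germ ξ₁ F' _ x₁ s)
  rw [← rel_unique φ (htrans L _ _ _ _ _ _ (hsq.lift_fst _ _ _) (hsq.lift_snd _ _ _) h₁ h₂
    (hsq.lift_fst _ _ _) (hsq.lift_snd _ _ _) _ _ _ r₁ hu) r₂]
  exact hu

end Eff

end Groth.Agent.DescSh

namespace Groth.Agent.DescSh.Eff

section Transport

variable {X' T T₁ W : Scheme.{u}} {pr₁ pr₂ : T ⟶ X'} {q₁ q₂ : T₁ ⟶ W}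
  {F' : EtDesc.Sh X'} (φ : (EtDesc.pullSh pr₁).obj F' ≅ (EtDesc.pullSh pr₂).obj F') (σ : W ⟶ X')
  (k : T₁ ⟶ T) (k₁ : k ≫ pr₁ = q₁ ≫ σ) (k₂ : k ≫ pr₂ = q₂ ≫ σ)

/-- The inverse image of a descent datum along a map of relations. -/
noncomputable def pulledDatum :
    (EtDesc.pullSh q₁).obj ((EtDesc.pullSh σ).obj F') ≅ (EtDesc.pullSh q₂).obj ((EtDesc.pullSh σ).obj F') :=
  EtDesc.pullVia q₁ σ (q₁ ≫ σ) rfl F' ≪≫
    ((EtDesc.pullVia k pr₁ (q₁ ≫ σ) k₁ F').symm ≪≫ (EtDesc.pullSh k).mapIso φ ≪≫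
      EtDesc.pullVia k pr₂ (q₂ ≫ σ) k₂ F') ≪≫
    (EtDesc.pullVia q₂ σ (q₂ ≫ σ) rfl F').symm

theorem rel_pulledDatum {Ω : Type u} [Field Ω] [IsSepClosed Ω] (t : Spec (CommRingCat.of Ω) ⟶ T₁)
    (y₁ y₂ : Spec (CommRingCat.of Ω) ⟶ W) (u₁ : t ≫ q₁ = y₁) (u₂ : t ≫ q₂ = y₂)
    (θ : Spec (CommRingCat.of Ω) ⟶ T) (eθ : t ≫ k = θ)
    (ξ₁ ξ₂ : Spec (CommRingCat.of Ω) ⟶ X') (e₁ : y₁ ≫ σ = ξ₁) (e₂ : y₂ ≫ σ = ξ₂)
    (h₁ : θ ≫ pr₁ = ξ₁) (h₂ : θ ≫ pr₂ = ξ₂)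
    (x₁ : (SetStalk.stalkSh ξ₁).obj F') (x₂ : (SetStalk.stalkSh ξ₂).obj F') :
    Rel q₁ q₂ (pulledDatum φ σ k k₁ k₂) t y₁ y₂ u₁ u₂ (pullAt σ y₁ ξ₁ e₁ F' x₁) (pullAt σ y₂ ξ₂ e₂ F' x₂) ↔
      Rel pr₁ pr₂ φ θ ξ₁ ξ₂ h₁ h₂ x₁ x₂ := by
  have b₁ : t ≫ q₁ ≫ σ = ξ₁ := by rw [← Category.assoc, u₁, e₁]
  have b₂ : t ≫ q₂ ≫ σ = ξ₂ := by rw [← Category.assoc, u₂, e₂]
  rw [← rel_pullIsoVia pr₁ pr₂ φ k (q₁ ≫ σ) (q₂ ≫ σ) k₁ k₂ t θ eθ ξ₁ ξ₂ h₁ h₂ b₁ b₂ x₁ x₂]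
  unfold Rel pulledDatum
  simp only [Iso.trans_hom, Iso.symm_hom, Functor.mapIso_hom]
  rw [stalk_trans, stalk_trans, pullAt_pullVia q₁ σ (q₁ ≫ σ) rfl F' t y₁ u₁ ξ₁ e₁ b₁ x₁]
  constructor
  · intro h
    rw [← pullAt_pullVia q₂ σ (q₂ ≫ σ) rfl F' t y₂ u₂ ξ₂ e₂ b₂ x₂, ← h]
    exact (((SetStalk.stalkSh t).mapIso (EtDesc.pullVia q₂ σ (q₂ ≫ σ) rfl F')).toEquiv.apply_symm_apply _).symm
  · intro h
    rw [h]
    exact stalk_symm (EtDesc.pullVia q₂ σ (q₂ ≫ σ) rfl F') _ _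
      (pullAt_pullVia q₂ σ (q₂ ≫ σ) rfl F' t y₂ u₂ ξ₂ e₂ b₂ x₂)

end Transport

variable {X' X T : Scheme.{u}} {f : X' ⟶ X} {pr₁ pr₂ : T ⟶ X'}
  {F' : EtDesc.Sh X'} (φ : (EtDesc.pullSh pr₁).obj F' ≅ (EtDesc.pullSh pr₂).obj F')
  (hsq : IsPullback pr₁ pr₂ f f)
  (htrans : ∀ (L : Type u) [Field L] [IsAlgClosed L] (a b c : Spec (CommRingCat.of L) ⟶ T)
    (ξ ζ ρ : Spec (CommRingCat.of L) ⟶ X') (a₁ : a ≫ pr₁ = ξ) (a₂ : a ≫ pr₂ = ζ) (b₁ : b ≫ pr₁ = ζ)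
    (b₂ : b ≫ pr₂ = ρ) (c₁ : c ≫ pr₁ = ξ) (c₂ : c ≫ pr₂ = ρ)
    (x : (SetStalk.stalkSh ξ).obj F') (y : (SetStalk.stalkSh ζ).obj F') (z : (SetStalk.stalkSh ρ).obj F'),
    Rel pr₁ pr₂ φ a ξ ζ a₁ a₂ x y → Rel pr₁ pr₂ φ b ζ ρ b₁ b₂ y z → Rel pr₁ pr₂ φ c ξ ρ c₁ c₂ x z)

include hsq htrans in
/-- An integral multisection near a point gives local existence of `Good` sections there. -/
theorem exists_local_good_of_integral_multisection {L : Type u} [Field L] [IsAlgClosed L]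
    (ξ₀ : Spec (CommRingCat.of L) ⟶ X') (q : (SetStalk.stalkSh ξ₀).obj F') (V : X.Etale)
    (v : (Scheme.pointSmallEtale (ξ₀ ≫ f)).fiber.obj V) {W : Scheme.{u}} (c : W ⟶ V.left) [Surjective c]
    [IsIntegralHom c] (σ : W ⟶ X') (hσ : σ ≫ f = c ≫ V.hom) :
    ∃ (V' : X.Etale) (v' : (Scheme.pointSmallEtale (ξ₀ ≫ f)).fiber.obj V')
      (s : F'.obj.obj (op ((EtCoh.bc f).obj V'))),
        Good f pr₁ pr₂ φ s ∧ SetStalk.germ ξ₀ F' _ (bcPt f ξ₀ rfl V' v') s = q := by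
  obtain ⟨w₀, hw₀⟩ := c.surjective (v.left (default : Spec (CommRingCat.of L)))
  obtain ⟨y₀, hy₀, -⟩ := exists_point_over c v.left w₀ hw₀
  have hv : v.left ≫ V.hom = ξ₀ ≫ f := Over.w v
  have he : (y₀ ≫ σ) ≫ f = ξ₀ ≫ f :=
    (Category.assoc _ _ _).trans ((congrArg (y₀ ≫ ·) hσ).trans ((Category.assoc _ _ _).symm.trans
      ((congrArg (· ≫ V.hom) hy₀).trans hv)))
  let θ₀ := hsq.lift ξ₀ (y₀ ≫ σ) he.symm
  obtain ⟨x₁, hx₁⟩ := rel_exists φ θ₀ (hsq.lift_fst _ _ _) (hsq.lift_snd _ _ _) q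
  have hk : (pullback.fst c c ≫ σ) ≫ f = (pullback.snd c c ≫ σ) ≫ f := by
    rw [Category.assoc, Category.assoc, hσ, pullback.condition_assoc]
  let k := hsq.lift _ _ hk
  let ψ := pulledDatum φ σ k (hsq.lift_fst _ _ _) (hsq.lift_snd _ _ _)
  have htrans' : ∀ (K : Type u) [Field K] [IsAlgClosed K] (a b d : Spec (CommRingCat.of K) ⟶ pullback c c)
      (ξ ζ ρ : Spec (CommRingCat.of K) ⟶ W) (a₁ : a ≫ pullback.fst c c = ξ) (a₂ : a ≫ pullback.snd c c = ζ)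
      (b₁ : b ≫ pullback.fst c c = ζ) (b₂ : b ≫ pullback.snd c c = ρ) (d₁ : d ≫ pullback.fst c c = ξ)
      (d₂ : d ≫ pullback.snd c c = ρ) (x : (SetStalk.stalkSh ξ).obj ((EtDesc.pullSh σ).obj F'))
      (y : (SetStalk.stalkSh ζ).obj ((EtDesc.pullSh σ).obj F'))
      (z : (SetStalk.stalkSh ρ).obj ((EtDesc.pullSh σ).obj F')),
      Rel (pullback.fst c c) (pullback.snd c c) ψ a ξ ζ a₁ a₂ x y →
      Rel (pullback.fst c c) (pullback.snd c c) ψ b ζ ρ b₁ b₂ y z →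
      Rel (pullback.fst c c) (pullback.snd c c) ψ d ξ ρ d₁ d₂ x z := by
    intro K _ _ a b d ξ ζ ρ a₁ a₂ b₁ b₂ d₁ d₂ x y z hxy hyz
    obtain ⟨x', rfl⟩ := (pullAt_bijective σ ξ _ rfl F').2 x
    obtain ⟨y', rfl⟩ := (pullAt_bijective σ ζ _ rfl F').2 y
    obtain ⟨z', rfl⟩ := (pullAt_bijective σ ρ _ rfl F').2 z
    have g₁ : ∀ (t : Spec (CommRingCat.of K) ⟶ pullback c c) (p : Spec (CommRingCat.of K) ⟶ W),
        t ≫ pullback.fst c c = p → (t ≫ k) ≫ pr₁ = p ≫ σ := fun t p h => by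
      rw [Category.assoc, hsq.lift_fst, reassoc_of% h]
    have g₂ : ∀ (t : Spec (CommRingCat.of K) ⟶ pullback c c) (p : Spec (CommRingCat.of K) ⟶ W),
        t ≫ pullback.snd c c = p → (t ≫ k) ≫ pr₂ = p ≫ σ := fun t p h => by
      rw [Category.assoc, hsq.lift_snd, reassoc_of% h]
    rw [rel_pulledDatum φ σ k _ _ a ξ ζ a₁ a₂ _ rfl _ _ rfl rfl (g₁ a ξ a₁) (g₂ a ζ a₂)] at hxy
    rw [rel_pulledDatum φ σ k _ _ b ζ ρ b₁ b₂ _ rfl _ _ rfl rfl (g₁ b ζ b₁) (g₂ b ρ b₂)] at hyz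
    rw [rel_pulledDatum φ σ k _ _ d ξ ρ d₁ d₂ _ rfl _ _ rfl rfl (g₁ d ξ d₁) (g₂ d ρ d₂)]
    exact htrans K _ _ _ _ _ _ _ _ _ _ _ _ x' y' z' hxy hyz
  obtain ⟨p, hp⟩ := (bijective_cmp_incl ψ (IsPullback.of_hasPullback c c) htrans' y₀ pullback.condition).2
    (pullAt σ y₀ _ rfl F' x₁)
  obtain ⟨V₂, v₂, s₀, rfl⟩ := SetStalk.exists_germ_eq (y₀ ≫ c) _ p
  simp only [SetStalk.germ_naturality, SetPush.cmpAt_germ] at hp
  let G := (EtDesc.pullSh σ).obj F'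
  let U : W.Etale := (EtCoh.bc c).obj V₂
  let r₀ : G.obj.obj (op U) :=
    (incl c (pullback.fst c c) (pullback.snd c c) pullback.condition ψ).hom.app (op V₂) s₀
  have hgood : Good c (pullback.fst c c) (pullback.snd c c) ψ r₀ :=
    good_incl (pullback.fst c c) (pullback.snd c c) pullback.condition ψ s₀
  haveI : Etale V₂.hom := V₂.prop
  haveI : Etale V.hom := V.prop
  let V' : X.Etale := Scheme.Etale.mk (V₂.hom ≫ V.hom)
  let c' : U.left ⟶ V'.left := pullback.fst V₂.hom c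
  haveI : Surjective c' := MorphismProperty.pullback_fst V₂.hom c ‹_›
  haveI : IsIntegralHom c' := MorphismProperty.pullback_fst V₂.hom c ‹_›
  let σ' : U.left ⟶ X' := U.hom ≫ σ
  have hσ' : σ' ≫ f = c' ≫ V'.hom :=
    (Category.assoc _ _ _).trans ((congrArg (U.hom ≫ ·) hσ).trans ((Category.assoc _ _ _).symm.trans
      ((congrArg (· ≫ V.hom) pullback.condition.symm).trans (Category.assoc _ _ _))))
  let r : EtDesc.sect ((EtDesc.pullSh σ').obj F') (EtCoh.top U.left) :=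
    (EtDesc.pullVia U.hom σ σ' rfl F').hom.hom.app (op (EtCoh.top U.left)) (toTop G U r₀)
  have hval : ∀ (K : Type u) [Field K] [IsAlgClosed K] (y : Spec (CommRingCat.of K) ⟶ U.left)
      (n : Spec (CommRingCat.of K) ⟶ W) (u : (Scheme.pointSmallEtale n).fiber.obj U), u.left = y →
      ∀ (ξ : Spec (CommRingCat.of K) ⟶ X') (e : y ≫ σ' = ξ) (e' : n ≫ σ = ξ)
      (x : (SetStalk.stalkSh ξ).obj F'),
      SetStalk.germ n G U u r₀ = pullAt σ n ξ e' F' x ↔ topGerm r y = pullAt σ' y ξ e F' x := by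
    intro K _ _ y n u hu ξ e e' x
    have hn : y ≫ U.hom = n := (congrArg (· ≫ U.hom) hu.symm).trans (Over.w u)
    have h1 : topGerm r y = (SetStalk.stalkSh y).map (EtDesc.pullVia U.hom σ σ' rfl F').hom
        (pullAt U.hom y n hn G (SetStalk.germ n G U u r₀)) :=
      (topGerm_app _ _ y).symm.trans (congrArg _ (topGerm_toTop G U r₀ y n u hu))
    rw [h1, ← pullAt_pullVia U.hom σ σ' rfl F' y n hn ξ e' e x]
    exact (((SetStalk.stalkSh y).mapIso (EtDesc.pullVia U.hom σ σ' rfl F')).toEquiv.injective.comp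
      (pullAt_bijective U.hom y n hn G).1).eq_iff.symm
  have hr : Compat φ c' σ' r := by
    intro K _ _ θ y₁ y₂ hy ξ₁ ξ₂ e₁ e₂ h₁ h₂ z₁ z₂ hz₁ hz₂
    let u₁ : (Scheme.pointSmallEtale (y₁ ≫ U.hom)).fiber.obj U :=
      (Over.homMk y₁ rfl : Over.mk (y₁ ≫ U.hom) ⟶ (Scheme.Etale.forget W).obj U)
    let u₂ : (Scheme.pointSmallEtale (y₂ ≫ U.hom)).fiber.obj U :=
      (Over.homMk y₂ rfl : Over.mk (y₂ ≫ U.hom) ⟶ (Scheme.Etale.forget W).obj U)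
    have e₁' : (y₁ ≫ U.hom) ≫ σ = ξ₁ := (Category.assoc _ _ _).trans e₁
    have e₂' : (y₂ ≫ U.hom) ≫ σ = ξ₂ := (Category.assoc _ _ _).trans e₂
    have g₁ := (hval K y₁ _ u₁ rfl ξ₁ e₁ e₁' z₁).2 hz₁
    have g₂ := (hval K y₂ _ u₂ rfl ξ₂ e₂ e₂' z₂).2 hz₂
    have hyc : (y₁ ≫ U.hom) ≫ c = (y₂ ≫ U.hom) ≫ c :=
      (Category.assoc _ _ _).trans ((congrArg (y₁ ≫ ·) pullback.condition.symm).trans
        ((Category.assoc _ _ _).symm.trans ((congrArg (· ≫ V₂.hom) hy).trans ((Category.assoc _ _ _).trans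
          ((congrArg (y₂ ≫ ·) pullback.condition).trans (Category.assoc _ _ _).symm)))))
    let t := pullback.lift (f := c) (g := c) (y₁ ≫ U.hom) (y₂ ≫ U.hom) hyc
    have hg := hgood K t _ _ (pullback.lift_fst _ _ _) (pullback.lift_snd _ _ _) u₁ u₂ hy
    rw [g₁, g₂] at hg
    refine (rel_pulledDatum φ σ k _ _ t _ _ _ _ θ ?_ ξ₁ ξ₂ e₁' e₂' h₁ h₂ z₁ z₂).1 hg
    refine hsq.hom_ext ?_ ?_
    · rw [Category.assoc, hsq.lift_fst, h₁, pullback.lift_fst_assoc, e₁']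
    · rw [Category.assoc, hsq.lift_snd, h₂, pullback.lift_snd_assoc, e₂']
  obtain ⟨s, hs, hspec⟩ := exists_good_of_integral φ c' σ' hσ' hsq htrans r hr
  let v' : (Scheme.pointSmallEtale (ξ₀ ≫ f)).fiber.obj V' :=
    (Over.homMk v₂.left ((Category.assoc _ _ _).symm.trans
      ((congrArg (· ≫ V.hom) ((Over.w v₂).trans hy₀)).trans hv)) :
      Over.mk (ξ₀ ≫ f) ⟶ (Scheme.Etale.forget X).obj V')
  refine ⟨V', v', s, hs, ?_⟩
  let u₀ := bcPt c y₀ rfl V₂ v₂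
  have e₀ : u₀.left ≫ σ' = y₀ ≫ σ :=
    (Category.assoc _ _ _).symm.trans (congrArg (· ≫ σ) (Over.w u₀))
  have hx : topGerm r u₀.left = pullAt σ' u₀.left (y₀ ≫ σ) e₀ F' x₁ :=
    (hval L u₀.left y₀ u₀ rfl _ e₀ rfl x₁).1 hp
  have h := hspec L (hsq.lift (y₀ ≫ σ) ξ₀ he) u₀.left (y₀ ≫ σ) ξ₀ e₀ (hsq.lift_fst _ _ _) (hsq.lift_snd _ _ _)
    (bcPt f ξ₀ rfl V' v') ((pullback.lift_fst _ _ _).trans (pullback.lift_fst _ _ _).symm) x₁ hx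
  let d := hsq.lift ξ₀ ξ₀ rfl
  exact rel_unique φ (htrans L _ _ d _ _ _ (hsq.lift_fst _ _ _) (hsq.lift_snd _ _ _) (hsq.lift_fst _ _ _)
    (hsq.lift_snd _ _ _) (hsq.lift_fst _ _ _) (hsq.lift_snd _ _ _) q x₁ _ hx₁ h)
    (rel_refl φ htrans d (hsq.lift_fst _ _ _) (hsq.lift_snd _ _ _) q)

end Groth.Agent.DescSh.Eff
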