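import Groth.Agent.FBase.BC
import Mathlib.FieldTheory.IsSepClosed
import Mathlib.RingTheory.Flat.Basic
import Mathlib.AlgebraicGeometry.Morphisms.UniversallyOpen

/-!
Clopen subsets after extension to a separably closed field come from a finite separable stage.
-/

set_option autoImplicit false
set_option backward.isDefEq.respectTransparency.types false

universe u

open CategoryTheory CategoryTheory.Limits AlgebraicGeometry TensorProduct TopologicalSpace
open Groth.Agent.FBase.BC

namespace Groth.Agent.DescSh.SepStage

variable {k : Type u} [Field k] (R : Type u) [CommRing R] [Algebra k R] {Ω : Type u} [Field Ω] [Algebra k Ω]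

/-- The structure morphism. -/
noncomputable abbrev str : Spec (CommRingCat.of R) ⟶ Spec (CommRingCat.of k) :=
  Spec.map (CommRingCat.ofHom (algebraMap k R))

/-- Change of stage. -/
noncomputable def stageMap {K L : IntermediateField k Ω} (h : K ≤ L) :
    pullback (str (k := k) R) (specMap k L) ⟶ pullback (str (k := k) R) (specMap k K) :=
  pullback.map _ _ _ _ (𝟙 _) (Spec.map (CommRingCat.ofHom (IntermediateField.inclusion h).toRingHom)) (𝟙 _)
    (by simp) (by rw [Category.comp_id, ← Spec.map_comp]; rfl)

/-- The map to a stage. -/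
noncomputable def toStage (K : IntermediateField k Ω) :
    pullback (str (k := k) R) (specMap k Ω) ⟶ pullback (str (k := k) R) (specMap k K) :=
  pullback.map _ _ _ _ (𝟙 _) (Spec.map (CommRingCat.ofHom K.val.toRingHom)) (𝟙 _)
    (by simp) (by rw [Category.comp_id, ← Spec.map_comp]; rfl)

theorem toStage_fst (K : IntermediateField k Ω) : toStage R K ≫ pullback.fst _ _ = pullback.fst _ _ :=
  (pullback.lift_fst _ _ _).trans (Category.comp_id _)

theorem toStage_snd (K : IntermediateField k Ω) :
    toStage R K ≫ pullback.snd _ _ =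
      pullback.snd _ _ ≫ Spec.map (CommRingCat.ofHom (algebraMap K Ω)) :=
  pullback.lift_snd _ _ _

theorem isPullback_toStage (K : IntermediateField k Ω) :
    IsPullback (toStage R K) (pullback.snd (str (k := k) R) (specMap k Ω))
      (pullback.snd (str (k := k) R) (specMap k K)) (Spec.map (CommRingCat.ofHom (algebraMap K Ω))) := by
  have e : Spec.map (CommRingCat.ofHom (algebraMap K Ω)) ≫ specMap k K = specMap k Ω := by
    rw [← Spec.map_comp]
    rfl
  refine IsPullback.of_right ?_ (toStage_snd R K) (IsPullback.of_hasPullback _ _).flip.flip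
  rw [toStage_fst, e]
  exact IsPullback.of_hasPullback _ _

theorem toStage_stageMap {K L : IntermediateField k Ω} (h : K ≤ L) :
    toStage R L ≫ stageMap R h = toStage R K := by
  refine pullback.hom_ext ?_ ?_
  · simp only [toStage, stageMap, pullback.map, Category.assoc, pullback.lift_fst, Category.comp_id]
  · simp only [toStage, stageMap, Category.assoc, pullback.lift_snd, pullback.lift_snd_assoc]
    rw [← Spec.map_comp]
    rfl

theorem isoHom_tensorMap {K L : IntermediateField k Ω} (h : K ≤ L) :
    stageMap R h ≫ (pullbackSpecIso k R K).hom = (pullbackSpecIso k R L).hom ≫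
      Spec.map (CommRingCat.ofHom (Algebra.TensorProduct.map (AlgHom.id k R)
        (IntermediateField.inclusion h)).toRingHom) := by
  rw [← Iso.inv_comp_eq, ← Category.assoc, ← Iso.eq_comp_inv]
  refine pullback.hom_ext ?_ ?_
  · simp only [stageMap, Category.assoc, pullback.lift_fst, Category.comp_id, pullbackSpecIso_inv_fst]
    rw [← Spec.map_comp]
    congr 1
  · simp only [stageMap, Category.assoc, pullback.lift_snd, pullbackSpecIso_inv_snd_assoc,
      pullbackSpecIso_inv_snd]
    rw [← Spec.map_comp, ← Spec.map_comp]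
    congr 1

theorem exists_finite_range (e : R ⊗[k] (separableClosure k Ω)) :
    ∃ (K : IntermediateField k Ω) (h : K ≤ separableClosure k Ω), FiniteDimensional k K ∧
      e ∈ Set.range (Algebra.TensorProduct.map (AlgHom.id k R) (IntermediateField.inclusion h)) := by
  induction e using TensorProduct.induction_on with
  | zero => exact ⟨⊥, bot_le, inferInstance, 0, map_zero _⟩
  | tmul r a =>
    refine ⟨IntermediateField.adjoin k {(a : Ω)}, IntermediateField.adjoin_simple_le_iff.2 a.2, ?_,
      r ⊗ₜ ⟨a, IntermediateField.mem_adjoin_simple_self k _⟩, rfl⟩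
    exact IntermediateField.adjoin.finiteDimensional
      ((mem_separableClosure_iff.1 a.2).isIntegral)
  | add x y hx hy =>
    obtain ⟨K, hK, hKf, x', rfl⟩ := hx
    obtain ⟨L, hL, hLf, y', rfl⟩ := hy
    refine ⟨K ⊔ L, sup_le hK hL, inferInstance,
      Algebra.TensorProduct.map (AlgHom.id k R) (IntermediateField.inclusion le_sup_left) x' +
        Algebra.TensorProduct.map (AlgHom.id k R) (IntermediateField.inclusion le_sup_right) y', ?_⟩
    rw [map_add]
    congr 1
    · exact DFunLike.congr_fun ((Algebra.TensorProduct.map_comp _ _ _ _).symm.trans rfl) x'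
    · exact DFunLike.congr_fun ((Algebra.TensorProduct.map_comp _ _ _ _).symm.trans rfl) y'

/-- Clopen subsets of a scheme over a separably closed extension come from a finite separable
extension. -/
theorem exists_stage [IsSepClosed Ω] (E : Set ↥(pullback (str (k := k) R) (specMap k Ω)))
    (hE : IsClopen E) :
    ∃ (K : IntermediateField k Ω) (O : (pullback (str (k := k) R) (specMap k K)).Opens),
      FiniteDimensional k K ∧ Algebra.IsSeparable k K ∧ (toStage R K) ⁻¹' (O : Set _) = E := by
  let Ks := separableClosure k Ω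
  haveI : IsSepClosed Ks := (separableClosure.isSepClosure k Ω).sep_closed
  let κ : Spec (CommRingCat.of Ω) ⟶ Spec (CommRingCat.of Ks) := Spec.map (CommRingCat.ofHom (algebraMap Ks Ω))
  haveI : GeometricallyConnected κ := geometricallyConnected_specMap_of_isSepClosed
  haveI : UniversallyOpen κ := inferInstance
  let q := toStage R Ks
  haveI : GeometricallyConnected q := MorphismProperty.of_isPullback (isPullback_toStage R Ks).flip ‹_›
  haveI : UniversallyOpen q := MorphismProperty.of_isPullback (isPullback_toStage R Ks).flip ‹_›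
  have hsat : ∀ A : Set ↥(pullback (str (k := k) R) (specMap k Ω)), IsClopen A → q ⁻¹' (q '' A) = A :=
    fun A hA => by
      refine Set.Subset.antisymm ?_ (Set.subset_preimage_image _ _)
      rintro x ⟨a, ha, hax⟩
      exact (q.isConnected_preimage_singleton (q x)).isPreconnected.subset_isClopen hA ⟨a, hax, ha⟩ rfl
  have hcl : IsClopen (q '' E) := by
    refine ⟨?_, q.isOpenMap E hE.isOpen⟩
    have : (q '' E)ᶜ = q '' Eᶜ := by
      ext y
      obtain ⟨x, rfl⟩ := q.surjective y
      refine ⟨fun h => ⟨x, fun hx => h ⟨x, hx, rfl⟩, rfl⟩, ?_⟩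
      rintro ⟨a, ha, hax⟩ ⟨b, hb, hbx⟩
      exact ha ((hsat E hE).subset ⟨b, hb, hbx.trans hax.symm⟩)
    exact isOpen_compl_iff.1 (this ▸ q.isOpenMap _ hE.compl.isOpen)
  let φ := pullbackSpecIso k R Ks
  obtain ⟨e, he, heE⟩ := PrimeSpectrum.isClopen_iff.1 (hcl.preimage φ.inv.continuous)
  obtain ⟨K, hK, hKf, e', rfl⟩ := exists_finite_range R e
  let O : (pullback (str (k := k) R) (specMap k K)).Opens :=
    ((pullbackSpecIso k R K).hom) ⁻¹ᵁ (PrimeSpectrum.basicOpen e')
  refine ⟨K, O, hKf, (le_separableClosure_iff k Ω K).1 hK, ?_⟩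
  rw [← toStage_stageMap R hK]
  refine Eq.trans ?_ (hsat E hE)
  ext x
  have hx : (pullbackSpecIso k R K).hom (stageMap R hK (q x)) =
      Spec.map (CommRingCat.ofHom (Algebra.TensorProduct.map (AlgHom.id k R)
        (IntermediateField.inclusion hK)).toRingHom) (φ.hom (q x)) :=
    congrArg (fun m : pullback (str (k := k) R) (specMap k Ks) ⟶ _ => m (q x)) (isoHom_tensorMap R hK)
  have hinv : φ.inv (φ.hom (q x)) = q x :=
    congrArg (fun m : pullback (str (k := k) R) (specMap k Ks) ⟶ _ => m (q x)) φ.hom_inv_id
  change (pullbackSpecIso k R K).hom (stageMap R hK (q x)) ∈ PrimeSpectrum.basicOpen e' ↔ q x ∈ q '' E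
  rw [hx]
  have h2 := Set.ext_iff.1 heE (φ.hom (q x))
  rw [Set.mem_preimage, hinv] at h2
  exact h2.symm

end Groth.Agent.DescSh.SepStage
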