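import Groth.Agent.DescSh.BCGerm
import Groth.Agent.DescSh.ConstField
import Groth.Agent.DescSh.MultiSect
import Groth.Agent.DescSh.SepStage
import Groth.Agent.ProEtW.Spectral

/-!
Quasi-compact quasi-separated schemes over a field are cohomologically proper in dimension `≤ 0`
for sheaves of sets.
-/

set_option autoImplicit false
set_option linter.style.haveILetI false
set_option backward.isDefEq.respectTransparency.types false

universe u

open CategoryTheory CategoryTheory.Limits AlgebraicGeometry Opposite TopologicalSpace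
open Groth.Agent.EtaleSite Groth.Agent.FBase.BC

namespace Groth.Agent.DescSh.CohPropField

section Val

variable {Y T : Scheme.{u}} (e : Y ⟶ T) {F : EtDesc.Sh T}

/-- A section over an étale scheme as a global section of the pulled back sheaf. -/
noncomputable def valTop (U : Y.Etale) (π : U.left ⟶ T) (hπ : U.hom ≫ e = π)
    (t : ((EtDesc.pullSh e).obj F).obj.obj (op U)) :
    EtDesc.sect ((EtDesc.pullSh π).obj F) (EtCoh.top U.left) :=
  (EtDesc.pullVia U.hom e π hπ F).hom.hom.app (op (EtCoh.top U.left)) (toTop ((EtDesc.pullSh e).obj F) U t)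

theorem valTop_iff (U : Y.Etale) (π : U.left ⟶ T) (hπ : U.hom ≫ e = π)
    (t : ((EtDesc.pullSh e).obj F).obj.obj (op U)) {K : Type u} [Field K] [IsSepClosed K]
    (y : Spec (CommRingCat.of K) ⟶ U.left) (n : Spec (CommRingCat.of K) ⟶ Y)
    (x : (Scheme.pointSmallEtale n).fiber.obj U) (hx : x.left = y)
    (ξ : Spec (CommRingCat.of K) ⟶ T) (e₁ : y ≫ π = ξ) (e₂ : n ≫ e = ξ) (v : (SetStalk.stalkSh ξ).obj F) :
    SetStalk.germ n _ U x t = pullAt e n ξ e₂ F v ↔ topGerm (valTop e U π hπ t) y = pullAt π y ξ e₁ F v := by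
  have hn : y ≫ U.hom = n := (congrArg (· ≫ U.hom) hx.symm).trans (Over.w x)
  have h1 : topGerm (valTop e U π hπ t) y = (SetStalk.stalkSh y).map (EtDesc.pullVia U.hom e π hπ F).hom
      (pullAt U.hom y n hn _ (SetStalk.germ n _ U x t)) :=
    (topGerm_app _ _ y).symm.trans (congrArg _ (topGerm_toTop _ U t y n x hx))
  rw [h1, ← pullAt_pullVia U.hom e π hπ F y n hn ξ e₂ e₁ v]
  exact (((SetStalk.stalkSh y).mapIso (EtDesc.pullVia U.hom e π hπ F)).toEquiv.injective.comp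
    (pullAt_bijective U.hom y n hn _).1).eq_iff.symm

/-- Pulling back a global section of an inverse image. -/
noncomputable def viaTop {A B : Scheme.{u}} (a : A ⟶ B) (π : B ⟶ T) (b : A ⟶ T) (w : a ≫ π = b)
    (t : EtDesc.sect ((EtDesc.pullSh π).obj F) (EtCoh.top B)) :
    EtDesc.sect ((EtDesc.pullSh b).obj F) (EtCoh.top A) :=
  (EtDesc.pullVia a π b w F).hom.hom.app (op (EtCoh.top A)) (EtDesc.secPull a _ t)

theorem topGerm_viaTop {A B : Scheme.{u}} (a : A ⟶ B) (π : B ⟶ T) (b : A ⟶ T) (w : a ≫ π = b)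
    (t : EtDesc.sect ((EtDesc.pullSh π).obj F) (EtCoh.top B)) {K : Type u} [Field K] [IsSepClosed K]
    (z : Spec (CommRingCat.of K) ⟶ A) (y : Spec (CommRingCat.of K) ⟶ B) (hy : z ≫ a = y)
    (ξ : Spec (CommRingCat.of K) ⟶ T) (e₁ : y ≫ π = ξ) (e₂ : z ≫ b = ξ) (v : (SetStalk.stalkSh ξ).obj F)
    (hv : topGerm t y = pullAt π y ξ e₁ F v) :
    topGerm (viaTop a π b w t) z = pullAt b z ξ e₂ F v := by
  refine (topGerm_app _ _ z).symm.trans ?_
  rw [topGerm_secPull a _ t z y hy, hv]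
  exact pullAt_pullVia a π b w F z y hy ξ e₁ e₂ v

end Val

variable {k : Type u} [Field k] {X Y' X' : Scheme.{u}} (f : X ⟶ Spec (CommRingCat.of k))
  (g : Y' ⟶ Spec (CommRingCat.of k)) (f' : X' ⟶ Y') (h : X' ⟶ X) (sq : IsPullback h f' f g)
  {F : EtDesc.Sh X} {Ω : Type u} [Field Ω] [IsSepClosed Ω] (η : Spec (CommRingCat.of Ω) ⟶ Y')

include sq in
set_option maxHeartbeats 800000 in
theorem injAt : BCGerm.InjAt g f f' h sq.w F η := by
  intro N n W v k₀ hk s₁ s₂ hnv heq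
  haveI := discreteTopology_etale_field k W
  let WL : Scheme.{u} := W.left
  let o : WL := v.left (default : Spec (CommRingCat.of Ω))
  let O : WL.Opens := ⟨{o}, @isOpen_discrete WL _ ‹_› _⟩
  let vL : Spec (CommRingCat.of Ω) ⟶ WL := v.left
  have hvO : Set.range vL ⊆ Set.range O.ι := by
    rintro _ ⟨z, rfl⟩
    exact ⟨⟨vL z, congrArg vL (Subsingleton.elim (α := Spec (CommRingCat.of Ω)) z default)⟩, rfl⟩
  let lv : Spec (CommRingCat.of Ω) ⟶ (O : Scheme.{u}) := IsOpenImmersion.lift O.ι vL hvO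
  have hlv : lv ≫ O.ι = vL := IsOpenImmersion.lift_fac _ _ _
  let v' : (Scheme.pointSmallEtale (η ≫ g)).fiber.obj (piece W O) :=
    (Over.homMk lv (by
      exact ((Category.assoc _ _ _).symm.trans
        (congrArg (fun r : Spec (CommRingCat.of Ω) ⟶ WL => r ≫ W.hom) hlv)).trans (Over.w v)) : Over.mk (η ≫ g) ⟶ (Scheme.Etale.forget _).obj (piece W O))
  refine ⟨piece W O, pieceHom W O, v', Over.OverMorphism.ext hlv, ?_⟩
  refine eq_of_eqAt F _ _ fun u => (eqAt_res F ((EtCoh.bc f).map (pieceHom W O)) s₁ s₂ u).2 ?_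
  let u₁ : ((EtCoh.bc f).obj W).left := ((EtCoh.bc f).map (pieceHom W O)).left u
  let π : ((EtCoh.bc f).obj W).left ⟶ W.left := pullback.fst W.hom f
  have hu : π u₁ = o := by
    have h1 := congrArg (fun m : ((EtCoh.bc f).obj (piece W O)).left ⟶ W.left => m u)
      (EtCoh.isPullback_bc_map f (pieceHom W O)).w
    refine h1.trans ?_
    exact ((pullback.fst (piece W O).hom f : _ ⟶ (piece W O).left) u).2
  let A : ((EtCoh.bc f').obj N).left ⟶ N.left := pullback.fst N.hom f'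
  have hA : IsPullback (((EtCoh.bc f').obj N).hom ≫ h) A f (N.hom ≫ g) :=
    (IsPullback.of_hasPullback N.hom f').flip.paste_horiz sq
  let Φ : ((EtCoh.bc f').obj N).left ⟶ ((EtCoh.bc f).obj W).left :=
    pullback.lift (A ≫ k₀) (((EtCoh.bc f').obj N).hom ≫ h) (by
      rw [Category.assoc, hk]
      exact hA.w.symm)
  have hΦ : IsPullback Φ A π k₀ := by
    refine IsPullback.of_right ?_ (pullback.lift_fst _ _ _) (IsPullback.of_hasPullback W.hom f).flip
    have e : Φ ≫ pullback.snd W.hom f = ((EtCoh.bc f').obj N).hom ≫ h := pullback.lift_snd _ _ _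
    exact e.symm ▸ hk.symm ▸ hA
  obtain ⟨z, hz, -⟩ := Scheme.Pullback.exists_preimage_pullback u₁ (n.left (default : Spec (CommRingCat.of Ω)))
    (f := π) (g := k₀) (hu.trans (congrArg (fun m : Spec (CommRingCat.of Ω) ⟶ W.left => m default) hnv).symm)
  let z' := hΦ.isoPullback.inv z
  have hz' : Φ z' = u₁ := (congrArg (fun m : pullback π k₀ ⟶ _ => m z) hΦ.isoPullback_inv_fst).trans hz
  obtain ⟨L, _, _, ξ, x, hx⟩ := exists_algPoint (U := (EtCoh.bc f').obj N) z'
  have hg := congrArg (SetStalk.germ ξ _ _ x) heq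
  rw [BCGerm.germ_img, BCGerm.germ_img] at hg
  refine (eqAt_iff_germ F s₁ s₂ (BCGerm.imgPt g f f' h sq.w k₀ hk x) ?_).2 ((pullAt_bijective h ξ _ rfl F).1 hg)
  have hl : (BCGerm.imgPt g f f' h sq.w k₀ hk x).left = x.left ≫ Φ := by
    refine pullback.hom_ext ?_ ?_
    · refine (pullback.lift_fst _ _ _).trans (Eq.symm ?_)
      exact (Category.assoc _ _ _).trans (congrArg (x.left ≫ ·) (pullback.lift_fst _ _ _))
    · refine (pullback.lift_snd _ _ _).trans (Eq.symm ?_)
      refine (Category.assoc _ _ _).trans ((congrArg (x.left ≫ ·) (pullback.lift_snd _ _ _)).trans ?_)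
      exact (Category.assoc _ _ _).symm.trans (congrArg (· ≫ h) (Over.w x))
  exact ((congrArg (fun m : Spec (CommRingCat.of L) ⟶ ((EtCoh.bc f).obj W).left => m default) hl).trans
    (congrArg Φ hx)).trans hz'

set_option maxHeartbeats 1000000 in
/-- The pairs of points on which a section agrees contain all points of a clopen neighbourhood. -/
theorem exists_clopen_agree [QuasiCompact f] {R : Type u} [CommRing R] [Algebra k R] [Algebra k Ω]
    {M : Scheme.{u}} (πX : M ⟶ X) (πN : M ⟶ Spec (CommRingCat.of R))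
    (c₀ : IsPullback πX πN f (SepStage.str (k := k) R))
    (n : Spec (CommRingCat.of Ω) ⟶ Spec (CommRingCat.of R)) (hns : n ≫ SepStage.str (k := k) R = specMap k Ω)
    (t₀ : EtDesc.sect ((EtDesc.pullSh πX).obj F) (EtCoh.top M)) :
    ∃ E : Set ↥(pullback (SepStage.str (k := k) R) (specMap k Ω)), IsClopen E ∧
      (pullback.lift n (𝟙 _) (hns.trans (Category.id_comp _).symm) :
        Spec (CommRingCat.of Ω) ⟶ pullback (SepStage.str (k := k) R) (specMap k Ω)) default ∈ E ∧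
      ∀ (L : Type u) [Field L] [IsSepClosed L] (y₁ y₂ : Spec (CommRingCat.of L) ⟶ M)
        (ω : Spec (CommRingCat.of L) ⟶ Spec (CommRingCat.of Ω))
        (e : Spec (CommRingCat.of L) ⟶ pullback (SepStage.str (k := k) R) (specMap k Ω))
        (ξ : Spec (CommRingCat.of L) ⟶ X) (h₁ : y₁ ≫ πX = ξ) (h₂ : y₂ ≫ πX = ξ),
        e ≫ pullback.fst _ _ = y₁ ≫ πN → e ≫ pullback.snd _ _ = ω → y₂ ≫ πN = ω ≫ n → e default ∈ E →
        ∀ v : (SetStalk.stalkSh ξ).obj F, topGerm t₀ y₁ = pullAt πX y₁ ξ h₁ F v →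
          topGerm t₀ y₂ = pullAt πX y₂ ξ h₂ F v := by
  let sN : pullback (SepStage.str (k := k) R) (specMap k Ω) ⟶ Spec (CommRingCat.of R) := pullback.fst _ _
  let sΩ : pullback (SepStage.str (k := k) R) (specMap k Ω) ⟶ Spec (CommRingCat.of Ω) := pullback.snd _ _
  let nb : Spec (CommRingCat.of Ω) ⟶ pullback (SepStage.str (k := k) R) (specMap k Ω) :=
    pullback.lift n (𝟙 _) (hns.trans (Category.id_comp _).symm)
  let P : Scheme.{u} := pullback πN sN
  let a₁ : P ⟶ M := pullback.fst πN sN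
  let pb : P ⟶ pullback (SepStage.str (k := k) R) (specMap k Ω) := pullback.snd πN sN
  let b : P ⟶ X := a₁ ≫ πX
  have c₁ : IsPullback b pb f (sN ≫ SepStage.str (k := k) R) :=
    (IsPullback.of_hasPullback πN sN).paste_horiz c₀
  have hw₂ : b ≫ f = (pb ≫ sΩ ≫ n) ≫ SepStage.str (k := k) R :=
    c₁.w.trans ((congrArg (pb ≫ ·) (pullback.condition.trans ((congrArg (sΩ ≫ ·) hns.symm).trans
      (Category.assoc _ _ _).symm))).trans (Category.assoc _ _ _).symm)
  let a₂ : P ⟶ M := c₀.lift b (pb ≫ sΩ ≫ n) hw₂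
  have ha₂ : a₂ ≫ πX = b := c₀.lift_fst _ _ _
  let r₁ := viaTop a₁ πX b rfl t₀
  let r₂ := viaTop a₂ πX b ha₂ t₀
  let D : Set P := {p | ¬ EqAt ((EtDesc.pullSh b).obj F) r₁ r₂ p}
  have hDcl : IsClosed D := (isOpen_eqAt _ r₁ r₂).isClosed_compl
  have hwΩ : b ≫ f = (pb ≫ sΩ) ≫ specMap k Ω :=
    c₁.w.trans ((congrArg (pb ≫ ·) pullback.condition).trans (Category.assoc _ _ _).symm)
  let b' : P ⟶ pullback f (specMap k Ω) := pullback.lift b (pb ≫ sΩ) hwΩ
  have c₂ : IsPullback b' pb (pullback.snd f (specMap k Ω)) sΩ := by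
    refine IsPullback.of_right ?_ (pullback.lift_snd _ _ _) (IsPullback.of_hasPullback f (specMap k Ω))
    rw [pullback.lift_fst, ← pullback.condition]
    exact c₁
  have hC : ∀ p ∈ D, pb p ∉ connectedComponent (nb default) := by
    intro p hp hpC
    obtain ⟨K, _, _, ξ, hξ⟩ := exists_algPoint_top (b' p)
    let α : pullback b' ξ ⟶ P := pullback.fst b' ξ
    let m : pullback b' ξ ⟶ Spec (CommRingCat.of K) := pullback.snd b' ξ
    let κ : Spec (CommRingCat.of K) ⟶ Spec (CommRingCat.of Ω) := ξ ≫ pullback.snd f (specMap k Ω)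
    obtain ⟨ψ, hψ⟩ := Spec.map_surjective κ
    letI : Algebra Ω K := ψ.hom.toAlgebra
    haveI : GeometricallyConnected κ := by
      rw [← hψ]
      exact geometricallyConnected_specMap_of_isSepClosed (k := Ω) (K := K)
    haveI : UniversallyOpen κ := inferInstance
    have c₃ : IsPullback m (α ≫ pb) κ sΩ :=
      ((IsPullback.of_hasPullback b' ξ).flip.paste_vert c₂)
    haveI : GeometricallyConnected (α ≫ pb) := MorphismProperty.of_isPullback c₃ ‹_›
    haveI : UniversallyOpen (α ≫ pb) := MorphismProperty.of_isPullback c₃ ‹_›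
    let ξX : Spec (CommRingCat.of K) ⟶ X := ξ ≫ pullback.fst f (specMap k Ω)
    have hm : m ≫ ξX = α ≫ b := by
      show m ≫ ξ ≫ _ = α ≫ b
      rw [← Category.assoc, ← pullback.condition, Category.assoc, pullback.lift_fst]
    let G := (EtDesc.pullSh ξX).obj F
    let vv := EtDesc.pullVia α b (α ≫ b) rfl F ≪≫ (EtDesc.pullVia m ξX (α ≫ b) hm F).symm
    let q₁ := vv.hom.hom.app (op (EtCoh.top _)) (EtDesc.secPull α _ r₁)
    let q₂ := vv.hom.hom.app (op (EtCoh.top _)) (EtDesc.secPull α _ r₂)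
    have hDK : {z | ¬ EqAt ((EtDesc.pullSh m).obj G) q₁ q₂ z} = α ⁻¹' D := by
      ext z
      exact not_congr ((eqAt_app_iff vv.hom _ _ z).trans (eqAt_secPull_iff α _ r₁ r₂ z))
    have hclopen : IsClopen (α ⁻¹' D) :=
      ⟨hDcl.preimage α.continuous, hDK ▸ isOpen_not_eqAt_field m G q₁ q₂⟩
    have hconn := (α ≫ pb).isConnected_preimage (α ≫ pb).isOpenMap (isConnected_connectedComponent
      (x := nb default)) isClosed_connectedComponent
    obtain ⟨p', hp', -⟩ := Scheme.Pullback.exists_preimage_pullback p (default : Spec (CommRingCat.of K))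
      (f := b') (g := ξ) hξ.symm
    have hnb : specMap k Ω = nb ≫ sN ≫ SepStage.str (k := k) R :=
      (((Category.assoc _ _ _).symm.trans (congrArg (· ≫ SepStage.str (k := k) R)
        (pullback.lift_fst _ _ _))).trans hns).symm
    have hz₀w : ξX ≫ f = (κ ≫ nb) ≫ sN ≫ SepStage.str (k := k) R :=
      (Category.assoc _ _ _).trans ((congrArg (ξ ≫ ·) pullback.condition).trans
        ((Category.assoc _ _ _).symm.trans ((congrArg (κ ≫ ·) hnb).trans (Category.assoc _ _ _).symm)))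
    let z₀ : Spec (CommRingCat.of K) ⟶ P := c₁.lift ξX (κ ≫ nb) hz₀w
    have hz₀ : z₀ ≫ b' = 𝟙 _ ≫ ξ := by
      rw [Category.id_comp]
      refine pullback.hom_ext ?_ ?_
      · rw [Category.assoc, pullback.lift_fst, c₁.lift_fst]
      · rw [Category.assoc, pullback.lift_snd, c₁.lift_snd_assoc, Category.assoc]
        show κ ≫ nb ≫ sΩ = _
        rw [pullback.lift_snd, Category.comp_id]
    let p₀ : ↥(pullback b' ξ) := pullback.lift z₀ (𝟙 _) hz₀ default
    have hp₀ : α p₀ = z₀ default :=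
      congrArg (fun l : Spec (CommRingCat.of K) ⟶ P => l default) (pullback.lift_fst _ _ _)
    have hmem₀ : (α ≫ pb) p₀ ∈ connectedComponent (nb default) := by
      have e : pb (z₀ default) = nb (κ default) :=
        congrArg (fun l : Spec (CommRingCat.of K) ⟶ _ => l default) (c₁.lift_snd _ _ _)
      rw [Scheme.Hom.comp_apply, hp₀, e, Subsingleton.elim (α := Spec (CommRingCat.of Ω)) (κ default) default]
      exact mem_connectedComponent
    have hmem' : (α ≫ pb) p' ∈ connectedComponent (nb default) := by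
      rw [Scheme.Hom.comp_apply, hp']
      exact hpC
    have hsub := hconn.isPreconnected.subset_isClopen hclopen ⟨p', hmem', show α p' ∈ D from hp' ▸ hp⟩
    refine (show α p₀ ∈ D from hsub hmem₀) ?_
    rw [hp₀]
    refine (eqAt_top_iff _ r₁ r₂ z₀).2 ?_
    have e₁ : (z₀ ≫ a₁) ≫ πX = ξX := (Category.assoc _ _ _).trans (c₁.lift_fst _ _ _)
    have e₁₂ : z₀ ≫ a₂ = z₀ ≫ a₁ := by
      refine c₀.hom_ext ?_ ?_
      · rw [Category.assoc, ha₂, Category.assoc]
      · rw [Category.assoc, c₀.lift_snd, Category.assoc]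
        show z₀ ≫ pb ≫ sΩ ≫ n = z₀ ≫ pullback.fst πN sN ≫ πN
        rw [pullback.condition, c₁.lift_snd_assoc, c₁.lift_snd_assoc]
        simp only [Category.assoc, nb, sN, sΩ, pullback.lift_fst, pullback.lift_snd_assoc, Category.id_comp]
    obtain ⟨x, hx⟩ := (pullAt_bijective πX (z₀ ≫ a₁) ξX e₁ F).2 (topGerm t₀ (z₀ ≫ a₁))
    exact (topGerm_viaTop a₁ πX b rfl t₀ z₀ _ rfl ξX e₁ (c₁.lift_fst _ _ _) x hx.symm).trans
      (topGerm_viaTop a₂ πX b ha₂ t₀ z₀ _ e₁₂ ξX e₁ (c₁.lift_fst _ _ _) x hx.symm).symm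
  -- the clopen neighbourhood
  haveI : QuasiCompact πN := MorphismProperty.of_isPullback c₀ ‹QuasiCompact f›
  haveI : IsAffine (pullback (SepStage.str (k := k) R) (specMap k Ω)) := inferInstance
  haveI : CompactSpace P := QuasiCompact.compactSpace_of_compactSpace pb
  have hI : IsCompact (pb '' D) := hDcl.isCompact.image pb.continuous
  have hcov : pb '' D ⊆ ⋃ s : {s : Set ↥(pullback (SepStage.str (k := k) R) (specMap k Ω)) //
      IsClopen s ∧ nb default ∈ s}, (s : Set _)ᶜ := by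
    rintro _ ⟨p, hp, rfl⟩
    have h1 := hC p hp
    rw [Groth.Agent.ProEtW.Spectral.connectedComponent_eq_iInter_isClopen, Set.mem_iInter] at h1
    push Not at h1
    obtain ⟨s, hs⟩ := h1
    exact Set.mem_iUnion.2 ⟨s, hs⟩
  obtain ⟨fs, hfs⟩ := hI.elim_finite_subcover _ (fun s => s.2.1.1.isOpen_compl) hcov
  let E := ⋂ s ∈ fs, (s : {s : Set ↥(pullback (SepStage.str (k := k) R) (specMap k Ω)) //
      IsClopen s ∧ nb default ∈ s}).1
  have hnE : nb default ∈ E := Set.mem_iInter₂.2 fun s _ => s.2.2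
  have hE : ∀ p : P, pb p ∈ E → EqAt ((EtDesc.pullSh b).obj F) r₁ r₂ p := fun p hp => by
    by_contra hD
    obtain ⟨s, hs, hps⟩ := Set.mem_iUnion₂.1 (hfs ⟨p, hD, rfl⟩)
    exact hps (Set.mem_iInter₂.1 hp s hs)
  refine ⟨E, isClopen_biInter_finset fun s _ => s.2.1, hnE, fun L _ _ y₁ y₂ ω e ξ h₁ h₂ he₁ he₂ hy₂ heE v hv => ?_⟩
  let p : Spec (CommRingCat.of L) ⟶ P := pullback.lift y₁ e he₁.symm
  have pa₁ : p ≫ a₁ = y₁ := pullback.lift_fst _ _ _
  have pe : p ≫ pb = e := pullback.lift_snd _ _ _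
  have pξ : p ≫ b = ξ := (Category.assoc _ _ _).symm.trans ((congrArg (· ≫ πX) pa₁).trans h₁)
  have pa₂ : p ≫ a₂ = y₂ := by
    refine c₀.hom_ext ?_ ?_
    · rw [Category.assoc, ha₂, pξ, h₂]
    · rw [Category.assoc, c₀.lift_snd, reassoc_of% pe, hy₂, reassoc_of% he₂]
  obtain ⟨v', hv'⟩ := (pullAt_bijective πX y₂ ξ h₂ F).2 (topGerm t₀ y₂)
  have g₁ := topGerm_viaTop a₁ πX b rfl t₀ p _ pa₁ ξ h₁ pξ v hv
  have g₂ := topGerm_viaTop a₂ πX b ha₂ t₀ p _ pa₂ ξ h₂ pξ v' hv'.symm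
  have := (eqAt_top_iff _ r₁ r₂ p).1 (hE _ ((congrArg (fun m : Spec (CommRingCat.of L) ⟶ _ => m default) pe).symm ▸ heE))
  rw [g₁, g₂] at this
  rw [← hv', (pullAt_bijective b p ξ pξ F).1 this]

/-- A section on `N` as a section of the inverse image from the base change of `W`. -/
noncomputable def tcOf {N : Y'.Etale} {W : (Spec (CommRingCat.of k)).Etale}
    (c : ((EtCoh.bc f').obj N).left ⟶ ((EtCoh.bc f).obj W).left)
    (π : ((EtCoh.bc f').obj N).left ⟶ X) (hπ : ((EtCoh.bc f').obj N).hom ≫ h = π)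
    (hc₂ : c ≫ ((EtCoh.bc f).obj W).hom = π)
    (t : ((EtDesc.pullSh h).obj F).obj.obj (op ((EtCoh.bc f').obj N))) :
    EtDesc.sect ((EtDesc.pullSh c).obj ((EtDesc.pullSh ((EtCoh.bc f).obj W).hom).obj F))
      (EtCoh.top ((EtCoh.bc f').obj N).left) :=
  (EtDesc.pullVia c ((EtCoh.bc f).obj W).hom π hc₂ F).inv.hom.app (op (EtCoh.top _))
    (valTop h ((EtCoh.bc f').obj N) π hπ t)

theorem tcOf_iff {N : Y'.Etale} {W : (Spec (CommRingCat.of k)).Etale}
    (c : ((EtCoh.bc f').obj N).left ⟶ ((EtCoh.bc f).obj W).left)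
    (π : ((EtCoh.bc f').obj N).left ⟶ X) (hπ : ((EtCoh.bc f').obj N).hom ≫ h = π)
    (hc₂ : c ≫ ((EtCoh.bc f).obj W).hom = π)
    (t : ((EtDesc.pullSh h).obj F).obj.obj (op ((EtCoh.bc f').obj N)))
    (L : Type u) [Field L] [IsSepClosed L] (z : Spec (CommRingCat.of L) ⟶ ((EtCoh.bc f').obj N).left)
    (q : Spec (CommRingCat.of L) ⟶ ((EtCoh.bc f).obj W).left) (hq : z ≫ c = q)
    (ξ : Spec (CommRingCat.of L) ⟶ X) (eq : q ≫ ((EtCoh.bc f).obj W).hom = ξ) (ez : z ≫ π = ξ)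
    (x : (SetStalk.stalkSh ξ).obj F) :
    topGerm (valTop h ((EtCoh.bc f').obj N) π hπ t) z = pullAt π z ξ ez F x ↔
      topGerm (tcOf f f' h c π hπ hc₂ t) z = pullAt c z q hq _ (pullAt _ q ξ eq F x) := by
  have hi := stalk_symm' (EtDesc.pullVia c ((EtCoh.bc f).obj W).hom π hc₂ F)
    (pullAt_pullVia c ((EtCoh.bc f).obj W).hom π hc₂ F z q hq ξ eq ez x)
  unfold tcOf
  rw [← topGerm_app]
  exact ((((SetStalk.stalkSh z).mapIso (EtDesc.pullVia c ((EtCoh.bc f).obj W).hom π hc₂ F).symm).toEquiv.injective).eq_iff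
    (a := topGerm (valTop h ((EtCoh.bc f').obj N) π hπ t) z) (b := pullAt π z ξ ez F x)).symm.trans
      (Iff.of_eq (congrArg (_ = ·) hi))

theorem eq_img (w : h ≫ f = f' ≫ g) {N : Y'.Etale} {W : (Spec (CommRingCat.of k)).Etale}
    (k₀ : N.left ⟶ W.left) (hk : k₀ ≫ W.hom = N.hom ≫ g)
    (c : ((EtCoh.bc f').obj N).left ⟶ ((EtCoh.bc f).obj W).left)
    (hc₁ : c ≫ pullback.fst W.hom f = pullback.fst N.hom f' ≫ k₀)
    (π : ((EtCoh.bc f').obj N).left ⟶ X) (hπ : ((EtCoh.bc f').obj N).hom ≫ h = π)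
    (hc₂ : c ≫ ((EtCoh.bc f).obj W).hom = π)
    (t : ((EtDesc.pullSh h).obj F).obj.obj (op ((EtCoh.bc f').obj N)))
    (s : F.obj.obj (op ((EtCoh.bc f).obj W)))
    (s₀ : EtDesc.sect ((EtDesc.pullSh ((EtCoh.bc f).obj W).hom).obj F) (EtCoh.top ((EtCoh.bc f).obj W).left))
    (hs : toTop F ((EtCoh.bc f).obj W) s = s₀)
    (tc : EtDesc.sect ((EtDesc.pullSh c).obj ((EtDesc.pullSh ((EtCoh.bc f).obj W).hom).obj F))
      (EtCoh.top ((EtCoh.bc f').obj N).left))
    (H1 : EtDesc.secPull c _ s₀ = tc)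
    (H2 : tc = tcOf f f' h c π hπ hc₂ t) :
    t = BCGerm.img g f f' h w k₀ hk s := by
  refine sect_ext_alg (Y := X') ((EtDesc.pullSh h).obj F) (U := (EtCoh.bc f').obj N) _ _ fun L _ _ ξ x => ?_
  rw [BCGerm.germ_img]
  have ez : x.left ≫ π = ξ ≫ h := by
    rw [← hπ]
    exact (Category.assoc _ _ _).symm.trans (congrArg (· ≫ h) (Over.w x))
  refine (valTop_iff h _ π hπ t x.left ξ x rfl (ξ ≫ h) ez rfl _).2 ?_
  let y := BCGerm.imgPt g f f' h w k₀ hk x
  have hq : x.left ≫ c = y.left := by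
    refine pullback.hom_ext ?_ ?_
    · exact (Category.assoc _ _ _).trans ((congrArg (x.left ≫ ·) hc₁).trans (pullback.lift_fst _ _ _).symm)
    · exact (Category.assoc _ _ _).trans ((congrArg (x.left ≫ ·) hc₂).trans (ez.trans (pullback.lift_snd _ _ _).symm))
  have h1 := ((congrArg (pullAt c x.left y.left hq _) (topGerm_toTop F _ s y.left (ξ ≫ h) y rfl)).symm.trans
    (topGerm_secPull c _ (toTop F ((EtCoh.bc f).obj W) s) x.left y.left hq).symm).trans
    ((congrArg (fun r => topGerm r x.left) (((congrArg (EtDesc.secPull c _) hs).trans H1).trans H2)).trans (topGerm_app _ _ x.left).symm)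
  have hi := stalk_symm' (EtDesc.pullVia c ((EtCoh.bc f).obj W).hom π hc₂ F)
    (pullAt_pullVia c ((EtCoh.bc f).obj W).hom π hc₂ F x.left y.left hq (ξ ≫ h) (Over.w y) ez
      (SetStalk.germ (ξ ≫ h) F _ y s))
  exact ((SetStalk.stalkSh x.left).mapIso (EtDesc.pullVia c ((EtCoh.bc f).obj W).hom π hc₂ F).symm).toEquiv.injective
    (h1.symm.trans hi.symm)

include sq in
set_option maxHeartbeats 2000000 in
theorem surjAt_affine [QuasiCompact f] {R : Type u} [CommRing R] [Algebra k R] [Algebra k Ω]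
    (a : Spec (CommRingCat.of R) ⟶ Y') [Etale a] (hstr : SepStage.str (k := k) R = a ≫ g)
    (n : Spec (CommRingCat.of Ω) ⟶ Spec (CommRingCat.of R)) (hn : n ≫ a = η)
    (hβ : specMap k Ω = n ≫ a ≫ g)
    (t : ((EtDesc.pullSh h).obj F).obj.obj (op ((EtCoh.bc f').obj (Scheme.Etale.mk a)))) :
    ∃ (N' : Y'.Etale) (j : N' ⟶ Scheme.Etale.mk a) (n' : (Scheme.pointSmallEtale η).fiber.obj N')
      (W : (Spec (CommRingCat.of k)).Etale) (k₀ : N'.left ⟶ W.left) (hk : k₀ ≫ W.hom = N'.hom ≫ g)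
      (s : F.obj.obj (op ((EtCoh.bc f).obj W))),
      n'.left ≫ j.left = n ∧
        ((EtDesc.pullSh h).obj F).obj.map ((EtCoh.bc f').map j).op t = BCGerm.img g f f' h sq.w k₀ hk s := by
  let N : Y'.Etale := Scheme.Etale.mk a
  let U : X'.Etale := (EtCoh.bc f').obj N
  let πN : U.left ⟶ Spec (CommRingCat.of R) := pullback.fst a f'
  let πX : U.left ⟶ X := U.hom ≫ h
  have c₀ : IsPullback πX πN f (SepStage.str (k := k) R) := by
    rw [hstr]
    exact (IsPullback.of_hasPullback a f').flip.paste_horiz sq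
  let t₀ := valTop h U πX rfl t
  have hns : n ≫ SepStage.str (k := k) R = specMap k Ω := by rw [hβ, hstr]
  let nb : Spec (CommRingCat.of Ω) ⟶ pullback (SepStage.str (k := k) R) (specMap k Ω) :=
    pullback.lift n (𝟙 _) (hns.trans (Category.id_comp _).symm)
  obtain ⟨E, hEc, hnE, hE⟩ := exists_clopen_agree f πX πN c₀ n hns t₀
  obtain ⟨K, O, hKf, hKs, hOE⟩ := SepStage.exists_stage R E hEc
  haveI : Algebra.FormallyEtale k K := Algebra.FormallyEtale.of_isSeparable k K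
  haveI : Algebra.FiniteType k K := inferInstance
  haveI : Algebra.FinitePresentation k K := Algebra.FinitePresentation.of_finiteType.mp inferInstance
  haveI : Algebra.Etale k K := ⟨inferInstance, inferInstance⟩
  haveI : Etale (specMap k K) := by
    rw [HasRingHomProperty.Spec_iff (P := @Etale)]
    exact RingHom.etale_algebraMap.mpr inferInstance
  let W : (Spec (CommRingCat.of k)).Etale := Scheme.Etale.mk (specMap k K)
  let oR : (O : Scheme.{u}) ⟶ Spec (CommRingCat.of R) := O.ι ≫ pullback.fst _ _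
  haveI : Etale oR := inferInstanceAs (Etale (O.ι ≫ pullback.fst _ _))
  let N' : Y'.Etale := Scheme.Etale.mk (oR ≫ a)
  let j : N' ⟶ N := MorphismProperty.Over.homMk oR rfl trivial
  let k₀ : (O : Scheme.{u}) ⟶ Spec (CommRingCat.of K) := O.ι ≫ pullback.snd _ _
  have hk : k₀ ≫ W.hom = N'.hom ≫ g := by
    change (O.ι ≫ pullback.snd _ _) ≫ specMap k K = (oR ≫ a) ≫ g
    simp only [oR, Category.assoc, ← hstr, pullback.condition]
  have hnO : Set.range (nb ≫ SepStage.toStage R K) ⊆ Set.range O.ι := by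
    rintro _ ⟨o, rfl⟩
    rw [Scheme.Opens.range_ι, Subsingleton.elim (α := Spec (CommRingCat.of Ω)) o default, Scheme.Hom.comp_apply]
    exact (Set.ext_iff.1 hOE (nb default)).2 hnE
  let n₁ : Spec (CommRingCat.of Ω) ⟶ (O : Scheme.{u}) := IsOpenImmersion.lift O.ι _ hnO
  have hn₁ : n₁ ≫ oR = n := by
    simp only [n₁, oR, IsOpenImmersion.lift_fac_assoc, Category.assoc, SepStage.toStage_fst, nb, pullback.lift_fst]
  let n' : (Scheme.pointSmallEtale η).fiber.obj N' :=
    (Over.homMk n₁ (by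
      change n₁ ≫ oR ≫ a = η
      rw [reassoc_of% hn₁, hn]) : Over.mk η ⟶ (Scheme.Etale.forget Y').obj N')
  -- descent to `X ×_k K`
  let U₁ : X'.Etale := (EtCoh.bc f').obj N'
  let WX : X.Etale := (EtCoh.bc f).obj W
  let ρ : U₁.left ⟶ U.left := ((EtCoh.bc f').map j).left
  let A : U₁.left ⟶ (O : Scheme.{u}) := pullback.fst N'.hom f'
  let πX₁ : U₁.left ⟶ X := U₁.hom ≫ h
  have hA : IsPullback πX₁ A f (N'.hom ≫ g) := (IsPullback.of_hasPullback N'.hom f').flip.paste_horiz sq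
  let c : U₁.left ⟶ WX.left := pullback.lift (A ≫ k₀) πX₁
    ((Category.assoc _ _ _).trans ((congrArg (A ≫ ·) hk).trans hA.w.symm))
  have hc : IsPullback c A (pullback.fst W.hom f : WX.left ⟶ W.left) k₀ := by
    refine IsPullback.of_right ?_ (pullback.lift_fst _ _ _) (IsPullback.of_hasPullback W.hom f).flip
    have e : c ≫ pullback.snd W.hom f = πX₁ := pullback.lift_snd _ _ _
    exact e.symm ▸ hk.symm ▸ hA
  haveI : UniversallyOpen k₀ := inferInstance
  haveI : Surjective k₀ := ⟨fun o => ⟨n₁ default, Subsingleton.elim (α := Spec (CommRingCat.of K)) _ _⟩⟩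
  haveI : UniversallyOpen c := MorphismProperty.of_isPullback hc.flip ‹_›
  haveI : Surjective c := MorphismProperty.of_isPullback hc.flip ‹_›
  have hρA : ρ ≫ πN = A ≫ oR := (EtCoh.isPullback_bc_map f' j).w
  have hρX : ρ ≫ πX = πX₁ :=
    (Category.assoc _ _ _).symm.trans (congrArg (· ≫ h) (MorphismProperty.Over.w ((EtCoh.bc f').map j)))
  have hcX : c ≫ WX.hom = πX₁ := pullback.lift_snd _ _ _
  let t₁ := ((EtDesc.pullSh h).obj F).obj.map ((EtCoh.bc f').map j).op t
  let tt := valTop h U₁ πX₁ rfl t₁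
  let tc : EtDesc.sect ((EtDesc.pullSh c).obj ((EtDesc.pullSh WX.hom).obj F)) (EtCoh.top U₁.left) :=
    tcOf (N := N') (W := W) f f' h c πX₁ rfl hcX t₁
  have htc := tcOf_iff (F := F) (N := N') (W := W) f f' h c πX₁ rfl hcX t₁
  have hres : ∀ (L : Type u) [Field L] [IsSepClosed L] (z : Spec (CommRingCat.of L) ⟶ U₁.left)
      (y : Spec (CommRingCat.of L) ⟶ U.left) (hy : z ≫ ρ = y) (ξ : Spec (CommRingCat.of L) ⟶ X)
      (ey : y ≫ πX = ξ) (ez : z ≫ πX₁ = ξ) (x : (SetStalk.stalkSh ξ).obj F),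
      topGerm t₀ y = pullAt πX y ξ ey F x ↔ topGerm tt z = pullAt πX₁ z ξ ez F x := by
    intro L _ _ z y hy ξ ey ez x
    let x₁ : (Scheme.pointSmallEtale (z ≫ U₁.hom)).fiber.obj U₁ :=
      (Over.homMk z rfl : Over.mk (z ≫ U₁.hom) ⟶ (Scheme.Etale.forget X').obj U₁)
    have e : (z ≫ U₁.hom) ≫ h = ξ := (Category.assoc _ _ _).trans ez
    rw [← valTop_iff h U₁ πX₁ rfl t₁ z _ x₁ rfl ξ ez e x,
      ← valTop_iff h U πX rfl t y _ ((Scheme.pointSmallEtale (z ≫ U₁.hom)).fiber.map ((EtCoh.bc f').map j) x₁)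
        hy ξ ey e x, SetStalk.germ_res]
  obtain ⟨s₀, hs₀⟩ := exists_secPull_eq' c (isUnivSubmersive_of_universallyOpen c) _ tc fun p₀ => by
    let φ₀ : pullback c c ⟶ Spec (CommRingCat.of K) :=
      pullback.fst c c ≫ c ≫ (pullback.fst W.hom f : WX.left ⟶ W.left)
    let ε : Spec (CommRingCat.of Ω) ⟶ Spec (CommRingCat.of K) :=
      Spec.map (CommRingCat.ofHom (algebraMap K Ω))
    obtain ⟨w₀, hw₀, -⟩ := Scheme.Pullback.exists_preimage_pullback p₀ (default : Spec (CommRingCat.of Ω))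
      (f := φ₀) (g := ε) (Subsingleton.elim (α := Spec (CommRingCat.of K)) _ _)
    obtain ⟨L, iL, iL', l, hl⟩ := exists_algPoint_top w₀
    let θ : Spec (CommRingCat.of L) ⟶ pullback c c := l ≫ pullback.fst φ₀ ε
    let ω : Spec (CommRingCat.of L) ⟶ Spec (CommRingCat.of Ω) := l ≫ pullback.snd φ₀ ε
    refine ⟨L, iL, iL', θ, (congrArg (pullback.fst φ₀ ε) hl).trans hw₀, fun q e₁ e₂ x hx => ?_⟩
    let z₁ := θ ≫ pullback.fst c c
    let z₂ := θ ≫ pullback.snd c c
    let ξ := q ≫ WX.hom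
    have hω : ω ≫ ε = q ≫ (pullback.fst W.hom f : WX.left ⟶ W.left) := by
      rw [← e₁]
      show (l ≫ pullback.snd φ₀ ε) ≫ ε = _
      simp only [Category.assoc, θ, ← pullback.condition (f := φ₀) (g := ε)]
      rfl
    have main : ∀ (z : Spec (CommRingCat.of L) ⟶ U₁.left) (hz : z ≫ c = q),
        ∃ (ez : (z ≫ ρ) ≫ πX = ξ),
          ∃ e : Spec (CommRingCat.of L) ⟶ pullback (SepStage.str (k := k) R) (specMap k Ω),
          e ≫ pullback.fst _ _ = (z ≫ ρ) ≫ πN ∧ e ≫ pullback.snd _ _ = ω ∧ e default ∈ E := by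
      intro z hz
      have ez₁ : z ≫ πX₁ = ξ :=
        (congrArg (z ≫ ·) hcX.symm).trans ((Category.assoc _ _ _).symm.trans (congrArg (· ≫ WX.hom) hz))
      have ez : (z ≫ ρ) ≫ πX = ξ := (Category.assoc _ _ _).trans ((congrArg (z ≫ ·) hρX).trans ez₁)
      have hzK : (z ≫ A) ≫ k₀ = ω ≫ ε := by
        rw [hω, ← hz]
        exact (Category.assoc _ _ _).trans
          ((congrArg (z ≫ ·) (pullback.lift_fst _ _ _).symm).trans (Category.assoc _ _ _).symm)
      have he : (z ≫ A ≫ oR) ≫ SepStage.str (k := k) R = ω ≫ specMap k Ω := by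
        have h2 : ε ≫ specMap k K = specMap k Ω := by rw [← Spec.map_comp]; rfl
        rw [← h2, ← reassoc_of% hzK]
        simp only [oR, k₀, Category.assoc, pullback.condition]
      let e : Spec (CommRingCat.of L) ⟶ pullback (SepStage.str (k := k) R) (specMap k Ω) :=
        pullback.lift (z ≫ A ≫ oR) ω he
      refine ⟨ez, e, ?_, pullback.lift_snd _ _ _, ?_⟩
      · exact (pullback.lift_fst _ _ _).trans
          ((congrArg (z ≫ ·) hρA.symm).trans (Category.assoc _ _ _).symm)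
      · have hst : e ≫ SepStage.toStage R K = (z ≫ A) ≫ O.ι := by
          refine pullback.hom_ext ?_ ?_
          · rw [Category.assoc, SepStage.toStage_fst]
            exact (pullback.lift_fst _ _ _).trans (by simp only [oR, Category.assoc])
          · rw [Category.assoc, SepStage.toStage_snd]
            exact ((Category.assoc _ _ _).symm.trans ((congrArg (· ≫ ε) (pullback.lift_snd _ _ _)).trans
              hzK.symm)).trans (by simp only [k₀, Category.assoc])
        rw [← hOE, Set.mem_preimage, ← Scheme.Hom.comp_apply, hst, Scheme.Hom.comp_apply]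
        exact ((z ≫ A) default).2
    obtain ⟨ez₁, q₁, qa₁, qb₁, hq₁⟩ := main (θ ≫ pullback.fst c c) e₁
    obtain ⟨ez₂, q₂, qa₂, qb₂, hq₂⟩ := main (θ ≫ pullback.snd c c) e₂
    have hyw : ξ ≫ f = (ω ≫ n) ≫ SepStage.str (k := k) R :=
      (congrArg (· ≫ f) ez₁.symm).trans ((Category.assoc _ _ _).trans ((congrArg (_ ≫ ·) c₀.w).trans
        ((Category.assoc _ _ _).symm.trans ((congrArg (· ≫ SepStage.str (k := k) R) qa₁.symm).trans
          ((Category.assoc _ _ _).trans ((congrArg (q₁ ≫ ·) pullback.condition).trans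
            ((Category.assoc _ _ _).symm.trans ((congrArg (· ≫ specMap k Ω) qb₁).trans
              ((congrArg (ω ≫ ·) hns.symm).trans (Category.assoc _ _ _).symm)))))))))
    let y₀ := c₀.lift ξ (ω ≫ n) hyw
    obtain ⟨v, hv⟩ := (pullAt_bijective πX y₀ ξ (c₀.lift_fst _ _ _) F).2 (topGerm t₀ y₀)
    have val : ∀ (z : Spec (CommRingCat.of L) ⟶ U₁.left) (ez : (z ≫ ρ) ≫ πX = ξ)
        (e : Spec (CommRingCat.of L) ⟶ pullback (SepStage.str (k := k) R) (specMap k Ω)),
        e ≫ pullback.fst _ _ = (z ≫ ρ) ≫ πN → e ≫ pullback.snd _ _ = ω → e default ∈ E →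
        topGerm t₀ (z ≫ ρ) = pullAt πX (z ≫ ρ) ξ ez F v := by
      intro z ez e ha hb hmem
      obtain ⟨x', hx'⟩ := (pullAt_bijective πX (z ≫ ρ) ξ ez F).2 (topGerm t₀ (z ≫ ρ))
      have := hE L (z ≫ ρ) y₀ ω e ξ ez (c₀.lift_fst _ _ _) ha hb (c₀.lift_snd _ _ _) hmem x' hx'.symm
      rw [← hx', (pullAt_bijective πX y₀ ξ (c₀.lift_fst _ _ _) F).1 (this.symm.trans hv.symm)]
    obtain ⟨x', rfl⟩ := (pullAt_bijective WX.hom q ξ rfl F).2 x
    have zX : ∀ (z : Spec (CommRingCat.of L) ⟶ U₁.left), (z ≫ ρ) ≫ πX = ξ → z ≫ πX₁ = ξ := fun z ez =>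
      (congrArg (z ≫ ·) hρX.symm).trans ((Category.assoc _ _ _).symm.trans ez)
    have v₁ := (htc L _ q e₁ ξ rfl (zX _ ez₁) v).1
      ((hres L _ _ rfl ξ ez₁ (zX _ ez₁) v).1 (val _ ez₁ q₁ qa₁ qb₁ hq₁))
    have v₂ := (htc L _ q e₂ ξ rfl (zX _ ez₂) v).1
      ((hres L _ _ rfl ξ ez₂ (zX _ ez₂) v).1 (val _ ez₂ q₂ qa₂ qb₂ hq₂))
    exact v₂.trans (congrArg (pullAt c _ q e₂ _) ((pullAt_bijective c _ q e₁ _).1 (v₁.symm.trans hx)))
  obtain ⟨s, hs⟩ := (bijective_toTop F WX).2 s₀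
  refine ⟨N', j, n', W, k₀, hk, s, hn₁, ?_⟩
  exact eq_img (F := F) f g f' h sq.w (N := N') (W := W) k₀ hk c (pullback.lift_fst _ _ _) πX₁ rfl hcX t₁ s
    s₀ hs tc hs₀ rfl

include sq in
theorem surjAt [QuasiCompact f] : BCGerm.SurjAt g f f' h sq.w F η := by
  intro N n t
  obtain ⟨Rc, oe, hoe, ⟨r, hr⟩, -⟩ := Scheme.exists_affine_mem_range_and_range_subset
    (x := n.left (default : Spec (CommRingCat.of Ω))) (U := (⊤ : N.left.Opens)) trivial
  let NL : Scheme.{u} := N.left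
  let oe' : Spec Rc ⟶ NL := oe
  haveI : IsOpenImmersion oe' := hoe
  let hN : NL ⟶ Y' := N.hom
  haveI : Etale hN := N.prop
  let a : Spec Rc ⟶ Y' := oe' ≫ hN
  haveI : Etale a := inferInstanceAs (Etale (oe' ≫ hN))
  let n₁ : Spec (CommRingCat.of Ω) ⟶ Spec Rc := IsOpenImmersion.lift oe n.left (by
    rintro _ ⟨o, rfl⟩
    rw [Subsingleton.elim (α := Spec (CommRingCat.of Ω)) o default]
    exact ⟨r, hr⟩)
  obtain ⟨φR, hφR⟩ := Spec.map_surjective (a ≫ g)
  obtain ⟨φn, hφn⟩ := Spec.map_surjective n₁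
  letI : Algebra k Rc := φR.hom.toAlgebra
  letI : Algebra k Ω := (φR ≫ φn).hom.toAlgebra
  have hn : n₁ ≫ a = η := by
    exact ((Category.assoc _ _ _).symm.trans (congrArg (· ≫ hN) (IsOpenImmersion.lift_fac _ _ _))).trans (Over.w n)
  let j₁ : Scheme.Etale.mk a ⟶ N := MorphismProperty.Over.homMk oe rfl trivial
  obtain ⟨N', j, n', W, k₀, hk, s, hn', ht⟩ := surjAt_affine f g f' h sq η (R := Rc) a hφR n₁ hn
    (by rw [show specMap k Ω = Spec.map (φR ≫ φn) from rfl, Spec.map_comp, hφR, hφn])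
    (((EtDesc.pullSh h).obj F).obj.map ((EtCoh.bc f').map j₁).op t)
  refine ⟨N', j ≫ j₁, n', W, k₀, hk, s, Over.OverMorphism.ext ?_, ?_⟩
  · show n'.left ≫ j.left ≫ oe = n.left
    exact ((Category.assoc _ _ _).symm.trans (congrArg (· ≫ oe) hn')).trans (IsOpenImmersion.lift_fac _ _ _)
  · rw [Functor.map_comp, map_comp_op]
    exact ht

/-- Base change for the direct image of a sheaf of sets along a quasi-compact morphism to a field. -/
theorem isIso_baseChange0Sh [QuasiCompact f] : IsIso (EtBC.baseChange0Sh f g f' h sq.w F) :=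
  BCGerm.isIso_of_forall g f f' h sq.w fun _ _ _ η => ⟨injAt f g f' h sq η, surjAt f g f' h sq η⟩

end Groth.Agent.DescSh.CohPropField
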