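import Groth.Agent.DescSh.Locus
import Groth.Agent.EtaleSite.PullPentagon

/-!
Inverse images of sections and composition.
-/

set_option autoImplicit false
set_option linter.style.haveILetI false

universe u

open CategoryTheory CategoryTheory.Limits AlgebraicGeometry Opposite
open Groth.Agent.EtaleSite

namespace Groth.Agent.DescSh

variable {T S X : Scheme.{u}}

set_option backward.isDefEq.respectTransparency.types false in
theorem secUp_pullComp (g : T ⟶ S) (a : S ⟶ X) (G : EtDesc.Sh X) {W : X.Etale}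
    (t : G.obj.obj (op W)) :
    ((EtDesc.pullCompSh g a).hom.app G).hom.app (op ((EtCoh.bc (g ≫ a)).obj W)) (secUp (g ≫ a) G t) =
      ((EtDesc.pullSh g).obj ((EtDesc.pullSh a).obj G)).obj.map (HpullFunctor.bcComp g a W).op
        (secUp g _ (secUp a G t)) := by
  have e := Adjunction.unit_leftAdjointUniq_hom_app (EtDesc.adjSh (g ≫ a))
    (((EtDesc.adjSh a).comp (EtDesc.adjSh g)).ofNatIsoRight (EtDesc.pushCompSh a g)) G
  refine (congrArg (fun k => k.hom.app (op W) t) e).trans ?_
  simp [Adjunction.ofNatIsoRight, Adjunction.homEquiv_unit]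
  rfl

/-- A morphism between iterated base changes is determined by its two projections. -/
theorem bc_hom_ext {p : T ⟶ S} {V : S.Etale} {P : T.Etale} (k k' : P ⟶ (EtCoh.bc p).obj V)
    (h : k.left ≫ pullback.fst V.hom p = k'.left ≫ pullback.fst V.hom p) : k = k' :=
  MorphismProperty.Over.Hom.ext (pullback.hom_ext h
    ((MorphismProperty.Over.w k).trans (MorphismProperty.Over.w k').symm))

theorem bc_bc_hom_ext (g : T ⟶ S) (a : S ⟶ X) {W : X.Etale} {P : T.Etale}
    (k k' : P ⟶ (EtCoh.bc g).obj ((EtCoh.bc a).obj W))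
    (h : k.left ≫ pullback.fst ((EtCoh.bc a).obj W).hom g ≫ pullback.fst W.hom a =
      k'.left ≫ pullback.fst ((EtCoh.bc a).obj W).hom g ≫ pullback.fst W.hom a) : k = k' := by
  refine bc_hom_ext k k' (pullback.hom_ext ((Category.assoc _ _ _).trans (h.trans (Category.assoc _ _ _).symm)) ?_)
  have hk : k.left ≫ pullback.snd ((EtCoh.bc a).obj W).hom g = P.hom := MorphismProperty.Over.w k
  have hk' : k'.left ≫ pullback.snd ((EtCoh.bc a).obj W).hom g = P.hom := MorphismProperty.Over.w k'
  refine (Category.assoc _ _ _).trans (Eq.trans ?_ (Category.assoc _ _ _).symm)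
  have c : pullback.fst ((EtCoh.bc a).obj W).hom g ≫ pullback.snd W.hom a =
      pullback.snd ((EtCoh.bc a).obj W).hom g ≫ g := pullback.condition
  exact (congrArg (k.left ≫ ·) c).trans (((reassoc_of% hk) g).trans
    (((reassoc_of% hk') g).symm.trans (congrArg (k'.left ≫ ·) c).symm))

/-- `pullVia` on inverse images of sections. -/
theorem secUp_pullVia (g : T ⟶ S) (a : S ⟶ X) (b : T ⟶ X) (w : g ≫ a = b) (G : EtDesc.Sh X)
    {W : X.Etale} (t : G.obj.obj (op W)) (κ : (EtCoh.bc g).obj ((EtCoh.bc a).obj W) ⟶ (EtCoh.bc b).obj W)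
    (hκ : κ.left ≫ pullback.fst W.hom b =
      pullback.fst ((EtCoh.bc a).obj W).hom g ≫ pullback.fst W.hom a) :
    (EtDesc.pullVia g a b w G).hom.hom.app (op ((EtCoh.bc g).obj ((EtCoh.bc a).obj W)))
        (secUp g _ (secUp a G t)) = ((EtDesc.pullSh b).obj G).obj.map κ.op (secUp b G t) := by
  subst w
  let c := HpullFunctor.bcComp g a W
  have hc : κ ≫ c = 𝟙 _ := by
    refine bc_bc_hom_ext g a _ _ ?_
    change (κ.left ≫ c.left) ≫ _ = 𝟙 _ ≫ _
    rw [Category.assoc, Category.id_comp]
    exact (congrArg (κ.left ≫ ·) (HpullFunctor.bcComp_fst g a W)).trans hκ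
  let i := (EtDesc.pullCompSh g a).app G
  have h1 : (EtDesc.pullVia g a (g ≫ a) rfl G).hom = i.inv := by
    simp [EtDesc.pullVia, EtDesc.pullCongrSh, i]
  rw [h1]
  let M := (EtDesc.pullSh g).obj ((EtDesc.pullSh a).obj G)
  have h3 : M.obj.map κ.op (M.obj.map c.op (secUp g _ (secUp a G t))) = secUp g _ (secUp a G t) := by
    rw [← ConcreteCategory.comp_apply, ← Functor.map_comp, ← op_comp, hc, op_id,
      CategoryTheory.Functor.map_id]
    rfl
  have h4 : M.obj.map κ.op (i.hom.hom.app (op _) (secUp (g ≫ a) G t)) = secUp g _ (secUp a G t) :=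
    (congrArg (M.obj.map κ.op) (secUp_pullComp g a G t)).trans h3
  refine (congrArg (i.inv.hom.app (op _)) (h4.symm.trans
    (NatTrans.naturality_apply i.hom.hom κ.op (secUp (g ≫ a) G t)).symm)).trans ?_
  exact congrArg (fun k => k.hom.app (op _)
    (((EtDesc.pullSh (g ≫ a)).obj G).obj.map κ.op (secUp (g ≫ a) G t))) i.hom_inv_id

end Groth.Agent.DescSh
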