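import Groth.Agent.DescSh.Comp
import Groth.Agent.EtaleSite.Clopen

/-!
Descent of sections of étale sheaves of sets along universally submersive morphisms.
-/

set_option autoImplicit false
set_option linter.style.haveILetI false

universe u

open CategoryTheory CategoryTheory.Limits AlgebraicGeometry Opposite
open Groth.Agent.EtaleSite

namespace Groth.Agent.DescSh

variable {X' X : Scheme.{u}}

section Pair

variable {T : Scheme.{u}} (f : X' ⟶ X) (pr₁ pr₂ : T ⟶ X') (w : pr₁ ≫ f = pr₂ ≫ f)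

/-- The projection to `U`. -/
noncomputable abbrev p1U (U : X.Etale) : ((EtCoh.bc (pr₁)).obj ((EtCoh.bc f).obj U)).left ⟶ U.left :=
  pullback.fst ((EtCoh.bc f).obj U).hom (pr₁) ≫ pullback.fst U.hom f

/-- The projection to `U`. -/
noncomputable abbrev p2U (U : X.Etale) : ((EtCoh.bc (pr₂)).obj ((EtCoh.bc f).obj U)).left ⟶ U.left :=
  pullback.fst ((EtCoh.bc f).obj U).hom (pr₂) ≫ pullback.fst U.hom f

theorem p1U_hom (U : X.Etale) : p1U f pr₁ U ≫ U.hom = ((EtCoh.bc (pr₁)).obj ((EtCoh.bc f).obj U)).hom ≫ pr₁ ≫ f := by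
  have c : pullback.fst ((EtCoh.bc f).obj U).hom (pr₁) ≫ pullback.snd U.hom f =
      ((EtCoh.bc (pr₁)).obj ((EtCoh.bc f).obj U)).hom ≫ pr₁ := pullback.condition
  exact (Category.assoc _ _ _).trans ((congrArg (_ ≫ ·) pullback.condition).trans
    (((reassoc_of% c) f).trans (Category.assoc _ _ _)))

include w in
theorem p2U_hom (U : X.Etale) : p2U f pr₂ U ≫ U.hom = ((EtCoh.bc (pr₂)).obj ((EtCoh.bc f).obj U)).hom ≫ pr₁ ≫ f := by
  have c : pullback.fst ((EtCoh.bc f).obj U).hom (pr₂) ≫ pullback.snd U.hom f =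
      ((EtCoh.bc (pr₂)).obj ((EtCoh.bc f).obj U)).hom ≫ pr₂ := pullback.condition
  exact (Category.assoc _ _ _).trans ((congrArg (_ ≫ ·) pullback.condition).trans
    (((reassoc_of% c) f).trans ((Category.assoc _ _ _).trans
      (congrArg (((EtCoh.bc (pr₂)).obj ((EtCoh.bc f).obj U)).hom ≫ ·) w.symm))))

/-- The identification of the two pullbacks of `U ×_X X'` to `X''`. -/
noncomputable def τ (U : X.Etale) : (EtCoh.bc (pr₂)).obj ((EtCoh.bc f).obj U) ⟶ (EtCoh.bc (pr₁)).obj ((EtCoh.bc f).obj U) :=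
  MorphismProperty.Over.homMk
    (pullback.lift (pullback.lift (p2U f pr₂ U) (((EtCoh.bc (pr₂)).obj ((EtCoh.bc f).obj U)).hom ≫ pr₁)
      ((p2U_hom f pr₁ pr₂ w U).trans (Category.assoc _ _ _).symm)) ((EtCoh.bc (pr₂)).obj ((EtCoh.bc f).obj U)).hom
      (pullback.lift_snd _ _ _))
    (pullback.lift_snd _ _ _) trivial

theorem τ_fst (U : X.Etale) :
    (τ f pr₁ pr₂ w U).left ≫ pullback.fst ((EtCoh.bc f).obj U).hom (pr₁) =
      pullback.lift (p2U f pr₂ U) (((EtCoh.bc (pr₂)).obj ((EtCoh.bc f).obj U)).hom ≫ pr₁)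
        ((p2U_hom f pr₁ pr₂ w U).trans (Category.assoc _ _ _).symm) :=
  pullback.lift_fst _ _ _

theorem τ_p1U (U : X.Etale) : (τ f pr₁ pr₂ w U).left ≫ p1U f pr₁ U = p2U f pr₂ U :=
  (Category.assoc _ _ _).symm.trans ((congrArg (· ≫ pullback.fst U.hom f) (τ_fst f pr₁ pr₂ w U)).trans
    (pullback.lift_fst _ _ _))

/-- The canonical identification of the two inverse images of `f⁻¹ G`. -/
noncomputable def canT (G : EtDesc.Sh X) :
    (EtDesc.pullSh pr₁).obj ((EtDesc.pullSh f).obj G) ≅ (EtDesc.pullSh pr₂).obj ((EtDesc.pullSh f).obj G) :=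
  EtDesc.pullVia pr₁ f (pr₁ ≫ f) rfl G ≪≫ (EtDesc.pullVia pr₂ f (pr₁ ≫ f) w.symm G).symm

theorem canT_def (G : EtDesc.Sh X) : canT f pr₁ pr₂ w G =
    EtDesc.pullVia pr₁ f (pr₁ ≫ f) rfl G ≪≫ (EtDesc.pullVia pr₂ f (pr₁ ≫ f) w.symm G).symm := rfl

/-- Sections over `U ×_X X'` whose two inverse images to `U ×_X X''` agree. -/
def AgreeT (G : EtDesc.Sh X) (U : X.Etale)
    (s' : ((EtDesc.pullSh f).obj G).obj.obj (op ((EtCoh.bc f).obj U))) : Prop :=
  (canT f pr₁ pr₂ w G).hom.hom.app (op ((EtCoh.bc (pr₂)).obj ((EtCoh.bc f).obj U)))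
      (((EtDesc.pullSh (pr₁)).obj ((EtDesc.pullSh f).obj G)).obj.map (τ f pr₁ pr₂ w U).op
        (secUp (pr₁) _ s')) =
    secUp (pr₂) _ s'

theorem app_map_eq {Y : Scheme.{u}} {F F' : EtDesc.Sh Y} (a : F ⟶ F') {P Q R : Y.Etale} (k : P ⟶ Q)
    (κ : Q ⟶ R) (κ' : P ⟶ R) (hk : k ≫ κ = κ') (y : F.obj.obj (op Q)) (z : F'.obj.obj (op R))
    (h : a.hom.app (op Q) y = F'.obj.map κ.op z) :
    a.hom.app (op P) (F.obj.map k.op y) = F'.obj.map κ'.op z := by
  subst hk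
  rw [NatTrans.naturality_apply, h, ← ConcreteCategory.comp_apply, ← Functor.map_comp, ← op_comp]

theorem inv_app_eq {Y : Scheme.{u}} {F₁ F₂ F' : EtDesc.Sh Y} (v₁ : F₁ ≅ F') (v₂ : F₂ ≅ F') (P : Y.Etale)
    (y₁ : F₁.obj.obj (op P)) (y₂ : F₂.obj.obj (op P)) (h : v₁.hom.hom.app (op P) y₁ = v₂.hom.hom.app (op P) y₂) :
    (v₁ ≪≫ v₂.symm).hom.hom.app (op P) y₁ = y₂ := by
  change v₂.inv.hom.app (op P) (v₁.hom.hom.app (op P) y₁) = y₂
  rw [h]
  exact congrArg (fun k => k.hom.app (op P) y₂) v₂.hom_inv_id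

theorem agree_aux {Y : Scheme.{u}} {F₁ F₂ F' : EtDesc.Sh Y} (v₁ : F₁ ≅ F') (v₂ : F₂ ≅ F') {P Q R : Y.Etale}
    (k : P ⟶ Q) (κ : Q ⟶ R) (κ' : P ⟶ R) (hk : k ≫ κ = κ') (y₁ : F₁.obj.obj (op Q)) (y₂ : F₂.obj.obj (op P))
    (z : F'.obj.obj (op R)) (h1 : v₁.hom.hom.app (op Q) y₁ = F'.obj.map κ.op z)
    (h2 : v₂.hom.hom.app (op P) y₂ = F'.obj.map κ'.op z) :
    (v₁ ≪≫ v₂.symm).hom.hom.app (op P) (F₁.obj.map k.op y₁) = y₂ :=
  inv_app_eq v₁ v₂ P _ _ ((app_map_eq v₁.hom k κ κ' hk y₁ z h1).trans h2.symm)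

/-- Inverse images of sections agree. -/
theorem agreeT_secUp (G : EtDesc.Sh X) {U : X.Etale} (t : G.obj.obj (op U)) :
    AgreeT f pr₁ pr₂ w G U (secUp f G t) := by
  let κ1 : (EtCoh.bc (pr₁)).obj ((EtCoh.bc f).obj U) ⟶ (EtCoh.bc (pr₁ ≫ f)).obj U :=
    MorphismProperty.Over.homMk (pullback.lift (p1U f pr₁ U) ((EtCoh.bc (pr₁)).obj ((EtCoh.bc f).obj U)).hom (p1U_hom f pr₁ U))
      (pullback.lift_snd _ _ _) trivial
  let κ2 : (EtCoh.bc (pr₂)).obj ((EtCoh.bc f).obj U) ⟶ (EtCoh.bc (pr₁ ≫ f)).obj U :=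
    MorphismProperty.Over.homMk (pullback.lift (p2U f pr₂ U) ((EtCoh.bc (pr₂)).obj ((EtCoh.bc f).obj U)).hom (p2U_hom f pr₁ pr₂ w U))
      (pullback.lift_snd _ _ _) trivial
  have h1 := secUp_pullVia (pr₁) f (pr₁ ≫ f) rfl G t κ1
    (pullback.lift_fst _ _ _)
  have h2 := secUp_pullVia (pr₂) f (pr₁ ≫ f) w.symm G t κ2
    (pullback.lift_fst _ _ _)
  have hκ : τ f pr₁ pr₂ w U ≫ κ1 = κ2 := by
    refine bc_hom_ext _ _ ?_
    change ((τ f pr₁ pr₂ w U).left ≫ κ1.left) ≫ _ = κ2.left ≫ _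
    exact (Category.assoc _ _ _).trans <| (congrArg ((τ f pr₁ pr₂ w U).left ≫ ·) (pullback.lift_fst _ _ _)).trans
      ((τ_p1U f pr₁ pr₂ w U).trans (pullback.lift_fst _ _ _).symm)
  unfold AgreeT
  rw [canT_def]
  exact agree_aux
    (EtDesc.pullVia (pr₁) f (pr₁ ≫ f) rfl G)
    (EtDesc.pullVia (pr₂) f (pr₁ ≫ f) w.symm G)
    (τ f pr₁ pr₂ w U) κ1 κ2 hκ (secUp (pr₁) _ (secUp f G t))
    (secUp (pr₂) _ (secUp f G t)) (secUp (pr₁ ≫ f) G t) h1 h2

theorem app_res {Y : Scheme.{u}} {F F' : EtDesc.Sh Y} (a : F ⟶ F') {P Q P' Q' : Y.Etale} (k : P ⟶ Q)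
    (k' : P' ⟶ Q') (c₁ : Q' ⟶ Q) (c₂ : P' ⟶ P) (hk : k' ≫ c₁ = c₂ ≫ k) (y : F.obj.obj (op Q))
    (z : F'.obj.obj (op P)) (h : a.hom.app (op P) (F.obj.map k.op y) = z) :
    a.hom.app (op P') (F.obj.map k'.op (F.obj.map c₁.op y)) = F'.obj.map c₂.op z := by
  subst h
  rw [← ConcreteCategory.comp_apply (F.obj.map c₁.op), ← Functor.map_comp, ← op_comp, hk, op_comp,
    Functor.map_comp, ConcreteCategory.comp_apply]
  exact NatTrans.naturality_apply a.hom c₂.op _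

/-- Agreement is stable under restriction. -/
theorem agreeT_res (G : EtDesc.Sh X) {U W : X.Etale} (g : W ⟶ U)
    {s' : ((EtDesc.pullSh f).obj G).obj.obj (op ((EtCoh.bc f).obj U))} (h : AgreeT f pr₁ pr₂ w G U s') :
    AgreeT f pr₁ pr₂ w G W (((EtDesc.pullSh f).obj G).obj.map ((EtCoh.bc f).map g).op s') := by
  have hτ : τ f pr₁ pr₂ w W ≫ (EtCoh.bc (pr₁)).map ((EtCoh.bc f).map g) =
      (EtCoh.bc (pr₂)).map ((EtCoh.bc f).map g) ≫ τ f pr₁ pr₂ w U := by
    refine bc_bc_hom_ext _ _ _ _ ?_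
    have a1 := (EtCoh.isPullback_bc_map (pr₁) ((EtCoh.bc f).map g)).w
    have a2 := (EtCoh.isPullback_bc_map (pr₂) ((EtCoh.bc f).map g)).w
    have b := (EtCoh.isPullback_bc_map f g).w
    change ((τ f pr₁ pr₂ w W).left ≫ ((EtCoh.bc (pr₁)).map ((EtCoh.bc f).map g)).left) ≫ p1U f pr₁ U =
      (((EtCoh.bc (pr₂)).map ((EtCoh.bc f).map g)).left ≫ (τ f pr₁ pr₂ w U).left) ≫ p1U f pr₁ U
    rw [Category.assoc, Category.assoc, τ_p1U]
    have l1 : ((EtCoh.bc (pr₁)).map ((EtCoh.bc f).map g)).left ≫ p1U f pr₁ U =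
        p1U f pr₁ W ≫ g.left :=
      ((reassoc_of% a1) (pullback.fst U.hom f)).trans ((congrArg (_ ≫ ·) b).trans (Category.assoc _ _ _).symm)
    have l2 : ((EtCoh.bc (pr₂)).map ((EtCoh.bc f).map g)).left ≫ p2U f pr₂ U =
        p2U f pr₂ W ≫ g.left :=
      ((reassoc_of% a2) (pullback.fst U.hom f)).trans ((congrArg (_ ≫ ·) b).trans (Category.assoc _ _ _).symm)
    rw [l1, l2, ← Category.assoc, τ_p1U]
  unfold AgreeT
  rw [secUp_res, secUp_res]
  exact app_res (canT f pr₁ pr₂ w G).hom (τ f pr₁ pr₂ w U) (τ f pr₁ pr₂ w W)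
    ((EtCoh.bc pr₁).map ((EtCoh.bc f).map g)) ((EtCoh.bc pr₂).map ((EtCoh.bc f).map g)) hτ _ _ h

theorem EqAt.map {Y : Scheme.{u}} {F F' : EtDesc.Sh Y} (a : F ⟶ F') {U : Y.Etale} {s t : F.obj.obj (op U)}
    {u : U.left} (h : EqAt F s t u) : EqAt F' (a.hom.app (op U) s) (a.hom.app (op U) t) u := by
  obtain ⟨W, g, x, hx, e⟩ := h
  exact ⟨W, g, x, hx, (NatTrans.naturality_apply a.hom g.op s).symm.trans
    ((congrArg _ e).trans (NatTrans.naturality_apply a.hom g.op t))⟩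

include w in
/-- The agreement locus of two agreeing sections is saturated. -/
theorem eqAtT_saturated (G : EtDesc.Sh X) {W : X.Etale}
    {a b : ((EtDesc.pullSh f).obj G).obj.obj (op ((EtCoh.bc f).obj W))}
    (ha : AgreeT f pr₁ pr₂ w G W a) (hb : AgreeT f pr₁ pr₂ w G W b) {P : Scheme.{u}}
    (l₁ l₂ : P ⟶ ((EtCoh.bc f).obj W).left) (v : P ⟶ T)
    (hl : l₁ ≫ pullback.fst W.hom f = l₂ ≫ pullback.fst W.hom f)
    (hv₁ : v ≫ pr₁ = l₁ ≫ pullback.snd W.hom f) (hv₂ : v ≫ pr₂ = l₂ ≫ pullback.snd W.hom f)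
    (c : P) (h : EqAt _ a b (l₁ c)) : EqAt _ a b (l₂ c) := by
  let ψ : P ⟶ ((EtCoh.bc pr₂).obj ((EtCoh.bc f).obj W)).left := pullback.lift l₂ v hv₂.symm
  have hψ2 : ψ ≫ pullback.fst ((EtCoh.bc f).obj W).hom pr₂ = l₂ := pullback.lift_fst _ _ _
  have hψh : ψ ≫ ((EtCoh.bc pr₂).obj ((EtCoh.bc f).obj W)).hom = v := pullback.lift_snd _ _ _
  have hψ1 : ψ ≫ (τ f pr₁ pr₂ w W).left ≫ pullback.fst ((EtCoh.bc f).obj W).hom pr₁ = l₁ := by
    refine (congrArg (ψ ≫ ·) (τ_fst f pr₁ pr₂ w W)).trans (pullback.hom_ext ?_ ?_)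
    · exact ((Category.assoc _ _ _).trans (congrArg (ψ ≫ ·) (pullback.lift_fst _ _ _))).trans
        (((reassoc_of% hψ2) (pullback.fst W.hom f)).trans hl.symm)
    · exact ((Category.assoc _ _ _).trans (congrArg (ψ ≫ ·) (pullback.lift_snd _ _ _))).trans
        (((reassoc_of% hψh) pr₁).trans hv₁)
  have e1 : (pullback.fst ((EtCoh.bc f).obj W).hom pr₁ :
      ((EtCoh.bc pr₁).obj ((EtCoh.bc f).obj W)).left ⟶ ((EtCoh.bc f).obj W).left)
        ((τ f pr₁ pr₂ w W).left (ψ c)) = l₁ c :=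
    congrArg (fun k : P ⟶ pullback W.hom f => k c) hψ1
  have e2 : (pullback.fst ((EtCoh.bc f).obj W).hom pr₂ :
      ((EtCoh.bc pr₂).obj ((EtCoh.bc f).obj W)).left ⟶ ((EtCoh.bc f).obj W).left) (ψ c) = l₂ c :=
    congrArg (fun k : P ⟶ pullback W.hom f => k c) hψ2
  have h' := EqAt.map (canT f pr₁ pr₂ w G).hom ((eqAt_res _ (τ f pr₁ pr₂ w W) _ _ (ψ c)).2
    ((eqAt_secUp_iff pr₁ _ a b _).2 (e1.symm ▸ h)))
  unfold AgreeT at ha hb
  rw [ha, hb] at h'
  rw [← e2]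
  exact (eqAt_secUp_iff pr₂ _ a b _).1 h'

end Pair

variable (f : X' ⟶ X)

/-- Sections over `U ×_X X'` whose two inverse images to `U ×_X X''` agree. -/
abbrev Agree (G : EtDesc.Sh X) (U : X.Etale)
    (s' : ((EtDesc.pullSh f).obj G).obj.obj (op ((EtCoh.bc f).obj U))) : Prop :=
  AgreeT f (pullback.fst f f) (pullback.snd f f) pullback.condition G U s'

theorem canIso_eq (G : EtDesc.Sh X) :
    EtDesc.canIso f G = canT f (pullback.fst f f) (pullback.snd f f) pullback.condition G := rfl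

theorem agree_secUp (G : EtDesc.Sh X) {U : X.Etale} (t : G.obj.obj (op U)) :
    Agree f G U (secUp f G t) :=
  agreeT_secUp f _ _ pullback.condition G t

theorem agree_res (G : EtDesc.Sh X) {U W : X.Etale} (g : W ⟶ U)
    {s' : ((EtDesc.pullSh f).obj G).obj.obj (op ((EtCoh.bc f).obj U))} (h : Agree f G U s') :
    Agree f G W (((EtDesc.pullSh f).obj G).obj.map ((EtCoh.bc f).map g).op s') :=
  agreeT_res f _ _ pullback.condition G g h

theorem eqAt_saturated (G : EtDesc.Sh X) {W : X.Etale}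
    {a b : ((EtDesc.pullSh f).obj G).obj.obj (op ((EtCoh.bc f).obj W))}
    (ha : Agree f G W a) (hb : Agree f G W b) (w₁ w₂ : ((EtCoh.bc f).obj W).left)
    (hw : (pullback.fst W.hom f : ((EtCoh.bc f).obj W).left ⟶ W.left) w₁ =
      (pullback.fst W.hom f : ((EtCoh.bc f).obj W).left ⟶ W.left) w₂)
    (h : EqAt _ a b w₁) : EqAt _ a b w₂ := by
  let q : pullback W.hom f ⟶ W.left := pullback.fst W.hom f
  obtain ⟨c, hc1, hc2⟩ := Scheme.Pullback.exists_preimage_pullback (f := q) (g := q) w₁ w₂ hw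
  have hc : pullback.fst q q ≫ q = pullback.snd q q ≫ q := pullback.condition
  have hcond : (pullback.fst q q ≫ pullback.snd W.hom f) ≫ f =
      (pullback.snd q q ≫ pullback.snd W.hom f) ≫ f :=
    (Category.assoc _ _ _).trans ((congrArg (pullback.fst q q ≫ ·) pullback.condition.symm).trans
      (((reassoc_of% hc) W.hom).trans ((congrArg (pullback.snd q q ≫ ·) pullback.condition).trans
        (Category.assoc _ _ _).symm)))
  rw [← hc2]
  exact eqAtT_saturated f _ _ pullback.condition G ha hb (pullback.fst q q) (pullback.snd q q)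
    (pullback.lift _ _ hcond) hc (pullback.lift_fst _ _ _) (pullback.lift_snd _ _ _) c (hc1.symm ▸ h)

theorem isQuotientMap_fst (hf : EtDesc.IsUnivSubmersive f) (U : X.Etale) :
    Function.Surjective (pullback.fst U.hom f).base ∧
      Topology.IsQuotientMap (pullback.fst U.hom f).base := by
  obtain ⟨h1, h2⟩ := hf U.left U.hom
  rw [← pullbackSymmetry_hom_comp_snd U.hom f]
  refine ⟨fun u => ?_, h2.comp (TopCat.homeoOfIso (Scheme.forgetToTop.mapIso (pullbackSymmetry U.hom f))).isQuotientMap⟩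
  obtain ⟨z, hz⟩ := h1 u
  obtain ⟨z', hz'⟩ := ((pullbackSymmetry U.hom f).hom).surjective z
  exact ⟨z', by rw [Scheme.Hom.comp_apply, hz']; exact hz⟩

theorem surjective_of_univSubmersive (hf : EtDesc.IsUnivSubmersive f) : Surjective f := by
  obtain ⟨h1, -⟩ := hf X (𝟙 X)
  refine ⟨fun x => ?_⟩
  obtain ⟨z, hz⟩ := h1 x
  refine ⟨pullback.fst f (𝟙 X) z, ?_⟩
  rw [← Scheme.Hom.comp_apply, pullback.condition, Category.comp_id]
  exact hz

/-- Sections descend along universally submersive morphisms. -/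
theorem exists_secUp (hf : EtDesc.IsUnivSubmersive f) (G : EtDesc.Sh X) {U : X.Etale}
    {s' : ((EtDesc.pullSh f).obj G).obj.obj (op ((EtCoh.bc f).obj U))} (hs : Agree f G U s') :
    ∃ s : G.obj.obj (op U), secUp f G s = s' := by
  haveI := surjective_of_univSubmersive f hf
  let F' := (EtDesc.pullSh f).obj G
  let S : Sieve U :=
    { arrows := fun W g => ∃ t : G.obj.obj (op W), secUp f G t = F'.obj.map ((EtCoh.bc f).map g).op s'
      downward_closed := fun {W W' g} ⟨t, ht⟩ k => ⟨G.obj.map k.op t, by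
        rw [secUp_res, ht, ← ConcreteCategory.comp_apply, ← Functor.map_comp, ← op_comp,
          ← Functor.map_comp]⟩ }
  have hS : S ∈ X.smallEtaleTopology U := by
    refine mem_topology_of_forall_exists S fun u => ?_
    obtain ⟨v, hv⟩ := (isQuotientMap_fst f hf U).1 u
    obtain ⟨W, g, t, w, hw, hE⟩ := exists_local f G s' v
    let q : ((EtCoh.bc f).obj W).left ⟶ W.left := pullback.fst W.hom f
    let Z := {z : ((EtCoh.bc f).obj W).left | EqAt F' (F'.obj.map ((EtCoh.bc f).map g).op s') (secUp f G t) z}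
    have hsat : q.base ⁻¹' (q.base '' Z) = Z := Set.Subset.antisymm
      (fun z ⟨z₁, hz₁, e⟩ => eqAt_saturated f G (agree_res f G g hs) (agree_secUp f G t) z₁ z e hz₁)
      (Set.subset_preimage_image _ _)
    let O : W.left.Opens := ⟨q.base '' Z, (isQuotientMap_fst f hf W).2.isOpen_preimage.1
      (hsat.symm ▸ isOpen_eqAt _ _ _)⟩
    refine ⟨piece W O, pieceHom W O ≫ g, (⟨q w, w, hE, rfl⟩ : O), ⟨G.obj.map (pieceHom W O).op t, ?_⟩, ?_⟩
    · rw [secUp_res, Functor.map_comp, op_comp, Functor.map_comp, ConcreteCategory.comp_apply]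
      refine (eq_of_eqAt _ _ _ fun z => ?_).symm
      rw [eqAt_res]
      have hz : q (((EtCoh.bc f).map (pieceHom W O)).left z) ∈ O := by
        rw [← Scheme.Hom.comp_apply, (EtCoh.isPullback_bc_map f (pieceHom W O)).w]
        exact Subtype.coe_prop _
      exact hsat.le hz
    · change g.left (q w) = u
      rw [← hv, ← hw, ← Scheme.Hom.comp_apply, ← (EtCoh.isPullback_bc_map f g).w]
      rfl
  have hsh := (isSheaf_iff_isSheaf_of_type _ _).1 G.property S hS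
  let x : Presieve.FamilyOfElements G.obj S.arrows := fun W g hg => hg.choose
  have hx : ∀ (W : X.Etale) (g : W ⟶ U) (hg : S g),
      secUp f G (x g hg) = F'.obj.map ((EtCoh.bc f).map g).op s' := fun W g hg => hg.choose_spec
  have hc : x.Compatible := by
    intro W₁ W₂ Z g₁ g₂ k₁ k₂ h₁ h₂ e
    apply secUp_injective f G
    rw [secUp_res, secUp_res, hx, hx, ← ConcreteCategory.comp_apply, ← ConcreteCategory.comp_apply,
      ← Functor.map_comp, ← Functor.map_comp, ← op_comp, ← op_comp, ← Functor.map_comp,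
      ← Functor.map_comp, e]
  refine ⟨hsh.amalgamate x hc, eq_of_eqAt _ _ _ fun v => ?_⟩
  obtain ⟨ι, Zs, k, e⟩ := S.exists_eq_ofArrows
  have hcov := hS
  rw [e, Scheme.ofArrows_mem_smallEtaleTopology_iff] at hcov
  let q : ((EtCoh.bc f).obj U).left ⟶ U.left := pullback.fst U.hom f
  obtain ⟨_, ⟨i, rfl⟩, w, hw⟩ : q v ∈ ⋃ i, Set.range (k i).left := hcov ▸ Set.mem_univ _
  have hk : S (k i) := e ▸ Sieve.ofArrows_mk _ _ _
  have sq := EtCoh.isPullback_bc_map f (k i)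
  obtain ⟨z, hz₁, -⟩ := Scheme.Pullback.exists_preimage_pullback (f := q) (g := (k i).left) v w hw.symm
  refine ⟨_, (EtCoh.bc f).map (k i), sq.isoPullback.inv z, ?_, ?_⟩
  · exact (congrArg (fun m => m z) sq.isoPullback_inv_fst).trans hz₁
  · rw [← secUp_res, ← hx _ _ hk]
    exact congrArg (secUp f G) (hsh.valid_glue hc (k i) hk)

end Groth.Agent.DescSh
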