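import Groth.Agent.DescSh.BCConn
import Groth.Agent.S0412
import Groth.Agent.S15351
import Groth.Agent.SecComp.Nbhd
import Mathlib.AlgebraicGeometry.Morphisms.SmoothFiber

/-!
Smooth morphisms factor, locally for the étale topology, through smooth morphisms with geometrically
connected fibres followed by étale morphisms.
-/

set_option autoImplicit false
set_option linter.style.haveILetI false
set_option backward.isDefEq.respectTransparency.types false

universe u

open CategoryTheory CategoryTheory.Limits AlgebraicGeometry Opposite TopologicalSpace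
open Groth.Agent.EtaleSite

namespace Groth.Agent.DescSh.SmoothFactor

/-- A point of a smooth morphism with connected fibre lies, after an étale base change with a section,
in an open subscheme with geometrically connected fibres. -/
theorem exists_factor_of_connected_fiber {U S : Scheme.{u}} [QuasiSeparatedSpace ↥U] (p : U ⟶ S) [Smooth p]
    (z : U) [ConnectedSpace ↥(p.fiber (p z))] :
    ∃ (V : S.Etale) (O : (pullback p V.hom).Opens) (d : ↥(pullback p V.hom)), d ∈ O ∧
      pullback.fst p V.hom d = z ∧ GeometricallyConnected (O.ι ≫ pullback.snd p V.hom) ∧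
      EtDesc.IsUnivSubmersive (O.ι ≫ pullback.snd p V.hom) := by
  obtain ⟨S', g₀, s', hg₀, hgs, h₀, hh₀⟩ := Groth.Agent.S0412.result p (p z) ⟨z, rfl⟩
  obtain ⟨R, oe, hoe, ⟨r₀, hr₀⟩, -⟩ :=
    Scheme.exists_affine_mem_range_and_range_subset (x := s') (U := (⊤ : S'.Opens)) trivial
  let g : Spec R ⟶ S := oe ≫ g₀
  haveI : Etale g := inferInstanceAs (Etale (oe ≫ g₀))
  refine ⟨Scheme.Etale.mk g, ?_⟩
  change ∃ (O : (pullback p g).Opens) (d : ↥(pullback p g)), d ∈ O ∧ pullback.fst p g d = z ∧
    GeometricallyConnected (O.ι ≫ pullback.snd p g) ∧ EtDesc.IsUnivSubmersive (O.ι ≫ pullback.snd p g)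
  let π : pullback p g ⟶ Spec R := pullback.snd p g
  haveI : Smooth π := MorphismProperty.pullback_snd _ _ ‹Smooth p›
  haveI : QuasiSeparated g := inferInstance
  haveI : QuasiSeparated (pullback.fst p g) := MorphismProperty.pullback_fst _ _ ‹QuasiSeparated g›
  haveI : QuasiSeparatedSpace ↥(pullback p g) := quasiSeparatedSpace_of_quasiSeparated (pullback.fst p g)
  let σ : Spec R ⟶ pullback p g := pullback.lift (oe ≫ h₀) (𝟙 _) (by rw [Category.assoc, hh₀, Category.id_comp])
  have hσ : σ ≫ π = 𝟙 _ := pullback.lift_snd _ _ _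
  let O : (pullback p g).Opens := ⟨MoreMor.sectionComponents π σ, Groth.Agent.S15351.result π σ hσ⟩
  refine ⟨O, ?_⟩
  -- the fibre over the residue field of a point of the étale neighbourhood
  let s : S := p z
  let ks : Type u := S.residueField s
  let iS : Spec (CommRingCat.of ks) ⟶ S := S.fromSpecResidueField s
  haveI : Etale (pullback.snd g iS) := MorphismProperty.pullback_snd _ _ ‹Etale g›
  have hg : g r₀ = iS default := by
    rw [show g r₀ = g₀ (oe r₀) from rfl, hr₀, hgs]
    exact (Scheme.fromSpecResidueField_apply _ _).symm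
  obtain ⟨vE, hvE, -⟩ := Scheme.Pullback.exists_preimage_pullback r₀ (default : Spec (CommRingCat.of ks))
    (f := g) (g := iS) hg
  obtain ⟨K, iK, iA, iF, iSep, jK, ijK, hjK, hjr⟩ := Groth.Agent.S0658.exists_piece (pullback.snd g iS) vE
  let r : Spec (CommRingCat.of K) ⟶ Spec (CommRingCat.of ks) := Spec.map (CommRingCat.ofHom (algebraMap ks K))
  haveI : IsFinite r := (IsFinite.SpecMap_iff _).mpr (RingHom.finite_algebraMap.mpr inferInstance)
  haveI : UniversallyOpen r := inferInstance
  let w : Spec (CommRingCat.of K) ⟶ Spec R := jK ≫ pullback.fst g iS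
  have hw : w ≫ g = r ≫ iS := by
    rw [show r = jK ≫ pullback.snd g iS from hjK.symm, Category.assoc, Category.assoc, pullback.condition]
  let fs : p.fiber s ⟶ Spec (CommRingCat.of ks) := p.fiberToSpecResidueField s
  let Q : Scheme.{u} := pullback fs r
  let β : Q ⟶ p.fiber s := pullback.fst fs r
  let πQ : Q ⟶ Spec (CommRingCat.of K) := pullback.snd fs r
  haveI : UniversallyOpen β := MorphismProperty.pullback_fst _ _ ‹UniversallyOpen r›
  haveI : IsFinite β := MorphismProperty.pullback_fst _ _ ‹IsFinite r›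
  have h1 : IsPullback (β ≫ p.fiberι s) πQ p (w ≫ g) := by
    rw [hw]
    exact (IsPullback.of_hasPullback fs r).paste_horiz (IsPullback.of_hasPullback p iS)
  let qP : Q ⟶ pullback p g := pullback.lift (β ≫ p.fiberι s) (πQ ≫ w) (h1.w.trans (Category.assoc _ _ _).symm)
  have hqP : IsPullback qP πQ π w :=
    IsPullback.of_right (by rw [pullback.lift_fst]; exact h1) (pullback.lift_snd _ _ _)
      (IsPullback.of_hasPullback p g)
  haveI : Smooth πQ := MorphismProperty.of_isPullback hqP ‹Smooth π›
  haveI : IsLocallyNoetherian Q := LocallyOfFiniteType.isLocallyNoetherian πQ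
  haveI : LocallyConnectedSpace ↥Q :=
    SchPoints.locallyConnectedSpace fun t => SchPoints.exists_noetherian_nhd t
  let σQ : Spec (CommRingCat.of K) ⟶ Q := hqP.lift (w ≫ σ) (𝟙 _) (by
    rw [Category.assoc, hσ, Category.comp_id, Category.id_comp])
  have hσQ : σQ ≫ πQ = 𝟙 _ := hqP.lift_snd _ _ _
  let D : Set ↥Q := connectedComponent (σQ default)
  have himg : β '' D = Set.univ :=
    IsClopen.eq_univ ⟨β.isClosedMap _ isClosed_connectedComponent, β.isOpenMap _ isOpen_connectedComponent⟩
      ⟨_, ⟨_, mem_connectedComponent, rfl⟩⟩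
  obtain ⟨zF, hzF⟩ : z ∈ Set.range (p.fiberι s) := (p.range_fiberι s).ge rfl
  obtain ⟨d₀, hd₀, hd₀'⟩ := himg.ge (Set.mem_univ zF)
  refine ⟨qP d₀, ?_, ?_, ?_, ?_⟩
  · have hmem : d₀ ∈ MoreMor.sectionComponents πQ σQ := by
      have : πQ ⁻¹' {πQ d₀} = Set.univ :=
        Set.eq_univ_of_forall fun q => Subsingleton.elim (α := Spec (CommRingCat.of K)) _ _
      show d₀ ∈ connectedComponentIn (πQ ⁻¹' {πQ d₀}) (σQ (πQ d₀))
      rw [this, connectedComponentIn_univ, Subsingleton.elim (α := Spec (CommRingCat.of K)) (πQ d₀) default]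
      exact hd₀
    rw [SecComp.preimage_sectionComponents π σ hσ πQ qP w hqP σQ hσQ (hqP.lift_fst _ _ _)] at hmem
    exact hmem
  · rw [← Scheme.Hom.comp_apply, pullback.lift_fst, Scheme.Hom.comp_apply, hd₀', hzF]
  · refine ⟨fun {K'} _ y {Z} fst snd hZ => ?_⟩
    let σy : Spec (CommRingCat.of K') ⟶ pullback π y :=
      pullback.lift (y ≫ σ) (𝟙 _) (by rw [Category.assoc, hσ, Category.comp_id, Category.id_comp])
    have hcond : (fst ≫ O.ι) ≫ π = snd ≫ y := (Category.assoc _ _ _).trans hZ.w
    let ζ : Z ⟶ pullback π y := pullback.lift (fst ≫ O.ι) snd hcond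
    have hζ : IsPullback fst ζ O.ι (pullback.fst π y) :=
      IsPullback.of_bot (by rw [pullback.lift_snd]; exact hZ) (pullback.lift_fst _ _ _).symm
        (IsPullback.of_hasPullback π y)
    haveI : IsOpenImmersion ζ := MorphismProperty.of_isPullback hζ (inferInstance : IsOpenImmersion O.ι)
    have hrange : Set.range ζ = connectedComponent (σy default) := by
      have e1 : connectedComponent (σy default) = MoreMor.sectionComponents (pullback.snd π y) σy := by
        ext q
        have : pullback.snd π y ⁻¹' {pullback.snd π y q} = Set.univ :=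
          Set.eq_univ_of_forall fun q' => Subsingleton.elim (α := Spec (CommRingCat.of K')) _ _
        show _ ↔ q ∈ connectedComponentIn (pullback.snd π y ⁻¹' {pullback.snd π y q}) (σy (pullback.snd π y q))
        rw [this, connectedComponentIn_univ,
          Subsingleton.elim (α := Spec (CommRingCat.of K')) (pullback.snd π y q) default]
      rw [e1, SecComp.preimage_sectionComponents π σ hσ (pullback.snd π y) (pullback.fst π y) y
        (IsPullback.of_hasPullback π y) σy (pullback.lift_snd _ _ _) (pullback.lift_fst _ _ _)]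
      ext q
      constructor
      · rintro ⟨t, rfl⟩
        show pullback.fst π y (ζ t) ∈ MoreMor.sectionComponents π σ
        rw [← Scheme.Hom.comp_apply, pullback.lift_fst, Scheme.Hom.comp_apply]
        exact (fst t).2
      · intro hq
        obtain ⟨t, -, ht⟩ := Scheme.exists_preimage_of_isPullback hζ (⟨pullback.fst π y q, hq⟩ : O) q rfl
        exact ⟨t, ht⟩
    have hconn : _root_.IsConnected (Set.range ζ) := hrange ▸ isConnected_connectedComponent
    haveI : PreconnectedSpace ↥Z :=
      ⟨(ζ.isOpenEmbedding.isInducing.isPreconnected_image).1 (Set.image_univ (f := ζ) ▸ hconn.isPreconnected)⟩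
    haveI : Nonempty ↥Z := by
      obtain ⟨_, t, -⟩ := hconn.nonempty
      exact ⟨t⟩
    exact ⟨inferInstance⟩
  · haveI : Surjective (O.ι ≫ pullback.snd p g) := ⟨fun v => by
      have hv : π (σ v) = v := by rw [← Scheme.Hom.comp_apply, hσ]; rfl
      refine ⟨(⟨σ v, ?_⟩ : O), hv⟩
      show σ v ∈ connectedComponentIn (π ⁻¹' {π (σ v)}) (σ (π (σ v)))
      rw [hv]
      exact mem_connectedComponentIn hv⟩
    haveI : Smooth (O.ι ≫ pullback.snd p g) := inferInstanceAs (Smooth (O.ι ≫ π))
    exact isUnivSubmersive_of_universallyOpen _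

/-- Smooth morphisms factor locally. -/
theorem hasFactor {X S : Scheme.{u}} (f : X ⟶ S) [Smooth f] : BCConn.HasFactor f := by
  intro N z
  let NL : Scheme.{u} := N.left
  let hN : NL ⟶ X := N.hom
  haveI : Etale hN := N.prop
  obtain ⟨R, oe, hoe, ⟨z₀, hz₀⟩, -⟩ :=
    Scheme.exists_affine_mem_range_and_range_subset (x := (z : NL)) (U := (⊤ : NL.Opens)) trivial
  let q : Spec R ⟶ S := oe ≫ hN ≫ f
  haveI : Smooth q := inferInstanceAs (Smooth (oe ≫ hN ≫ f))
  let s : S := q z₀
  obtain ⟨zF, hzF⟩ : z₀ ∈ Set.range (q.fiberι s) := (q.range_fiberι s).ge rfl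
  haveI := SecComp.locallyConnectedSpace_fiber q s
  obtain ⟨O', hO', hpre⟩ := (q.fiberι s).isEmbedding.isInducing.isOpen_iff.1
    (isOpen_connectedComponent (x := zF))
  let O : (Spec R).Opens := ⟨O', hO'⟩
  let pU : (O : Scheme.{u}) ⟶ S := O.ι ≫ q
  haveI : Smooth pU := inferInstanceAs (Smooth (O.ι ≫ q))
  haveI : QuasiSeparatedSpace ↥(O : Scheme.{u}) := quasiSeparatedSpace_of_quasiSeparated O.ι
  let zU : (O : Scheme.{u}) := ⟨z₀, by
    have : zF ∈ q.fiberι s ⁻¹' O' := hpre.symm ▸ mem_connectedComponent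
    rw [← hzF]; exact this⟩
  haveI : ConnectedSpace ↥(pU.fiber (pU zU)) := by
    have hset : O.ι '' (pU ⁻¹' {s}) = q.fiberι s '' connectedComponent zF := by
      ext x
      constructor
      · rintro ⟨u, hu, rfl⟩
        obtain ⟨xF, hxF⟩ := (q.range_fiberι s).ge (show O.ι u ∈ q ⁻¹' {s} from hu)
        refine ⟨xF, ?_, hxF⟩
        rw [← hpre]
        show q.fiberι s xF ∈ O'
        rw [hxF]
        exact u.2
      · rintro ⟨xF, hxF, rfl⟩
        rw [← hpre] at hxF
        exact ⟨(⟨_, hxF⟩ : O), (q.range_fiberι s).le ⟨xF, rfl⟩, rfl⟩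
    have hpc : _root_.IsPreconnected (pU ⁻¹' {s}) := O.ι.isOpenEmbedding.isInducing.isPreconnected_image.1
      (hset ▸ isPreconnected_connectedComponent.image _ (q.fiberι s).continuous.continuousOn)
    have hne : ConnectedSpace ↥(pU ⁻¹' {s}) := isConnected_iff_connectedSpace.mp ⟨⟨zU, rfl⟩, hpc⟩
    exact (pU.fiberHomeo s).connectedSpace_iff.2 hne
  obtain ⟨V, P, d, hdP, hd, hgc, hus⟩ := exists_factor_of_connected_fiber pU zU
  haveI : Etale V.hom := V.prop
  let m : (P : Scheme.{u}) ⟶ NL := P.ι ≫ pullback.fst pU V.hom ≫ O.ι ≫ oe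
  haveI : Etale m := inferInstanceAs (Etale (P.ι ≫ pullback.fst pU V.hom ≫ O.ι ≫ oe))
  haveI : Etale (m ≫ hN) := inferInstance
  let N₁ : X.Etale := Scheme.Etale.mk (m ≫ hN)
  refine ⟨N₁, MorphismProperty.Over.homMk m rfl trivial, (⟨d, hdP⟩ : P), V, P.ι ≫ pullback.snd pU V.hom,
    ?_, ?_, hgc, hus⟩
  · show oe (O.ι (pullback.fst pU V.hom d)) = z
    rw [hd]
    exact hz₀
  · show (P.ι ≫ pullback.snd pU V.hom) ≫ V.hom = (m ≫ hN) ≫ f
    simp only [m, Category.assoc, ← pullback.condition]
    rfl

end Groth.Agent.DescSh.SmoothFactor
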