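import Groth.Agent.DescSh.ChainEff
import Groth.Agent.PurTrans.Factor
import Groth.Agent.PurTrans.Transc

/-!
Surjective morphisms to discrete schemes are of universal effective descent for étale sheaves of sets.
-/

set_option autoImplicit false
set_option linter.style.haveILetI false
set_option backward.isDefEq.respectTransparency.types false

universe u

open CategoryTheory CategoryTheory.Limits AlgebraicGeometry Opposite
open Groth.Agent.PurTrans

namespace Groth.Agent.DescSh.DiscreteBase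

theorem hasFactor_comp_openImmersion {M U S : Scheme.{u}} (h : M ⟶ U) (j : U ⟶ S) [IsOpenImmersion j]
    (hh : BCConn.HasFactor h) : BCConn.HasFactor (h ≫ j) := by
  intro N z
  obtain ⟨N₁, m, z₁, V, a, hz, ha, hgc, hus⟩ := hh N z
  let VL : Scheme.{u} := V.left
  let hV : VL ⟶ U := V.hom
  haveI : Etale hV := V.prop
  haveI : Etale (hV ≫ j) := inferInstance
  exact ⟨N₁, m, z₁, Scheme.Etale.mk (hV ≫ j), a, hz,
    (Category.assoc _ _ _).symm.trans ((congrArg (· ≫ j) ha).trans (Category.assoc _ _ _)), hgc, hus⟩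

theorem isLocalRing_of_point {R : CommRingCat.{u}} [Subsingleton ↥(Spec R)] (p : Spec R) : IsLocalRing R := by
  haveI : Nontrivial R := by
    by_contra h
    rw [not_nontrivial_iff_subsingleton] at h
    exact (p : PrimeSpectrum R).isPrime.ne_top (Subsingleton.elim _ _)
  obtain ⟨m, hm⟩ := Ideal.exists_maximal R
  exact IsLocalRing.of_unique_max_ideal ⟨m, hm, fun I hI => congrArg PrimeSpectrum.asIdeal
    (Subsingleton.elim (α := ↥(Spec R)) ⟨I, hI.isPrime⟩ ⟨m, hm.isPrime⟩)⟩

/-- The chains over a point. -/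
theorem exists_chain {X Y X₁ Y₁ : Scheme.{u}} (g : X ⟶ Y) [Surjective g] [DiscreteTopology ↥Y]
    (g₁ : X₁ ⟶ Y₁) (b' : X₁ ⟶ X) (b : Y₁ ⟶ Y) (sq : IsPullback b' g₁ g b) (x₁ : Y₁) :
    ∃ (M W : Scheme.{u}) (h : M ⟶ Y₁) (c : W ⟶ M) (σ : W ⟶ X₁),
      BCConn.HasFactor h ∧ x₁ ∈ Set.range h ∧ Surjective c ∧ IsIntegralHom c ∧ σ ≫ g₁ = c ≫ h := by
  obtain ⟨R, e, he, ⟨p, hp⟩, hsub⟩ := exists_local_chart (b x₁)
  haveI : IsLocalRing R := isLocalRing_of_point p
  haveI : Subsingleton (PrimeSpectrum R) := hsub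
  haveI : Subsingleton ↥(Spec (CommRingCat.of R)) := hsub
  obtain ⟨x, hx⟩ := g.surjective (b x₁)
  let ξ : Spec (X.residueField x) ⟶ X := X.fromSpecResidueField x
  have hr : Set.range (ξ ≫ g) ⊆ Set.range e := by
    rintro _ ⟨o, rfl⟩
    refine ⟨p, ?_⟩
    rw [Scheme.Hom.comp_apply, show ξ o = x from Scheme.fromSpecResidueField_apply _ _, hx, hp]
  let κO : Spec (X.residueField x) ⟶ Spec R := IsOpenImmersion.lift e (ξ ≫ g) hr
  have hκ : κO ≫ e = ξ ≫ g := IsOpenImmersion.lift_fac _ _ _
  obtain ⟨T, ψ, hψ, hψi⟩ := exists_gen_integral (O := R) (K := X.residueField x) (Spec.preimage κO).hom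
  let qG : Spec (CommRingCat.of (Gen R T)) ⟶ Spec (CommRingCat.of R) := qC R (Gen R T)
  let π : Spec (X.residueField x) ⟶ Spec (CommRingCat.of (Gen R T)) := Spec.map (CommRingCat.ofHom ψ)
  have hπ : π ≫ qG = κO := by
    simp only [π, qG, qC, ← Spec.map_comp]
    conv_rhs => rw [← Spec.map_preimage κO]
    exact congrArg Spec.map (CommRingCat.hom_ext hψ)
  haveI : IsIntegralHom π := IsIntegralHom.SpecMap_iff.2 hψi
  haveI : Subsingleton ↥(Spec (CommRingCat.of (Gen R T))) := subsingleton_gen R T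
  haveI : Nonempty ↥(Spec (X.residueField x)) := inferInstanceAs (Nonempty (PrimeSpectrum (X.residueField x)))
  haveI : Nonempty ↥(Spec (CommRingCat.of (Gen R T))) := inferInstanceAs (Nonempty (PrimeSpectrum (Gen R T)))
  haveI : Surjective π := ⟨Function.surjective_to_subsingleton _⟩
  haveI : Surjective qG := ⟨Function.surjective_to_subsingleton _⟩
  let bS : pullback b e ⟶ Spec (CommRingCat.of R) := pullback.snd b e
  let j : pullback b e ⟶ Y₁ := pullback.fst b e
  let W : Scheme.{u} := pullback bS κO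
  let c : W ⟶ pullback bS qG := pullback.lift (pullback.fst bS κO) (pullback.snd bS κO ≫ π)
    (by rw [Category.assoc, hπ]; exact pullback.condition)
  have hc : IsPullback (pullback.snd bS κO) c π (pullback.snd bS qG) := by
    refine IsPullback.of_bot ?_ (pullback.lift_snd _ _ _).symm (IsPullback.of_hasPullback bS qG).flip
    rw [show c ≫ pullback.fst bS qG = _ from pullback.lift_fst _ _ _, hπ]
    exact (IsPullback.of_hasPullback bS κO).flip
  haveI : Surjective c := MorphismProperty.of_isPullback hc ‹Surjective π›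
  haveI : IsIntegralHom c := MorphismProperty.of_isPullback hc ‹IsIntegralHom π›
  let σ : W ⟶ X₁ := sq.lift (pullback.snd bS κO ≫ ξ) (pullback.fst bS κO ≫ j) (by
    rw [Category.assoc, Category.assoc, ← hκ, show j ≫ b = bS ≫ e from pullback.condition,
      pullback.condition_assoc])
  refine ⟨_, W, pullback.fst bS qG ≫ j, c, σ, hasFactor_comp_openImmersion _ _ (PurTrans.hasFactor bS T), ?_,
    inferInstance, inferInstance, ?_⟩
  · obtain ⟨s, hs, -⟩ := Scheme.Pullback.exists_preimage_pullback (f := b) (g := e) x₁ p hp.symm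
    obtain ⟨t, ht⟩ := (pullback.fst bS qG).surjective s
    exact ⟨t, by rw [Scheme.Hom.comp_apply, ht]; exact hs⟩
  · simp only [σ, IsPullback.lift_snd, c, pullback.lift_fst_assoc]

/-- Universal effective descent. -/
theorem isEffective {X Y X₁ Y₁ : Scheme.{u}} (g : X ⟶ Y) [Surjective g] [DiscreteTopology ↥Y]
    (g₁ : X₁ ⟶ Y₁) (b' : X₁ ⟶ X) (b : Y₁ ⟶ Y) (sq : IsPullback b' g₁ g b) (F' : EtDesc.Sh X₁)
    (φ : (EtDesc.pullSh (pullback.fst g₁ g₁)).obj F' ≅ (EtDesc.pullSh (pullback.snd g₁ g₁)).obj F')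
    (hφ : EtDesc.IsCocycle F' φ) : EtDesc.IsEffective g₁ F' φ := by
  haveI : UniversallyOpen g := universallyOpen_of_discrete g
  haveI : UniversallyOpen g₁ := MorphismProperty.of_isPullback sq ‹UniversallyOpen g›
  haveI : Surjective g₁ := MorphismProperty.of_isPullback sq ‹Surjective g›
  exact ChainEff.isEffective_of_chain g₁ (isUnivSubmersive_of_universallyOpen g₁)
    (exists_chain g g₁ b' b sq) F' φ hφ

end Groth.Agent.DescSh.DiscreteBase
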