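import Groth.Agent.DescSh.StalkVia
import Groth.Agent.EtaleSite.SetIntegralBC

/-!
Effective descent of étale sheaves of sets along integral surjective morphisms.
-/

set_option autoImplicit false
set_option linter.style.haveILetI false
set_option backward.isDefEq.respectTransparency.types false

universe u

open CategoryTheory CategoryTheory.Limits AlgebraicGeometry Opposite
open Groth.Agent.EtaleSite

namespace Groth.Agent.DescSh.Eff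

variable {X' X T : Scheme.{u}} (f : X' ⟶ X) (pr₁ pr₂ : T ⟶ X') (w : pr₁ ≫ f = pr₂ ≫ f)

theorem τ_natural {U W : X.Etale} (g : W ⟶ U) :
    τ f pr₁ pr₂ w W ≫ (EtCoh.bc pr₁).map ((EtCoh.bc f).map g) =
      (EtCoh.bc pr₂).map ((EtCoh.bc f).map g) ≫ τ f pr₁ pr₂ w U := by
  refine bc_bc_hom_ext _ _ _ _ ?_
  have a1 := (EtCoh.isPullback_bc_map (pr₁) ((EtCoh.bc f).map g)).w
  have a2 := (EtCoh.isPullback_bc_map (pr₂) ((EtCoh.bc f).map g)).w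
  have b := (EtCoh.isPullback_bc_map f g).w
  change ((τ f pr₁ pr₂ w W).left ≫ ((EtCoh.bc (pr₁)).map ((EtCoh.bc f).map g)).left) ≫ p1U f pr₁ U =
    (((EtCoh.bc (pr₂)).map ((EtCoh.bc f).map g)).left ≫ (τ f pr₁ pr₂ w U).left) ≫ p1U f pr₁ U
  rw [Category.assoc, Category.assoc, τ_p1U]
  have l1 : ((EtCoh.bc (pr₁)).map ((EtCoh.bc f).map g)).left ≫ p1U f pr₁ U =
      p1U f pr₁ W ≫ g.left :=
    ((reassoc_of% a1) (pullback.fst U.hom f)).trans ((congrArg (_ ≫ ·) b).trans (Category.assoc _ _ _).symm)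
  have l2 : ((EtCoh.bc (pr₂)).map ((EtCoh.bc f).map g)).left ≫ p2U f pr₂ U =
      p2U f pr₂ W ≫ g.left :=
    ((reassoc_of% a2) (pullback.fst U.hom f)).trans ((congrArg (_ ≫ ·) b).trans (Category.assoc _ _ _).symm)
  rw [l1, l2, ← Category.assoc, τ_p1U]

theorem τ_τ (U : X.Etale) : τ f pr₂ pr₁ w.symm U ≫ τ f pr₁ pr₂ w U = 𝟙 _ := by
  refine bc_bc_hom_ext _ _ _ _ ?_
  change ((τ f pr₂ pr₁ w.symm U).left ≫ (τ f pr₁ pr₂ w U).left) ≫ p1U f pr₁ U = 𝟙 _ ≫ p1U f pr₁ U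
  rw [Category.assoc, τ_p1U, Category.id_comp]
  exact τ_p1U f pr₂ pr₁ w.symm U

variable {F' : EtDesc.Sh X'} (φ : (EtDesc.pullSh pr₁).obj F' ≅ (EtDesc.pullSh pr₂).obj F')

/-- The first map. -/
noncomputable def mapA : (EtDesc.pushSh f).obj F' ⟶
    (EtDesc.pushSh f).obj ((EtDesc.pushSh pr₂).obj ((EtDesc.pullSh pr₂).obj F')) :=
  ⟨{ app := fun U => TypeCat.ofHom fun s => φ.hom.hom.app (op ((EtCoh.bc pr₂).obj ((EtCoh.bc f).obj U.unop)))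
        (((EtDesc.pullSh pr₁).obj F').obj.map (τ f pr₁ pr₂ w U.unop).op (secUp pr₁ F' s))
     naturality := fun U V k => by
       ext s
       exact (congrArg (fun z => φ.hom.hom.app (op ((EtCoh.bc pr₂).obj ((EtCoh.bc f).obj V.unop)))
         (((EtDesc.pullSh pr₁).obj F').obj.map (τ f pr₁ pr₂ w V.unop).op z)) (secUp_res pr₁ F' _ s)).trans
         (app_res φ.hom (τ f pr₁ pr₂ w U.unop) (τ f pr₁ pr₂ w V.unop)
           ((EtCoh.bc pr₁).map ((EtCoh.bc f).map k.unop)) ((EtCoh.bc pr₂).map ((EtCoh.bc f).map k.unop))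
           (τ_natural f pr₁ pr₂ w k.unop) _ _ rfl) }⟩

theorem mapA_app (U : X.Etale) (s : F'.obj.obj (op ((EtCoh.bc f).obj U))) :
    (mapA f pr₁ pr₂ w φ).hom.app (op U) s =
      φ.hom.hom.app (op ((EtCoh.bc pr₂).obj ((EtCoh.bc f).obj U)))
        (((EtDesc.pullSh pr₁).obj F').obj.map (τ f pr₁ pr₂ w U).op (secUp pr₁ F' s)) := rfl

/-- The second map. -/
noncomputable def mapB : (EtDesc.pushSh f).obj F' ⟶
    (EtDesc.pushSh f).obj ((EtDesc.pushSh pr₂).obj ((EtDesc.pullSh pr₂).obj F')) :=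
  (EtDesc.pushSh f).map ((EtDesc.adjSh pr₂).unit.app F')

theorem mapB_app (U : X.Etale) (s : F'.obj.obj (op ((EtCoh.bc f).obj U))) :
    (mapB f pr₂).hom.app (op U) s = secUp pr₂ F' s := rfl

theorem homEquiv_symm_app {A : EtDesc.Sh X} {B : EtDesc.Sh X'} (ψ : A ⟶ (EtDesc.pushSh f).obj B)
    (U : X.Etale) (s : A.obj.obj (op U)) :
    (((EtDesc.adjSh f).homEquiv A B).symm ψ).hom.app (op ((EtCoh.bc f).obj U)) (secUp f A s) =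
      ψ.hom.app (op U) s :=
  ((homEquiv_app f A B _ U s).symm).trans
    (congrArg (fun k : A ⟶ (EtDesc.pushSh f).obj B => k.hom.app (op U) s) (Equiv.apply_symm_apply _ ψ))

theorem square_app {Y : Scheme.{u}} {A B C N : EtDesc.Sh Y} (c : A ⟶ B) (d : B ⟶ N) (m : A ⟶ C)
    (n : C ⟶ N) {P Q : Y.Etale} (i : Q ⟶ P) (r : P ⟶ Q) (h : i ≫ r = 𝟙 Q) (y : A.obj.obj (op Q))
    (e : d.hom.app (op P) (c.hom.app (op P) (A.obj.map r.op y)) =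
      n.hom.app (op P) (m.hom.app (op P) (A.obj.map r.op y))) :
    (c ≫ d).hom.app (op Q) y = (m ≫ n).hom.app (op Q) y :=
  app_eq_of_app_res_eq (c ≫ d) (m ≫ n) i r h y e

/-- The descended sheaf. -/
noncomputable def sheaf : EtDesc.Sh X := equalizer (mapA f pr₁ pr₂ w φ) (mapB f pr₂)

/-- The inclusion. -/
noncomputable def incl : sheaf f pr₁ pr₂ w φ ⟶ (EtDesc.pushSh f).obj F' := equalizer.ι _ _

instance mono_incl : Mono (incl f pr₁ pr₂ w φ) := inferInstanceAs (Mono (equalizer.ι _ _))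

theorem mapA_incl (U : X.Etale) (s : (sheaf f pr₁ pr₂ w φ).obj.obj (op U)) :
    (mapA f pr₁ pr₂ w φ).hom.app (op U) ((incl f pr₁ pr₂ w φ).hom.app (op U) s) =
      (mapB f pr₂).hom.app (op U) ((incl f pr₁ pr₂ w φ).hom.app (op U) s) :=
  congrArg (fun k => k.hom.app (op U) s) (equalizer.condition (mapA f pr₁ pr₂ w φ) (mapB f pr₂))

theorem exists_incl_eq (U : X.Etale) (x : ((EtDesc.pushSh f).obj F').obj.obj (op U))
    (h : (mapA f pr₁ pr₂ w φ).hom.app (op U) x = (mapB f pr₂).hom.app (op U) x) :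
    ∃ s, (incl f pr₁ pr₂ w φ).hom.app (op U) s = x := by
  let ev := sheafToPresheaf X.smallEtaleTopology (Type (u + 1)) ⋙
    (evaluation X.Etaleᵒᵖ (Type (u + 1))).obj (op U)
  let lim := isLimitForkMapOfIsLimit ev _ (equalizerIsEqualizer (mapA f pr₁ pr₂ w φ) (mapB f pr₂))
  obtain ⟨s, hs, -⟩ := (Types.type_equalizer_iff_unique _ _).1 ⟨lim⟩ x h
  exact ⟨s, hs⟩

/-- The comparison map. -/
noncomputable def desc : (EtDesc.pullSh f).obj (sheaf f pr₁ pr₂ w φ) ⟶ F' :=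
  ((EtDesc.adjSh f).homEquiv _ _).symm (incl f pr₁ pr₂ w φ)

theorem desc_secUp (U : X.Etale) (s : (sheaf f pr₁ pr₂ w φ).obj.obj (op U)) :
    (desc f pr₁ pr₂ w φ).hom.app (op ((EtCoh.bc f).obj U)) (secUp f _ s) =
      (incl f pr₁ pr₂ w φ).hom.app (op U) s :=
  homEquiv_symm_app f (incl f pr₁ pr₂ w φ) U s

theorem hom_ext₂ {N : EtDesc.Sh T} {G : EtDesc.Sh X}
    (a b : (EtDesc.pullSh pr₁).obj ((EtDesc.pullSh f).obj G) ⟶ N)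
    (e : ∀ (U : X.Etale) (s : G.obj.obj (op U)),
      a.hom.app (op ((EtCoh.bc pr₁).obj ((EtCoh.bc f).obj U))) (secUp pr₁ _ (secUp f G s)) =
        b.hom.app (op ((EtCoh.bc pr₁).obj ((EtCoh.bc f).obj U))) (secUp pr₁ _ (secUp f G s))) : a = b := by
  refine ((EtDesc.adjSh pr₁).homEquiv _ _).injective (hom_ext_secUp f _ _ fun U s => ?_)
  exact (homEquiv_app pr₁ _ _ a _ _).trans ((e U s).trans (homEquiv_app pr₁ _ _ b _ _).symm)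

theorem compat_of_agree {G : EtDesc.Sh X} (D : (EtDesc.pullSh f).obj G ⟶ F')
    (ι : G ⟶ (EtDesc.pushSh f).obj F')
    (hD : ∀ (U : X.Etale) (s : G.obj.obj (op U)),
      D.hom.app (op ((EtCoh.bc f).obj U)) (secUp f G s) = ι.hom.app (op U) s)
    (hι : ∀ (U : X.Etale) (s : G.obj.obj (op U)),
      (mapA f pr₁ pr₂ w φ).hom.app (op U) (ι.hom.app (op U) s) =
        (mapB f pr₂).hom.app (op U) (ι.hom.app (op U) s)) :
    (canT f pr₁ pr₂ w G).hom ≫ (EtDesc.pullSh pr₂).map D = (EtDesc.pullSh pr₁).map D ≫ φ.hom := by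
  refine hom_ext₂ f pr₁ _ _ fun U s => ?_
  have hA := agreeT_secUp f pr₁ pr₂ w G s
  unfold AgreeT at hA
  refine square_app _ _ _ _ (τ f pr₂ pr₁ w.symm U) (τ f pr₁ pr₂ w U) (τ_τ f pr₁ pr₂ w U) _ ?_
  refine (congrArg (((EtDesc.pullSh pr₂).map D).hom.app _) hA).trans ?_
  refine (secUp_map pr₂ _ _).trans ((congrArg (secUp pr₂ F') (hD U s)).trans ?_)
  refine (hι U s).symm.trans ((mapA_app f pr₁ pr₂ w φ U _).trans ?_)
  refine congrArg (φ.hom.hom.app _) ?_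
  refine Eq.trans ?_ (NatTrans.naturality_apply ((EtDesc.pullSh pr₁).map D).hom
    (τ f pr₁ pr₂ w U).op _).symm
  exact congrArg _ (((secUp_map pr₁ _ _).trans (congrArg (secUp pr₁ F') (hD U s))).symm)

/-- The descent datum is the canonical one. -/
theorem desc_compat :
    (canT f pr₁ pr₂ w (sheaf f pr₁ pr₂ w φ)).hom ≫ (EtDesc.pullSh pr₂).map (desc f pr₁ pr₂ w φ) =
      (EtDesc.pullSh pr₁).map (desc f pr₁ pr₂ w φ) ≫ φ.hom :=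
  compat_of_agree f pr₁ pr₂ w φ (desc f pr₁ pr₂ w φ) (incl f pr₁ pr₂ w φ)
    (desc_secUp f pr₁ pr₂ w φ) (mapA_incl f pr₁ pr₂ w φ)

/-- The relation defined by the descent datum on stalks over a point of `T`. -/
def Rel {Ω : Type u} [Field Ω] [IsSepClosed Ω] (θ : Spec (CommRingCat.of Ω) ⟶ T)
    (ξ₁ ξ₂ : Spec (CommRingCat.of Ω) ⟶ X') (h₁ : θ ≫ pr₁ = ξ₁) (h₂ : θ ≫ pr₂ = ξ₂)
    (x : (SetStalk.stalkSh ξ₁).obj F') (y : (SetStalk.stalkSh ξ₂).obj F') : Prop :=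
  (SetStalk.stalkSh θ).map φ.hom (pullAt pr₁ θ ξ₁ h₁ F' x) = pullAt pr₂ θ ξ₂ h₂ F' y

variable {Ω : Type u} [Field Ω] [IsSepClosed Ω] {η : Spec (CommRingCat.of Ω) ⟶ X}
  (θ : Spec (CommRingCat.of Ω) ⟶ T) {ξ₁ ξ₂ : Spec (CommRingCat.of Ω) ⟶ X'}
  (h₁ : θ ≫ pr₁ = ξ₁) (h₂ : θ ≫ pr₂ = ξ₂) (e₁ : ξ₁ ≫ f = η) (e₂ : ξ₂ ≫ f = η)

theorem cmpAt_mapA (p : (SetStalk.stalkSh η).obj ((EtDesc.pushSh f).obj F')) :
    SetPush.cmpAt pr₂ θ h₂ _ (SetPush.cmpAt f ξ₂ e₂ _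
        ((SetStalk.stalkSh η).map (mapA f pr₁ pr₂ w φ) p)) =
      (SetStalk.stalkSh θ).map φ.hom (pullAt pr₁ θ ξ₁ h₁ F' (SetPush.cmpAt f ξ₁ e₁ F' p)) := by
  obtain ⟨V, v, s, rfl⟩ := SetStalk.exists_germ_eq η ((EtDesc.pushSh f).obj F') p
  rw [SetStalk.germ_naturality, SetPush.cmpAt_germ, SetPush.cmpAt_germ, mapA_app, SetPush.cmpAt_germ,
    pullAt_germ, SetStalk.germ_naturality]
  have hpt : (Scheme.pointSmallEtale θ).fiber.map (τ f pr₁ pr₂ w V)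
      (bcPt pr₂ θ h₂ ((EtCoh.bc f).obj V) (bcPt f ξ₂ e₂ V v)) =
      bcPt pr₁ θ h₁ ((EtCoh.bc f).obj V) (bcPt f ξ₁ e₁ V v) := by
    refine Over.OverMorphism.ext (pullback.hom_ext (pullback.hom_ext ?_ ?_) ?_)
    · refine (Category.assoc _ _ _).trans ((Category.assoc _ _ _).trans ?_)
      refine (congrArg (_ ≫ ·) (τ_p1U f pr₁ pr₂ w V)).trans ?_
      refine ((Category.assoc _ _ _).symm.trans ((congrArg (· ≫ pullback.fst V.hom f)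
        (pullback.lift_fst _ _ _)).trans (pullback.lift_fst _ _ _))).trans ?_
      exact ((congrArg (· ≫ pullback.fst V.hom f)
        (pullback.lift_fst _ _ _)).trans (pullback.lift_fst _ _ _)).symm
    · refine (Category.assoc _ _ _).trans ((Category.assoc _ _ _).trans ?_)
      refine (congrArg (_ ≫ ·) ((Category.assoc _ _ _).symm.trans
        ((congrArg (· ≫ pullback.snd V.hom f) (τ_fst f pr₁ pr₂ w V)).trans (pullback.lift_snd _ _ _)))).trans ?_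
      refine ((Category.assoc _ _ _).symm.trans
        ((congrArg (· ≫ pr₁) (pullback.lift_snd _ _ _)).trans h₁)).trans ?_
      exact ((congrArg (· ≫ pullback.snd V.hom f)
        (pullback.lift_fst _ _ _)).trans (pullback.lift_snd _ _ _)).symm
    · refine (Category.assoc _ _ _).trans ((congrArg (_ ≫ ·) (pullback.lift_snd _ _ _)).trans ?_)
      exact (pullback.lift_snd _ _ _).trans (pullback.lift_snd _ _ _).symm
  rw [← hpt, ← SetStalk.germ_res]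
  exact congrArg (SetStalk.germ θ _ _ _) (NatTrans.naturality_apply φ.hom.hom _ _)

theorem cmpAt_mapB (p : (SetStalk.stalkSh η).obj ((EtDesc.pushSh f).obj F')) :
    SetPush.cmpAt pr₂ θ h₂ _ (SetPush.cmpAt f ξ₂ e₂ _
        ((SetStalk.stalkSh η).map (mapB f pr₂) p)) =
      pullAt pr₂ θ ξ₂ h₂ F' (SetPush.cmpAt f ξ₂ e₂ F' p) := by
  obtain ⟨V, v, s, rfl⟩ := SetStalk.exists_germ_eq η ((EtDesc.pushSh f).obj F') p
  rw [SetStalk.germ_naturality, SetPush.cmpAt_germ, SetPush.cmpAt_germ, mapB_app, SetPush.cmpAt_germ,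
    pullAt_germ]

include e₁ in
theorem rel_incl (p : (SetStalk.stalkSh η).obj (sheaf f pr₁ pr₂ w φ)) :
    Rel pr₁ pr₂ φ θ ξ₁ ξ₂ h₁ h₂
      (SetPush.cmpAt f ξ₁ e₁ F' ((SetStalk.stalkSh η).map (incl f pr₁ pr₂ w φ) p))
      (SetPush.cmpAt f ξ₂ e₂ F' ((SetStalk.stalkSh η).map (incl f pr₁ pr₂ w φ) p)) := by
  refine ((cmpAt_mapA f pr₁ pr₂ w φ θ h₁ h₂ e₁ e₂ _).symm.trans ?_).trans
    (cmpAt_mapB f pr₂ θ h₂ e₂ _)
  refine congrArg (fun z => SetPush.cmpAt pr₂ θ h₂ _ (SetPush.cmpAt f ξ₂ e₂ _ z)) ?_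
  exact congrArg (fun k => k p) ((((SetStalk.stalkSh η).map_comp _ _).symm).trans
    ((congrArg (SetStalk.stalkSh η).map (equalizer.condition (mapA f pr₁ pr₂ w φ) (mapB f pr₂))).trans
      ((SetStalk.stalkSh η).map_comp _ _)))

theorem stalk_desc (ξ₀ : Spec (CommRingCat.of Ω) ⟶ X') (p : (SetStalk.stalkSh (ξ₀ ≫ f)).obj (sheaf f pr₁ pr₂ w φ)) :
    (SetStalk.stalkSh ξ₀).map (desc f pr₁ pr₂ w φ) (pullAt f ξ₀ _ rfl _ p) =
      SetPush.cmpAt f ξ₀ rfl F' ((SetStalk.stalkSh (ξ₀ ≫ f)).map (incl f pr₁ pr₂ w φ) p) := by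
  rw [← cmpAt_map_homEquiv]
  refine congrArg (fun k => SetPush.cmpAt f ξ₀ rfl F' ((SetStalk.stalkSh (ξ₀ ≫ f)).map k p)) ?_
  exact Equiv.apply_symm_apply _ _

section AlgClosed

variable {f pr₁ pr₂} (hsq : IsPullback pr₁ pr₂ f f) [IsIntegralHom f]
  (htrans : ∀ (L : Type u) [Field L] [IsAlgClosed L] (a b c : Spec (CommRingCat.of L) ⟶ T)
    (ξ ζ ρ : Spec (CommRingCat.of L) ⟶ X') (a₁ : a ≫ pr₁ = ξ) (a₂ : a ≫ pr₂ = ζ) (b₁ : b ≫ pr₁ = ζ)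
    (b₂ : b ≫ pr₂ = ρ) (c₁ : c ≫ pr₁ = ξ) (c₂ : c ≫ pr₂ = ρ)
    (x : (SetStalk.stalkSh ξ).obj F') (y : (SetStalk.stalkSh ζ).obj F') (z : (SetStalk.stalkSh ρ).obj F'),
    Rel pr₁ pr₂ φ a ξ ζ a₁ a₂ x y → Rel pr₁ pr₂ φ b ζ ρ b₁ b₂ y z → Rel pr₁ pr₂ φ c ξ ρ c₁ c₂ x z)
  {L : Type u} [Field L] [IsAlgClosed L] (ξ₀ : Spec (CommRingCat.of L) ⟶ X')

include hsq in
theorem exists_family (q : (SetStalk.stalkSh ξ₀).obj F') :
    ∃ p : (SetStalk.stalkSh (ξ₀ ≫ f)).obj ((EtDesc.pushSh f).obj F'),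
      ∀ (θ : Spec (CommRingCat.of L) ⟶ T) (ξ : Spec (CommRingCat.of L) ⟶ X') (h₁ : θ ≫ pr₁ = ξ₀)
        (h₂ : θ ≫ pr₂ = ξ) (e : ξ ≫ f = ξ₀ ≫ f),
        Rel pr₁ pr₂ φ θ ξ₀ ξ h₁ h₂ q (SetPush.cmpAt f ξ e F' p) := by
  haveI : IsIntegralHom pr₁ := MorphismProperty.of_isPullback hsq.flip ‹_›
  obtain ⟨z, hz⟩ := (SetIntBC.bijective_stalk_baseChange0Sh f f pr₁ pr₂ (η' := ξ₀) hsq.flip F').2
    ((SetStalk.stalkSh ξ₀).map ((EtDesc.adjSh pr₁).homEquiv _ _ φ.hom) q)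
  obtain ⟨p, rfl⟩ := (pullAt_bijective f ξ₀ _ rfl _).2 z
  refine ⟨p, fun θ ξ h₁ h₂ e => ?_⟩
  subst h₂
  have key := SetIntBC.cmpAt_baseChange0Sh f f pr₁ pr₂ hsq.w.symm θ F' h₁ e p
  rw [← pullAt_rfl, hz, cmpAt_map_homEquiv] at key
  exact key

include hsq htrans in
theorem bijective_cmp_incl (w : pr₁ ≫ f = pr₂ ≫ f) :
    Function.Bijective (fun p => SetPush.cmpAt f ξ₀ rfl F'
      ((SetStalk.stalkSh (ξ₀ ≫ f)).map (incl f pr₁ pr₂ w φ) p)) := by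
  haveI : IsIntegralHom pr₂ := MorphismProperty.of_isPullback hsq ‹_›
  constructor
  · intro p q hpq
    apply SetStalk.stalk_injective_of_mono (incl f pr₁ pr₂ w φ) (ξ₀ ≫ f)
    refine SetPush.eq_of_cmpAt f (ξ₀ ≫ f) F' _ _ fun ξ hξ => ?_
    let θ := hsq.lift ξ₀ ξ hξ.symm
    have hp := rel_incl f pr₁ pr₂ w φ θ (hsq.lift_fst _ _ _) (hsq.lift_snd _ _ _) rfl hξ p
    have hq := rel_incl f pr₁ pr₂ w φ θ (hsq.lift_fst _ _ _) (hsq.lift_snd _ _ _) rfl hξ q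
    unfold Rel at hp hq
    simp only at hpq
    rw [hpq, hq] at hp
    exact ((pullAt_bijective pr₂ θ ξ (hsq.lift_snd _ _ _) F').1 hp).symm
  · intro q
    obtain ⟨p, hp⟩ := exists_family φ hsq ξ₀ q
    have hab : (SetStalk.stalkSh (ξ₀ ≫ f)).map (mapA f pr₁ pr₂ w φ) p =
        (SetStalk.stalkSh (ξ₀ ≫ f)).map (mapB f pr₂) p := by
      refine SetPush.eq_of_cmpAt f (ξ₀ ≫ f) _ _ _ fun ξ hξ => ?_
      refine SetPush.eq_of_cmpAt pr₂ ξ _ _ _ fun θ hθ => ?_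
      have h₁ : (θ ≫ pr₁) ≫ f = ξ₀ ≫ f := by rw [Category.assoc, w, ← Category.assoc, hθ, hξ]
      rw [cmpAt_mapA f pr₁ pr₂ w φ θ (ξ₁ := θ ≫ pr₁) rfl hθ h₁ hξ, cmpAt_mapB]
      let a := hsq.lift ξ₀ (θ ≫ pr₁) h₁.symm
      let c := hsq.lift ξ₀ ξ hξ.symm
      have ra := hp a (θ ≫ pr₁) (hsq.lift_fst _ _ _) (hsq.lift_snd _ _ _) h₁
      have rc := hp c ξ (hsq.lift_fst _ _ _) (hsq.lift_snd _ _ _) hξ
      obtain ⟨z, hz⟩ := (pullAt_bijective pr₂ θ ξ hθ F').2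
        ((SetStalk.stalkSh θ).map φ.hom (pullAt pr₁ θ _ rfl F' (SetPush.cmpAt f (θ ≫ pr₁) h₁ F' p)))
      have rz := htrans L a θ c _ _ _ (hsq.lift_fst _ _ _) (hsq.lift_snd _ _ _) rfl hθ
        (hsq.lift_fst _ _ _) (hsq.lift_snd _ _ _) q _ z ra hz.symm
      unfold Rel at rz rc
      rw [rc] at rz
      rw [(pullAt_bijective pr₂ c ξ (hsq.lift_snd _ _ _) F').1 rz]
      exact hz.symm
    obtain ⟨V, v, s, rfl⟩ := SetStalk.exists_germ_eq _ _ p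
    rw [SetStalk.germ_naturality, SetStalk.germ_naturality, SetStalk.germ_eq_iff] at hab
    obtain ⟨V', k, v', hv', hk⟩ := hab
    rw [← NatTrans.naturality_apply, ← NatTrans.naturality_apply] at hk
    obtain ⟨s', hs'⟩ := exists_incl_eq f pr₁ pr₂ w φ V' _ hk
    refine ⟨SetStalk.germ _ _ V' v' s', ?_⟩
    let a := hsq.lift ξ₀ ξ₀ rfl
    have hd := hp a ξ₀ (hsq.lift_fst _ _ _) (hsq.lift_snd _ _ _) rfl
    have e : (SetStalk.stalkSh (ξ₀ ≫ f)).map (incl f pr₁ pr₂ w φ) (SetStalk.germ _ _ V' v' s') =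
        SetStalk.germ (ξ₀ ≫ f) _ V v s := by
      rw [SetStalk.germ_naturality, hs', SetStalk.germ_res, hv']
    simp only
    rw [e]
    -- reflexivity of the relation
    have rr := htrans L a a a _ _ _ (hsq.lift_fst _ _ _) (hsq.lift_snd _ _ _) (hsq.lift_fst _ _ _)
      (hsq.lift_snd _ _ _) (hsq.lift_fst _ _ _) (hsq.lift_snd _ _ _) q
      (SetPush.cmpAt f ξ₀ rfl F' (SetStalk.germ (ξ₀ ≫ f) _ V v s))
    obtain ⟨z, hz⟩ := (pullAt_bijective pr₂ a ξ₀ (hsq.lift_snd _ _ _) F').2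
      ((SetStalk.stalkSh a).map φ.hom (pullAt pr₁ a ξ₀ (hsq.lift_fst _ _ _) F'
        (SetPush.cmpAt f ξ₀ rfl F' (SetStalk.germ (ξ₀ ≫ f) _ V v s))))
    have r2 := rr z hd hz.symm
    unfold Rel at hd r2
    rw [hd] at r2
    obtain rfl := (pullAt_bijective pr₂ a ξ₀ (hsq.lift_snd _ _ _) F').1 r2
    have hinj : Function.Injective ((SetStalk.stalkSh a).map φ.hom) :=
      ((SetStalk.stalkSh a).mapIso φ).toEquiv.injective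
    exact (pullAt_bijective pr₁ a ξ₀ (hsq.lift_fst _ _ _) F').1 (hinj (hz.symm.trans hd.symm))

include hsq htrans in
theorem bijective_stalk_desc (w : pr₁ ≫ f = pr₂ ≫ f) :
    Function.Bijective ((SetStalk.stalkSh ξ₀).map (desc f pr₁ pr₂ w φ)) := by
  rw [← Function.Bijective.of_comp_iff _ (pullAt_bijective f ξ₀ _ rfl _)]
  have : ((SetStalk.stalkSh ξ₀).map (desc f pr₁ pr₂ w φ)) ∘ pullAt f ξ₀ _ rfl (sheaf f pr₁ pr₂ w φ) =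
      fun p => SetPush.cmpAt f ξ₀ rfl F' ((SetStalk.stalkSh (ξ₀ ≫ f)).map (incl f pr₁ pr₂ w φ) p) :=
    funext fun p => stalk_desc f pr₁ pr₂ w φ ξ₀ p
  rw [this]
  exact bijective_cmp_incl φ hsq htrans ξ₀ w

end AlgClosed

section Main

variable {f pr₁ pr₂} (hsq : IsPullback pr₁ pr₂ f f) [IsIntegralHom f]
  (htrans : ∀ (L : Type u) [Field L] [IsAlgClosed L] (a b c : Spec (CommRingCat.of L) ⟶ T)
    (ξ ζ ρ : Spec (CommRingCat.of L) ⟶ X') (a₁ : a ≫ pr₁ = ξ) (a₂ : a ≫ pr₂ = ζ) (b₁ : b ≫ pr₁ = ζ)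
    (b₂ : b ≫ pr₂ = ρ) (c₁ : c ≫ pr₁ = ξ) (c₂ : c ≫ pr₂ = ρ)
    (x : (SetStalk.stalkSh ξ).obj F') (y : (SetStalk.stalkSh ζ).obj F') (z : (SetStalk.stalkSh ρ).obj F'),
    Rel pr₁ pr₂ φ a ξ ζ a₁ a₂ x y → Rel pr₁ pr₂ φ b ζ ρ b₁ b₂ y z → Rel pr₁ pr₂ φ c ξ ρ c₁ c₂ x z)

include hsq htrans in
theorem exists_desc (w : pr₁ ≫ f = pr₂ ≫ f) :
    ∃ (F : EtDesc.Sh X) (ψ : (EtDesc.pullSh f).obj F ≅ F'),
      (canT f pr₁ pr₂ w F).hom ≫ (EtDesc.pullSh pr₂).map ψ.hom =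
        (EtDesc.pullSh pr₁).map ψ.hom ≫ φ.hom := by
  have : IsIso (desc f pr₁ pr₂ w φ) := by
    refine SetStalk.isIso_of_stalk _ fun Ω _ _ η₀ => ?_
    let K := AlgebraicClosure Ω
    let σ : Spec (CommRingCat.of K) ⟶ Spec (CommRingCat.of Ω) :=
      Spec.map (CommRingCat.ofHom (algebraMap Ω K))
    rw [← ConcreteCategory.isIso_iff_bijective]
    refine (NatIso.isIso_map_iff (sheafFiberIsoOfPointIso (A := Type (u + 1)) (pointExtIso σ η₀)) _).2 ?_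
    exact (ConcreteCategory.isIso_iff_bijective _).2
      (bijective_stalk_desc φ hsq htrans (σ ≫ η₀) w)
  exact ⟨_, asIso (desc f pr₁ pr₂ w φ), desc_compat f pr₁ pr₂ w φ⟩

end Main

end Groth.Agent.DescSh.Eff

namespace Groth.Agent.DescSh.Eff

theorem stalk_trans {Y : Scheme.{u}} {Ω : Type u} [Field Ω] [IsSepClosed Ω] {t : Spec (CommRingCat.of Ω) ⟶ Y}
    {A B C : EtDesc.Sh Y} (a : A ⟶ B) (b : B ⟶ C) (x : (SetStalk.stalkSh t).obj A) :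
    (SetStalk.stalkSh t).map (a ≫ b) x = (SetStalk.stalkSh t).map b ((SetStalk.stalkSh t).map a x) :=
  congrArg (fun k => k x) ((SetStalk.stalkSh t).map_comp a b)

theorem stalk_symm {Y : Scheme.{u}} {Ω : Type u} [Field Ω] [IsSepClosed Ω] {t : Spec (CommRingCat.of Ω) ⟶ Y}
    {A B : EtDesc.Sh Y} (i : A ≅ B) (x : (SetStalk.stalkSh t).obj A) (y : (SetStalk.stalkSh t).obj B)
    (h : (SetStalk.stalkSh t).map i.hom x = y) : (SetStalk.stalkSh t).map i.inv y = x := by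
  subst h
  exact ((SetStalk.stalkSh t).mapIso i).toEquiv.symm_apply_apply x

theorem rel_pullIsoVia {X' T R : Scheme.{u}} (pr₁ pr₂ : T ⟶ X') {F' : EtDesc.Sh X'}
    (φ : (EtDesc.pullSh pr₁).obj F' ≅ (EtDesc.pullSh pr₂).obj F') (g : R ⟶ T) (b₁ b₂ : R ⟶ X')
    (w₁ : g ≫ pr₁ = b₁) (w₂ : g ≫ pr₂ = b₂) {Ω : Type u} [Field Ω] [IsSepClosed Ω]
    (t : Spec (CommRingCat.of Ω) ⟶ R) (θ : Spec (CommRingCat.of Ω) ⟶ T) (hθ : t ≫ g = θ)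
    (ξ ζ : Spec (CommRingCat.of Ω) ⟶ X') (h₁ : θ ≫ pr₁ = ξ) (h₂ : θ ≫ pr₂ = ζ)
    (k₁ : t ≫ b₁ = ξ) (k₂ : t ≫ b₂ = ζ)
    (x : (SetStalk.stalkSh ξ).obj F') (y : (SetStalk.stalkSh ζ).obj F') :
    (SetStalk.stalkSh t).map ((EtDesc.pullVia g pr₁ b₁ w₁ F').inv ≫ (EtDesc.pullSh g).map φ.hom ≫
        (EtDesc.pullVia g pr₂ b₂ w₂ F').hom) (pullAt b₁ t ξ k₁ F' x) = pullAt b₂ t ζ k₂ F' y ↔
      Rel pr₁ pr₂ φ θ ξ ζ h₁ h₂ x y := by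
  rw [stalk_trans, stalk_trans, stalk_symm (EtDesc.pullVia g pr₁ b₁ w₁ F') _ _
    (pullAt_pullVia g pr₁ b₁ w₁ F' t θ hθ ξ h₁ k₁ x), pullAt_map,
    ← pullAt_pullVia g pr₂ b₂ w₂ F' t θ hθ ζ h₂ k₂ y]
  unfold Rel
  constructor
  · intro h
    exact (pullAt_bijective g t θ hθ _).1
      (((SetStalk.stalkSh t).mapIso (EtDesc.pullVia g pr₂ b₂ w₂ F')).toEquiv.injective h)
  · intro h
    rw [h]

theorem rel_trans_of_cocycle {X' T R : Scheme.{u}} (pr₁ pr₂ : T ⟶ X') {F' : EtDesc.Sh X'}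
    (φ : (EtDesc.pullSh pr₁).obj F' ≅ (EtDesc.pullSh pr₂).obj F') (g₁₂ g₂₃ g₁₃ : R ⟶ T)
    (b₁ b₂ b₃ : R ⟶ X') (u₁ : g₁₂ ≫ pr₁ = b₁) (u₂ : g₁₂ ≫ pr₂ = b₂) (v₂ : g₂₃ ≫ pr₁ = b₂)
    (v₃ : g₂₃ ≫ pr₂ = b₃) (z₁ : g₁₃ ≫ pr₁ = b₁) (z₃ : g₁₃ ≫ pr₂ = b₃)
    (hφ : ((EtDesc.pullVia g₁₂ pr₁ b₁ u₁ F').inv ≫ (EtDesc.pullSh g₁₂).map φ.hom ≫
        (EtDesc.pullVia g₁₂ pr₂ b₂ u₂ F').hom) ≫
      ((EtDesc.pullVia g₂₃ pr₁ b₂ v₂ F').inv ≫ (EtDesc.pullSh g₂₃).map φ.hom ≫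
        (EtDesc.pullVia g₂₃ pr₂ b₃ v₃ F').hom) =
      ((EtDesc.pullVia g₁₃ pr₁ b₁ z₁ F').inv ≫ (EtDesc.pullSh g₁₃).map φ.hom ≫
        (EtDesc.pullVia g₁₃ pr₂ b₃ z₃ F').hom))
    {Ω : Type u} [Field Ω] [IsSepClosed Ω] (t : Spec (CommRingCat.of Ω) ⟶ R)
    (a b c : Spec (CommRingCat.of Ω) ⟶ T) (ta : t ≫ g₁₂ = a) (tb : t ≫ g₂₃ = b) (tc : t ≫ g₁₃ = c)
    (ξ ζ ρ : Spec (CommRingCat.of Ω) ⟶ X') (a₁ : a ≫ pr₁ = ξ) (a₂ : a ≫ pr₂ = ζ) (b₁' : b ≫ pr₁ = ζ)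
    (b₂' : b ≫ pr₂ = ρ) (c₁ : c ≫ pr₁ = ξ) (c₂ : c ≫ pr₂ = ρ)
    (x : (SetStalk.stalkSh ξ).obj F') (y : (SetStalk.stalkSh ζ).obj F') (z : (SetStalk.stalkSh ρ).obj F')
    (hxy : Rel pr₁ pr₂ φ a ξ ζ a₁ a₂ x y) (hyz : Rel pr₁ pr₂ φ b ζ ρ b₁' b₂' y z) :
    Rel pr₁ pr₂ φ c ξ ρ c₁ c₂ x z := by
  have k₁ : t ≫ b₁ = ξ := by rw [← u₁, ← Category.assoc, ta, a₁]
  have k₂ : t ≫ b₂ = ζ := by rw [← u₂, ← Category.assoc, ta, a₂]
  have k₃ : t ≫ b₃ = ρ := by rw [← v₃, ← Category.assoc, tb, b₂']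
  have h12 := (rel_pullIsoVia pr₁ pr₂ φ g₁₂ b₁ b₂ u₁ u₂ t a ta ξ ζ a₁ a₂ k₁ k₂ x y).2 hxy
  have h23 := (rel_pullIsoVia pr₁ pr₂ φ g₂₃ b₂ b₃ v₂ v₃ t b tb ζ ρ b₁' b₂' k₂ k₃ y z).2 hyz
  refine (rel_pullIsoVia pr₁ pr₂ φ g₁₃ b₁ b₃ z₁ z₃ t c tc ξ ρ c₁ c₂ k₁ k₃ x z).1 ?_
  rw [← hφ, stalk_trans, h12, h23]

end Groth.Agent.DescSh.Eff
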