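import Groth.Agent.DescSh.Core

/-!
Descent of global sections.
-/

set_option autoImplicit false
set_option linter.style.haveILetI false

universe u

open CategoryTheory CategoryTheory.Limits AlgebraicGeometry Opposite
open Groth.Agent.EtaleSite

namespace Groth.Agent.DescSh

variable {X' X : Scheme.{u}} (f : X' ⟶ X)

theorem app_top {Y : Scheme.{u}} {F F' : EtDesc.Sh Y} (a : F ⟶ F') {P Q Q' K K' T₀ : Y.Etale}
    (e : P ⟶ T₀) (i₁ : T₀ ⟶ Q) (i₂ : T₀ ⟶ K) (k : P ⟶ Q') (m₁ : Q' ⟶ Q) (m₂ : P ⟶ K')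
    (n : K' ⟶ K) (h₁ : e ≫ i₁ = k ≫ m₁) (h₂ : e ≫ i₂ = m₂ ≫ n)
    (y : F.obj.obj (op Q)) (z : F'.obj.obj (op K))
    (h : a.hom.app (op T₀) (F.obj.map i₁.op y) = F'.obj.map i₂.op z) :
    a.hom.app (op P) (F.obj.map k.op (F.obj.map m₁.op y)) = F'.obj.map m₂.op (F'.obj.map n.op z) := by
  rw [← ConcreteCategory.comp_apply (F.obj.map m₁.op), ← Functor.map_comp, ← op_comp, ← h₁,
    ← ConcreteCategory.comp_apply (F'.obj.map n.op), ← Functor.map_comp, ← op_comp, ← h₂,
    op_comp, op_comp, Functor.map_comp, Functor.map_comp, ConcreteCategory.comp_apply,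
    ConcreteCategory.comp_apply, ← h]
  exact NatTrans.naturality_apply a.hom e.op _

theorem map_map_self {Y : Scheme.{u}} (F : EtDesc.Sh Y) {P Q : Y.Etale} (i : P ⟶ Q) (j : Q ⟶ P)
    (hij : i ≫ j = 𝟙 P) (y : F.obj.obj (op P)) : F.obj.map i.op (F.obj.map j.op y) = y := by
  rw [← ConcreteCategory.comp_apply, ← Functor.map_comp, ← op_comp, hij, op_id,
    CategoryTheory.Functor.map_id]
  rfl

section Pair

variable {T : Scheme.{u}} (pr₁ pr₂ : T ⟶ X') (w : pr₁ ≫ f = pr₂ ≫ f)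

theorem agreeT_of_top (G : EtDesc.Sh X) (s' : EtDesc.sect ((EtDesc.pullSh f).obj G) (EtCoh.top X'))
    (h : (canT f pr₁ pr₂ w G).hom.hom.app (op (EtCoh.top T)) (EtDesc.secPull pr₁ _ s') =
      EtDesc.secPull pr₂ _ s') :
    AgreeT f pr₁ pr₂ w G (EtCoh.top X) (((EtDesc.pullSh f).obj G).obj.map (EtCore.bcTopIso f).hom.op s') := by
  let e : (EtCoh.bc pr₂).obj ((EtCoh.bc f).obj (EtCoh.top X)) ⟶ EtCoh.top T :=
    (EtCore.topIsTerminal T).from _
  unfold AgreeT
  rw [secUp_res pr₁, secUp_res pr₂]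
  have key := app_top (canT f pr₁ pr₂ w G).hom e
    (EtCore.bcTopIso pr₁).inv (EtCore.bcTopIso pr₂).inv
    (τ f pr₁ pr₂ w (EtCoh.top X))
    ((EtCoh.bc pr₁).map (EtCore.bcTopIso f).hom) (𝟙 _)
    ((EtCoh.bc pr₂).map (EtCore.bcTopIso f).hom)
    ((EtCore.bcTopIsTerminal pr₁).hom_ext _ _) ((EtCore.bcTopIsTerminal pr₂).hom_ext _ _) _ _ h
  refine key.trans ?_
  rw [op_id, CategoryTheory.Functor.map_id]
  rfl

theorem top_of_agreeT (G : EtDesc.Sh X) (s : EtDesc.sect G (EtCoh.top X)) :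
    (canT f pr₁ pr₂ w G).hom.hom.app (op (EtCoh.top T))
        (EtDesc.secPull pr₁ _ (EtDesc.secPull f G s)) =
      EtDesc.secPull pr₂ _ (EtDesc.secPull f G s) := by
  have h := agreeT_secUp f pr₁ pr₂ w G s
  unfold AgreeT at h
  let e : EtCoh.top T ⟶ (EtCoh.bc pr₂).obj ((EtCoh.bc f).obj (EtCoh.top X)) :=
    ((EtCore.bcTopIsTerminal f).isTerminalObj (EtCoh.bc pr₂) _).from _
  have h' : (canT f pr₁ pr₂ w G).hom.hom.app (op _)
      (((EtDesc.pullSh pr₁).obj ((EtDesc.pullSh f).obj G)).obj.map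
        (τ f pr₁ pr₂ w (EtCoh.top X)).op (secUp pr₁ _ (secUp f G s))) =
      ((EtDesc.pullSh pr₂).obj ((EtDesc.pullSh f).obj G)).obj.map
        (𝟙 ((EtCoh.bc pr₂).obj ((EtCoh.bc f).obj (EtCoh.top X)))).op
        (secUp pr₂ _ (secUp f G s)) := by
    rw [op_id, CategoryTheory.Functor.map_id]
    exact h
  have key := app_top (canT f pr₁ pr₂ w G).hom e
    (τ f pr₁ pr₂ w (EtCoh.top X)) (𝟙 _)
    (EtCore.bcTopIso pr₁).inv
    ((EtCoh.bc pr₁).map (EtCore.bcTopIso f).inv)
    (EtCore.bcTopIso pr₂).inv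
    ((EtCoh.bc pr₂).map (EtCore.bcTopIso f).inv)
    (((EtCore.bcTopIsTerminal f).isTerminalObj (EtCoh.bc pr₁) _).hom_ext _ _)
    (((EtCore.bcTopIsTerminal f).isTerminalObj (EtCoh.bc pr₂) _).hom_ext _ _) _ _ h'
  rw [← secUp_res pr₁, ← secUp_res pr₂] at key
  exact key

end Pair

/-- Transport an equality of values of a morphism along equalities of its data. The kernel cannot be
trusted with unfolding the data, so this is done by substitution. -/
theorem app_transport {Y : Scheme.{u}} {F F' : EtDesc.Sh Y} {i j : F ≅ F'} (hij : i = j) {P P' : Y.Etale}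
    (e : P = P') (a : F.obj.obj (op P)) (a' : F.obj.obj (op P')) (ha : HEq a a') (b : F'.obj.obj (op P))
    (b' : F'.obj.obj (op P')) (hb : HEq b b') :
    i.hom.hom.app (op P) a = b ↔ j.hom.hom.app (op P') a' = b' := by
  subst hij e
  rw [eq_of_heq ha, eq_of_heq hb]

theorem canIso_app_iff (G : EtDesc.Sh X) (s' : EtDesc.sect ((EtDesc.pullSh f).obj G) (EtCoh.top X')) :
    (EtDesc.canIso f G).hom.hom.app (op (EtCoh.top (EtDesc.X2 f)))
        (EtDesc.secPull (pullback.fst f f) _ s') = EtDesc.secPull (pullback.snd f f) _ s' ↔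
    (canT f (pullback.fst f f) (pullback.snd f f) pullback.condition G).hom.hom.app
        (op (EtCoh.top (pullback f f))) (EtDesc.secPull (pullback.fst f f) _ s') =
      EtDesc.secPull (pullback.snd f f) _ s' :=
  app_transport (Y := pullback f f) (canIso_eq f G) (P := EtCoh.top (EtDesc.X2 f))
    (P' := EtCoh.top (pullback f f)) rfl _ _ HEq.rfl _ _ HEq.rfl

theorem agree_of_top (G : EtDesc.Sh X) (s' : EtDesc.sect ((EtDesc.pullSh f).obj G) (EtCoh.top X'))
    (h : (EtDesc.canIso f G).hom.hom.app (op (EtCoh.top (EtDesc.X2 f)))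
        (EtDesc.secPull (pullback.fst f f) _ s') = EtDesc.secPull (pullback.snd f f) _ s') :
    Agree f G (EtCoh.top X) (((EtDesc.pullSh f).obj G).obj.map (EtCore.bcTopIso f).hom.op s') :=
  agreeT_of_top f _ _ pullback.condition G s' ((canIso_app_iff f G s').1 h)

theorem top_of_agree (G : EtDesc.Sh X) (s : EtDesc.sect G (EtCoh.top X)) :
    (EtDesc.canIso f G).hom.hom.app (op (EtCoh.top (EtDesc.X2 f)))
        (EtDesc.secPull (pullback.fst f f) _ (EtDesc.secPull f G s)) =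
      EtDesc.secPull (pullback.snd f f) _ (EtDesc.secPull f G s) :=
  (canIso_app_iff f G _).2 (top_of_agreeT f _ _ pullback.condition G s)

theorem injective_secPull [Surjective f] (G : EtDesc.Sh X) : Function.Injective (EtDesc.secPull f G) := by
  intro s t h
  apply secUp_injective f G
  have h2 := congrArg (((EtDesc.pullSh f).obj G).obj.map (EtCore.bcTopIso f).hom.op) h
  exact ((map_map_self _ _ _ (EtCore.bcTopIso f).hom_inv_id _).symm.trans h2).trans
    (map_map_self _ _ _ (EtCore.bcTopIso f).hom_inv_id _)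

theorem range_secPull (hf : EtDesc.IsUnivSubmersive f) (G : EtDesc.Sh X)
    (s' : EtDesc.sect ((EtDesc.pullSh f).obj G) (EtCoh.top X')) :
    s' ∈ Set.range (EtDesc.secPull f G) ↔
      (EtDesc.canIso f G).hom.hom.app (op (EtCoh.top (EtDesc.X2 f)))
        (EtDesc.secPull (pullback.fst f f) _ s') = EtDesc.secPull (pullback.snd f f) _ s' := by
  constructor
  · rintro ⟨s, rfl⟩
    exact top_of_agree f G s
  · intro h
    obtain ⟨s, hs⟩ := exists_secUp f hf G (agree_of_top f G s' h)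
    exact ⟨s, (congrArg (((EtDesc.pullSh f).obj G).obj.map (EtCore.bcTopIso f).inv.op) hs).trans
      (map_map_self _ _ _ (EtCore.bcTopIso f).inv_hom_id _)⟩

end Groth.Agent.DescSh
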