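import Groth.Agent.DescSh.StalkVia
import Groth.Agent.DescSh.Top
import Groth.Agent.EtaleSite.OpenSh

/-!
Global sections of étale sheaves of sets through their germs at algebraically closed points.
-/

set_option autoImplicit false
set_option linter.style.haveILetI false
set_option backward.isDefEq.respectTransparency.types false

universe u

open CategoryTheory CategoryTheory.Limits AlgebraicGeometry Opposite
open Groth.Agent.EtaleSite

namespace Groth.Agent.DescSh

variable {Y : Scheme.{u}}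

/-- The only lift of a point to the terminal étale scheme. -/
noncomputable def topPt {Ω : Type u} [Field Ω] [IsSepClosed Ω] (y : Spec (CommRingCat.of Ω) ⟶ Y) :
    (Scheme.pointSmallEtale y).fiber.obj (EtCoh.top Y) :=
  (Over.homMk y (Category.comp_id y) : Over.mk y ⟶ (Scheme.Etale.forget Y).obj (EtCoh.top Y))

theorem eq_topPt {Ω : Type u} [Field Ω] [IsSepClosed Ω] (y : Spec (CommRingCat.of Ω) ⟶ Y)
    (x : (Scheme.pointSmallEtale y).fiber.obj (EtCoh.top Y)) : x = topPt y :=
  Over.OverMorphism.ext ((Category.comp_id _).symm.trans (Over.w x))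

/-- The germ of a global section. -/
noncomputable def topGerm {G : EtDesc.Sh Y} (t : EtDesc.sect G (EtCoh.top Y)) {Ω : Type u} [Field Ω]
    [IsSepClosed Ω] (y : Spec (CommRingCat.of Ω) ⟶ Y) : (SetStalk.stalkSh y).obj G :=
  SetStalk.germ y G (EtCoh.top Y) (topPt y) t

theorem exists_algPoint {U : Y.Etale} (u : U.left) :
    ∃ (L : Type u) (_ : Field L) (_ : IsAlgClosed L) (ξ : Spec (CommRingCat.of L) ⟶ Y)
      (x : (Scheme.pointSmallEtale ξ).fiber.obj U), x.left (default : Spec (CommRingCat.of L)) = u := by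
  let K := U.left.residueField u
  let r : Spec (CommRingCat.of (AlgebraicClosure K)) ⟶ U.left :=
    Spec.map (CommRingCat.ofHom (algebraMap K (AlgebraicClosure K))) ≫ U.left.fromSpecResidueField u
  exact ⟨AlgebraicClosure K, inferInstance, inferInstance, r ≫ U.hom,
    (Over.homMk r rfl : Over.mk (r ≫ U.hom) ⟶ (Scheme.Etale.forget Y).obj U),
    Scheme.fromSpecResidueField_apply u _⟩

/-- Sections are determined by their germs at algebraically closed points. -/
theorem sect_ext_alg (F : EtDesc.Sh Y) {U : Y.Etale} (s t : F.obj.obj (op U))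
    (h : ∀ (L : Type u) [Field L] [IsAlgClosed L] (ξ : Spec (CommRingCat.of L) ⟶ Y)
      (x : (Scheme.pointSmallEtale ξ).fiber.obj U),
        SetStalk.germ ξ F U x s = SetStalk.germ ξ F U x t) : s = t := by
  refine eq_of_eqAt F s t fun v => ?_
  obtain ⟨L, i₁, i₂, ξ, x, hx⟩ := exists_algPoint v
  exact (eqAt_iff_germ F s t x hx).2 (h L ξ x)

theorem topGerm_app {F G : EtDesc.Sh Y} (a : F ⟶ G) (t : EtDesc.sect F (EtCoh.top Y)) {Ω : Type u}
    [Field Ω] [IsSepClosed Ω] (y : Spec (CommRingCat.of Ω) ⟶ Y) :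
    (SetStalk.stalkSh y).map a (topGerm t y) = topGerm (a.hom.app (op (EtCoh.top Y)) t) y :=
  SetStalk.germ_naturality y a _ _ t

variable {Z : Scheme.{u}} (f : Z ⟶ Y)

theorem topGerm_secPull (G : EtDesc.Sh Y) (t : EtDesc.sect G (EtCoh.top Y)) {Ω : Type u} [Field Ω]
    [IsSepClosed Ω] (θ : Spec (CommRingCat.of Ω) ⟶ Z) (ξ : Spec (CommRingCat.of Ω) ⟶ Y) (e : θ ≫ f = ξ) :
    topGerm (EtDesc.secPull f G t) θ = pullAt f θ ξ e G (topGerm t ξ) := by
  unfold topGerm
  rw [secPull_eq, SetStalk.germ_res, pullAt_germ]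
  refine congrArg (fun z => SetStalk.germ θ _ _ z (secUp f G t)) (Over.OverMorphism.ext ?_)
  refine pullback.hom_ext ?_ ((Over.w _).trans (Over.w _).symm)
  refine (Category.assoc _ _ _).trans (Eq.trans ?_ (pullback.lift_fst _ _ _).symm)
  have c : pullback.fst (EtCoh.top Y).hom f ≫ 𝟙 Y = pullback.snd (EtCoh.top Y).hom f ≫ f := pullback.condition
  have c' : pullback.fst (EtCoh.top Y).hom f = pullback.snd (EtCoh.top Y).hom f ≫ f :=
    (Category.comp_id _).symm.trans c
  exact (congrArg (_ ≫ ·) (congrArg (_ ≫ ·) c')).trans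
    ((congrArg (_ ≫ ·) (Category.assoc _ _ _).symm).trans
      ((Category.assoc _ _ _).symm.trans ((congrArg (· ≫ f) ((congrArg ((topPt θ).left ≫ ·)
        (MorphismProperty.Over.w (EtCore.bcTopIso f).inv)).trans (Category.comp_id _))).trans e)))

theorem stalkMap_comp {X : Scheme.{u}} {Ω : Type u} [Field Ω] [IsSepClosed Ω] (t : Spec (CommRingCat.of Ω) ⟶ X)
    {A B C : EtDesc.Sh X} (a : A ⟶ B) (b : B ⟶ C) (x : (SetStalk.stalkSh t).obj A) :
    (SetStalk.stalkSh t).map (a ≫ b) x = (SetStalk.stalkSh t).map b ((SetStalk.stalkSh t).map a x) :=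
  congrArg (fun k => k x) ((SetStalk.stalkSh t).map_comp a b)

theorem stalk_symm' {X : Scheme.{u}} {Ω : Type u} [Field Ω] [IsSepClosed Ω] {t : Spec (CommRingCat.of Ω) ⟶ X}
    {A B : EtDesc.Sh X} (i : A ≅ B) {x : (SetStalk.stalkSh t).obj A} {y : (SetStalk.stalkSh t).obj B}
    (h : (SetStalk.stalkSh t).map i.hom x = y) : (SetStalk.stalkSh t).map i.inv y = x := by
  subst h
  exact ((SetStalk.stalkSh t).mapIso i).toEquiv.symm_apply_apply x

theorem canT_stalk {X : Scheme.{u}} (a : Y ⟶ X) (pr₁ pr₂ : Z ⟶ Y) (w : pr₁ ≫ a = pr₂ ≫ a)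
    (G : EtDesc.Sh X) {Ω : Type u} [Field Ω] [IsSepClosed Ω] (θ : Spec (CommRingCat.of Ω) ⟶ Z)
    (z₁ z₂ : Spec (CommRingCat.of Ω) ⟶ Y) (h₁ : θ ≫ pr₁ = z₁) (h₂ : θ ≫ pr₂ = z₂)
    (n : Spec (CommRingCat.of Ω) ⟶ X) (e₁ : z₁ ≫ a = n) (e₂ : z₂ ≫ a = n) (x : (SetStalk.stalkSh n).obj G) :
    (SetStalk.stalkSh θ).map (canT a pr₁ pr₂ w G).hom (pullAt pr₁ θ z₁ h₁ _ (pullAt a z₁ n e₁ G x)) =
      pullAt pr₂ θ z₂ h₂ _ (pullAt a z₂ n e₂ G x) := by
  have h₃ : θ ≫ pr₁ ≫ a = n := by rw [← Category.assoc, h₁, e₁]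
  rw [canT_def, Iso.trans_hom]
  refine (stalkMap_comp θ _ _ _).trans ?_
  refine (congrArg ((SetStalk.stalkSh θ).map _)
    (pullAt_pullVia pr₁ a (pr₁ ≫ a) rfl G θ z₁ h₁ n e₁ h₃ x)).trans ?_
  rw [← pullAt_pullVia pr₂ a (pr₁ ≫ a) w.symm G θ z₂ h₂ n e₂ h₃ x]
  exact ((SetStalk.stalkSh θ).mapIso (EtDesc.pullVia pr₂ a (pr₁ ≫ a) w.symm G)).toEquiv.symm_apply_apply _

/-- A global section of an inverse image whose germs at points over the same point correspond comes
from below. -/
theorem exists_secPull_eq (hf : EtDesc.IsUnivSubmersive f) (G : EtDesc.Sh Y)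
    (t : EtDesc.sect ((EtDesc.pullSh f).obj G) (EtCoh.top Z))
    (h : ∀ (L : Type u) [Field L] [IsAlgClosed L] (z₁ z₂ : Spec (CommRingCat.of L) ⟶ Z)
      (n : Spec (CommRingCat.of L) ⟶ Y) (e₁ : z₁ ≫ f = n) (e₂ : z₂ ≫ f = n)
      (x : (SetStalk.stalkSh n).obj G), topGerm t z₁ = pullAt f z₁ n e₁ G x →
        topGerm t z₂ = pullAt f z₂ n e₂ G x) :
    ∃ s, EtDesc.secPull f G s = t := by
  refine (range_secPull f hf G t).2 ((canIso_app_iff f G t).2 ?_)
  refine sect_ext_alg (Y := pullback f f) ((EtDesc.pullSh (pullback.snd f f)).obj ((EtDesc.pullSh f).obj G))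
    _ _ fun L _ _ θ x => ?_
  rw [eq_topPt θ x]
  have e₂ : (θ ≫ pullback.snd f f) ≫ f = (θ ≫ pullback.fst f f) ≫ f := by
    rw [Category.assoc, Category.assoc, pullback.condition]
  obtain ⟨p, hp⟩ := (pullAt_bijective f (θ ≫ pullback.fst f f) _ rfl G).2 (topGerm t (θ ≫ pullback.fst f f))
  refine (topGerm_app _ _ θ).symm.trans ?_
  refine Eq.trans ?_ (topGerm_secPull (pullback.snd f f) ((EtDesc.pullSh f).obj G) t θ _ rfl).symm
  rw [topGerm_secPull (pullback.fst f f) ((EtDesc.pullSh f).obj G) t θ _ rfl, ← hp,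
    h L _ _ _ rfl e₂ p hp.symm]
  exact canT_stalk f _ _ pullback.condition G θ _ _ rfl rfl _ rfl e₂ p

section ToTop

variable (F : EtDesc.Sh Y) (U : Y.Etale)

/-- The diagonal of an étale scheme. -/
noncomputable def diagTop : EtCoh.top U.left ⟶ (EtCoh.bc U.hom).obj U :=
  MorphismProperty.Over.homMk (pullback.lift (𝟙 U.left) (𝟙 U.left) rfl) (pullback.lift_snd _ _ _) trivial

/-- A section over `U` as a global section of the inverse image on `U`. -/
noncomputable def toTop (s : F.obj.obj (op U)) :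
    EtDesc.sect ((EtDesc.pullSh U.hom).obj F) (EtCoh.top U.left) :=
  ((EtDesc.pullSh U.hom).obj F).obj.map (diagTop U).op (secUp U.hom F s)

theorem topGerm_toTop (s : F.obj.obj (op U)) {Ω : Type u} [Field Ω] [IsSepClosed Ω]
    (y : Spec (CommRingCat.of Ω) ⟶ U.left) (ξ : Spec (CommRingCat.of Ω) ⟶ Y)
    (x : (Scheme.pointSmallEtale ξ).fiber.obj U) (hx : x.left = y) :
    topGerm (toTop F U s) y =
      pullAt U.hom y ξ ((congrArg (· ≫ U.hom) hx.symm).trans (Over.w x)) F (SetStalk.germ ξ F U x s) := by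
  unfold topGerm toTop
  rw [SetStalk.germ_res, pullAt_germ]
  refine congrArg (fun z => SetStalk.germ y _ _ z (secUp U.hom F s))
    (Over.OverMorphism.ext (pullback.hom_ext ?_ ?_))
  · refine (Category.assoc _ _ _).trans ((congrArg (_ ≫ ·) (pullback.lift_fst _ _ _)).trans ?_)
    exact (Category.comp_id _).trans (hx.symm.trans (pullback.lift_fst _ _ _).symm)
  · refine (Category.assoc _ _ _).trans ((congrArg (_ ≫ ·) (pullback.lift_snd _ _ _)).trans ?_)
    exact (Category.comp_id _).trans (pullback.lift_snd _ _ _).symm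

theorem bijective_toTop : Function.Bijective (toTop F U) := by
  haveI : Etale U.hom := U.prop
  let e := OpenSh.pullShIsoRestr U.hom
  have hu : (EtDesc.adjSh U.hom).unit.app F ≫ (EtDesc.pushSh U.hom).map (e.hom.app F) =
      (OpenSh.restrPushAdj U.hom).unit.app F :=
    Adjunction.unit_leftAdjointUniq_hom_app _ _ F
  let κ : (EtShriek.compEtale U.hom).obj (EtCoh.top U.left) ⟶ U :=
    (EtShriek.compEtale U.hom).map (diagTop U) ≫ (compEtaleBcAdj U.hom).counit.app U
  have hκ : ∀ s, (e.hom.app F).hom.app (op (EtCoh.top U.left)) (toTop F U s) = F.obj.map κ.op s := by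
    intro s
    refine (NatTrans.naturality_apply (e.hom.app F).hom (diagTop U).op (secUp U.hom F s)).trans ?_
    refine (congrArg _ (congrArg (fun k => k.hom.app (op U) s) hu)).trans ?_
    change F.obj.map ((EtShriek.compEtale U.hom).map (diagTop U)).op
      (F.obj.map ((compEtaleBcAdj U.hom).counit.app U).op s) = _
    rw [← map_comp_op]
  have hκl : κ.left = 𝟙 U.left := pullback.lift_fst _ _ _
  let κi : U ⟶ (EtShriek.compEtale U.hom).obj (EtCoh.top U.left) :=
    MorphismProperty.Over.homMk (𝟙 U.left) (by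
      change 𝟙 U.left ≫ 𝟙 U.left ≫ U.hom = U.hom
      exact (Category.id_comp _).trans (Category.id_comp _)) trivial
  let κe : (EtShriek.compEtale U.hom).obj (EtCoh.top U.left) ≅ U :=
    { hom := κ
      inv := κi
      hom_inv_id := MorphismProperty.Over.Hom.ext (show κ.left ≫ 𝟙 U.left = 𝟙 U.left from
        (Category.comp_id _).trans hκl)
      inv_hom_id := MorphismProperty.Over.Hom.ext (show 𝟙 U.left ≫ κ.left = 𝟙 U.left from
        (Category.id_comp _).trans hκl) }
  have hb : Function.Bijective ((e.hom.app F).hom.app (op (EtCoh.top U.left))) := by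
    haveI := isIso_app_of_isIso (e.hom.app F) (op (EtCoh.top U.left))
    exact (asIso ((e.hom.app F).hom.app (op (EtCoh.top U.left)))).toEquiv.bijective
  refine (Function.Bijective.of_comp_iff' hb _).1 ?_
  rw [show (e.hom.app F).hom.app (op (EtCoh.top U.left)) ∘ toTop F U = F.obj.map κe.hom.op from funext hκ]
  exact bijective_map_iso F κe

end ToTop

end Groth.Agent.DescSh
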