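import Groth.Agent.DescSh.Germ
import Groth.Agent.DescSh.Effective

/-!
Effective descent of étale sheaves of sets from local existence of compatible sections.
-/

set_option autoImplicit false
set_option linter.style.haveILetI false
set_option backward.isDefEq.respectTransparency.types false

universe u

open CategoryTheory CategoryTheory.Limits AlgebraicGeometry Opposite
open Groth.Agent.EtaleSite

namespace Groth.Agent.DescSh.Eff

variable {X' X T : Scheme.{u}} (f : X' ⟶ X) (pr₁ pr₂ : T ⟶ X') (w : pr₁ ≫ f = pr₂ ≫ f)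
  {F' : EtDesc.Sh X'} (φ : (EtDesc.pullSh pr₁).obj F' ≅ (EtDesc.pullSh pr₂).obj F')

/-- The germs of `s` at points over the same point of `V` correspond under the descent datum. -/
def Good {V : X.Etale} (s : F'.obj.obj (op ((EtCoh.bc f).obj V))) : Prop :=
  ∀ (L : Type u) [Field L] [IsAlgClosed L] (θ : Spec (CommRingCat.of L) ⟶ T)
    (ξ₁ ξ₂ : Spec (CommRingCat.of L) ⟶ X') (h₁ : θ ≫ pr₁ = ξ₁) (h₂ : θ ≫ pr₂ = ξ₂)
    (x₁ : (Scheme.pointSmallEtale ξ₁).fiber.obj ((EtCoh.bc f).obj V))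
    (x₂ : (Scheme.pointSmallEtale ξ₂).fiber.obj ((EtCoh.bc f).obj V)),
    x₁.left ≫ pullback.fst V.hom f = x₂.left ≫ pullback.fst V.hom f →
      Rel pr₁ pr₂ φ θ ξ₁ ξ₂ h₁ h₂ (SetStalk.germ ξ₁ F' _ x₁ s) (SetStalk.germ ξ₂ F' _ x₂ s)

variable {f}

theorem bcPt_of_point {V : X.Etale} {Ω : Type u} [Field Ω] [IsSepClosed Ω] {ξ : Spec (CommRingCat.of Ω) ⟶ X'}
    (x : (Scheme.pointSmallEtale ξ).fiber.obj ((EtCoh.bc f).obj V)) {η : Spec (CommRingCat.of Ω) ⟶ X}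
    (e : ξ ≫ f = η) (v : (Scheme.pointSmallEtale η).fiber.obj V) (hv : x.left ≫ pullback.fst V.hom f = v.left) :
    bcPt f ξ e V v = x :=
  Over.OverMorphism.ext (pullback.hom_ext ((pullback.lift_fst _ _ _).trans hv.symm)
    ((pullback.lift_snd _ _ _).trans (Over.w x).symm))

/-- The point of the base below a point of the base change. -/
noncomputable def lowPt {V : X.Etale} {Ω : Type u} [Field Ω] [IsSepClosed Ω] {ξ : Spec (CommRingCat.of Ω) ⟶ X'}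
    (x : (Scheme.pointSmallEtale ξ).fiber.obj ((EtCoh.bc f).obj V)) {η : Spec (CommRingCat.of Ω) ⟶ X}
    (e : ξ ≫ f = η) : (Scheme.pointSmallEtale η).fiber.obj V :=
  (Over.homMk (x.left ≫ pullback.fst V.hom f) ((Category.assoc _ _ _).trans
    ((congrArg (_ ≫ ·) pullback.condition).trans ((Category.assoc _ _ _).symm.trans
      ((congrArg (· ≫ f) (Over.w x)).trans e)))) : Over.mk η ⟶ (Scheme.Etale.forget X).obj V)

theorem good_incl {V : X.Etale} (s : (sheaf f pr₁ pr₂ w φ).obj.obj (op V)) :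
    Good f pr₁ pr₂ φ ((incl f pr₁ pr₂ w φ).hom.app (op V) s) := by
  intro L _ _ θ ξ₁ ξ₂ h₁ h₂ x₁ x₂ hx
  have e₂ : ξ₂ ≫ f = ξ₁ ≫ f := by rw [← h₁, ← h₂, Category.assoc, Category.assoc, w]
  let v := lowPt x₁ (η := ξ₁ ≫ f) rfl
  have h := rel_incl f pr₁ pr₂ w φ θ h₁ h₂ rfl e₂ (SetStalk.germ (ξ₁ ≫ f) _ V v s)
  rwa [SetStalk.germ_naturality, SetPush.cmpAt_germ, SetPush.cmpAt_germ,
    bcPt_of_point x₁ rfl v rfl, bcPt_of_point x₂ e₂ v hx.symm] at h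

theorem mapA_eq_mapB_of_good {V : X.Etale} (s : F'.obj.obj (op ((EtCoh.bc f).obj V)))
    (hs : Good f pr₁ pr₂ φ s) :
    (mapA f pr₁ pr₂ w φ).hom.app (op V) s = (mapB f pr₂).hom.app (op V) s := by
  refine sect_ext_alg (Y := T) ((EtDesc.pullSh pr₂).obj F') (U := (EtCoh.bc pr₂).obj ((EtCoh.bc f).obj V))
    _ _ fun L _ _ θ z => ?_
  let ξ₁ := θ ≫ pr₁
  let ξ₂ := θ ≫ pr₂
  have e₁ : ξ₁ ≫ f = ξ₂ ≫ f := by
    simp only [ξ₁, ξ₂, Category.assoc, w]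
  let x₂ := lowPt z (η := ξ₂) rfl
  let v := lowPt x₂ (η := ξ₂ ≫ f) rfl
  have hz : bcPt pr₂ θ rfl ((EtCoh.bc f).obj V) (bcPt f ξ₂ rfl V v) = z := by
    rw [bcPt_of_point x₂ rfl v rfl]
    exact bcPt_of_point z rfl x₂ rfl
  let p := SetStalk.germ (ξ₂ ≫ f) ((EtDesc.pushSh f).obj F') V v s
  have hA := cmpAt_mapA f pr₁ pr₂ w φ θ (ξ₁ := ξ₁) (ξ₂ := ξ₂) rfl rfl e₁ rfl p
  have hB := cmpAt_mapB f pr₂ θ (ξ₂ := ξ₂) rfl (η := ξ₂ ≫ f) rfl p
  rw [SetStalk.germ_naturality, SetPush.cmpAt_germ, SetPush.cmpAt_germ, SetPush.cmpAt_germ, hz] at hA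
  rw [SetStalk.germ_naturality, SetPush.cmpAt_germ, SetPush.cmpAt_germ, SetPush.cmpAt_germ, hz] at hB
  refine hA.trans (Eq.trans ?_ hB.symm)
  exact hs L θ ξ₁ ξ₂ rfl rfl _ _ ((pullback.lift_fst _ _ _).trans (pullback.lift_fst _ _ _).symm)

variable {pr₁ pr₂} (hsq : IsPullback pr₁ pr₂ f f)
  (htrans : ∀ (L : Type u) [Field L] [IsAlgClosed L] (a b c : Spec (CommRingCat.of L) ⟶ T)
    (ξ ζ ρ : Spec (CommRingCat.of L) ⟶ X') (a₁ : a ≫ pr₁ = ξ) (a₂ : a ≫ pr₂ = ζ) (b₁ : b ≫ pr₁ = ζ)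
    (b₂ : b ≫ pr₂ = ρ) (c₁ : c ≫ pr₁ = ξ) (c₂ : c ≫ pr₂ = ρ)
    (x : (SetStalk.stalkSh ξ).obj F') (y : (SetStalk.stalkSh ζ).obj F') (z : (SetStalk.stalkSh ρ).obj F'),
    Rel pr₁ pr₂ φ a ξ ζ a₁ a₂ x y → Rel pr₁ pr₂ φ b ζ ρ b₁ b₂ y z → Rel pr₁ pr₂ φ c ξ ρ c₁ c₂ x z)

theorem rel_exists {Ω : Type u} [Field Ω] [IsSepClosed Ω] (θ : Spec (CommRingCat.of Ω) ⟶ T)
    {ξ₁ ξ₂ : Spec (CommRingCat.of Ω) ⟶ X'} (h₁ : θ ≫ pr₁ = ξ₁) (h₂ : θ ≫ pr₂ = ξ₂)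
    (x : (SetStalk.stalkSh ξ₁).obj F') : ∃ y, Rel pr₁ pr₂ φ θ ξ₁ ξ₂ h₁ h₂ x y := by
  obtain ⟨y, hy⟩ := (pullAt_bijective pr₂ θ ξ₂ h₂ F').2
    ((SetStalk.stalkSh θ).map φ.hom (pullAt pr₁ θ ξ₁ h₁ F' x))
  exact ⟨y, hy.symm⟩

theorem rel_unique {Ω : Type u} [Field Ω] [IsSepClosed Ω] {θ : Spec (CommRingCat.of Ω) ⟶ T}
    {ξ₁ ξ₂ : Spec (CommRingCat.of Ω) ⟶ X'} {h₁ : θ ≫ pr₁ = ξ₁} {h₂ : θ ≫ pr₂ = ξ₂}
    {x : (SetStalk.stalkSh ξ₁).obj F'} {y y' : (SetStalk.stalkSh ξ₂).obj F'}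
    (h : Rel pr₁ pr₂ φ θ ξ₁ ξ₂ h₁ h₂ x y) (h' : Rel pr₁ pr₂ φ θ ξ₁ ξ₂ h₁ h₂ x y') : y = y' :=
  (pullAt_bijective pr₂ θ ξ₂ h₂ F').1 (h.symm.trans h')

theorem rel_injective {Ω : Type u} [Field Ω] [IsSepClosed Ω] {θ : Spec (CommRingCat.of Ω) ⟶ T}
    {ξ₁ ξ₂ : Spec (CommRingCat.of Ω) ⟶ X'} {h₁ : θ ≫ pr₁ = ξ₁} {h₂ : θ ≫ pr₂ = ξ₂}
    {x x' : (SetStalk.stalkSh ξ₁).obj F'} {y : (SetStalk.stalkSh ξ₂).obj F'}
    (h : Rel pr₁ pr₂ φ θ ξ₁ ξ₂ h₁ h₂ x y) (h' : Rel pr₁ pr₂ φ θ ξ₁ ξ₂ h₁ h₂ x' y) : x = x' :=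
  (pullAt_bijective pr₁ θ ξ₁ h₁ F').1 (((SetStalk.stalkSh θ).mapIso φ).toEquiv.injective (h.trans h'.symm))

include htrans in
/-- The relation is reflexive. -/
theorem rel_refl {L : Type u} [Field L] [IsAlgClosed L] (c : Spec (CommRingCat.of L) ⟶ T)
    {ξ : Spec (CommRingCat.of L) ⟶ X'} (c₁ : c ≫ pr₁ = ξ) (c₂ : c ≫ pr₂ = ξ)
    (x : (SetStalk.stalkSh ξ).obj F') : Rel pr₁ pr₂ φ c ξ ξ c₁ c₂ x x := by
  obtain ⟨y, hy⟩ := rel_exists φ c c₁ c₂ x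
  obtain ⟨z, hz⟩ := rel_exists φ c c₁ c₂ y
  obtain rfl := rel_unique φ (htrans L c c c ξ ξ ξ c₁ c₂ c₁ c₂ c₁ c₂ x y z hy hz) hy
  obtain rfl := rel_injective φ hz hy
  exact hy

include hsq in
theorem bijective_cmp_incl_of_local (hf : EtDesc.IsUnivSubmersive f) {L : Type u} [Field L] [IsAlgClosed L]
    (ξ₀ : Spec (CommRingCat.of L) ⟶ X')
    (hloc : ∀ q : (SetStalk.stalkSh ξ₀).obj F', ∃ (V : X.Etale)
      (v : (Scheme.pointSmallEtale (ξ₀ ≫ f)).fiber.obj V) (s : F'.obj.obj (op ((EtCoh.bc f).obj V))),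
        Good f pr₁ pr₂ φ s ∧ SetStalk.germ ξ₀ F' _ (bcPt f ξ₀ rfl V v) s = q) :
    Function.Bijective (fun p => SetPush.cmpAt f ξ₀ rfl F'
      ((SetStalk.stalkSh (ξ₀ ≫ f)).map (incl f pr₁ pr₂ w φ) p)) := by
  constructor
  · intro p q hpq
    obtain ⟨V, v, s, t, rfl, rfl⟩ := SetPush.exists_germ_eq_pair (ξ₀ ≫ f) (sheaf f pr₁ pr₂ w φ) p q
    simp only [SetStalk.germ_naturality, SetPush.cmpAt_germ] at hpq
    let a := (incl f pr₁ pr₂ w φ).hom.app (op V) s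
    let b := (incl f pr₁ pr₂ w φ).hom.app (op V) t
    let π : ((EtCoh.bc f).obj V).left ⟶ V.left := pullback.fst V.hom f
    have hsat : ∀ u u', π u = π u' → EqAt F' a b u → EqAt F' a b u' := by
      intro u u' huu hu
      obtain ⟨c, hc₁, hc₂⟩ := Scheme.Pullback.exists_preimage_pullback u u' huu
      obtain ⟨K, i₁, i₂, ζ, l, hl⟩ := exists_algPoint (Y := pullback π π) (U := EtCoh.top (pullback π π)) c
      let l₁ : Spec (CommRingCat.of K) ⟶ ((EtCoh.bc f).obj V).left := l.left ≫ pullback.fst π π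
      let l₂ : Spec (CommRingCat.of K) ⟶ ((EtCoh.bc f).obj V).left := l.left ≫ pullback.snd π π
      let x₁ : (Scheme.pointSmallEtale (l₁ ≫ ((EtCoh.bc f).obj V).hom)).fiber.obj ((EtCoh.bc f).obj V) :=
        (Over.homMk l₁ rfl : Over.mk _ ⟶ (Scheme.Etale.forget X').obj ((EtCoh.bc f).obj V))
      let x₂ : (Scheme.pointSmallEtale (l₂ ≫ ((EtCoh.bc f).obj V).hom)).fiber.obj ((EtCoh.bc f).obj V) :=
        (Over.homMk l₂ rfl : Over.mk _ ⟶ (Scheme.Etale.forget X').obj ((EtCoh.bc f).obj V))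
      have h12 : l₁ ≫ π = l₂ ≫ π :=
        (Category.assoc _ _ _).trans ((congrArg (l.left ≫ ·) pullback.condition).trans (Category.assoc _ _ _).symm)
      have hθ : (l₁ ≫ ((EtCoh.bc f).obj V).hom) ≫ f = (l₂ ≫ ((EtCoh.bc f).obj V).hom) ≫ f :=
        (Category.assoc _ _ _).trans ((congrArg (l₁ ≫ ·) pullback.condition.symm).trans
          ((reassoc_of% h12) V.hom |>.trans ((congrArg (l₂ ≫ ·) pullback.condition).trans
            (Category.assoc _ _ _).symm)))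
      let θ := hsq.lift _ _ hθ
      have ha := good_incl pr₁ pr₂ w φ s K θ _ _ (hsq.lift_fst _ _ _) (hsq.lift_snd _ _ _) x₁ x₂ h12
      have hb := good_incl pr₁ pr₂ w φ t K θ _ _ (hsq.lift_fst _ _ _) (hsq.lift_snd _ _ _) x₁ x₂ h12
      have hu₁ : x₁.left (default : Spec (CommRingCat.of K)) = u :=
        (congrArg (pullback.fst π π) hl).trans hc₁
      have hu₂ : x₂.left (default : Spec (CommRingCat.of K)) = u' :=
        (congrArg (pullback.snd π π) hl).trans hc₂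
      rw [eqAt_iff_germ F' a b x₁ hu₁] at hu
      rw [eqAt_iff_germ F' a b x₂ hu₂]
      rw [hu] at ha
      exact rel_unique φ ha hb
    let W := {u | EqAt F' a b u}
    have hW : π ⁻¹' (π '' W) = W := by
      refine Set.Subset.antisymm ?_ (Set.subset_preimage_image _ _)
      rintro u ⟨u₀, hu₀, e⟩
      exact hsat u₀ u e hu₀
    let O : V.left.Opens := ⟨π '' W, by
      rw [← (isQuotientMap_fst f hf V).2.isOpen_preimage]
      exact hW.symm ▸ isOpen_eqAt F' a b⟩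
    have hvO : v.left (default : Spec (CommRingCat.of L)) ∈ O :=
      ⟨_, (eqAt_iff_germ F' a b (bcPt f ξ₀ rfl V v) rfl).2 hpq,
        congrArg (fun k : Spec (CommRingCat.of L) ⟶ V.left => k default) (pullback.lift_fst _ _ _)⟩
    have he : (incl f pr₁ pr₂ w φ).hom.app (op (piece V O))
        ((sheaf f pr₁ pr₂ w φ).obj.map (pieceHom V O).op s) =
        (incl f pr₁ pr₂ w φ).hom.app (op (piece V O))
        ((sheaf f pr₁ pr₂ w φ).obj.map (pieceHom V O).op t) := by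
      rw [NatTrans.naturality_apply, NatTrans.naturality_apply]
      refine eq_of_eqAt F' _ _ fun u => ?_
      refine (eqAt_res F' ((EtCoh.bc f).map (pieceHom V O)) a b u).2 ?_
      obtain ⟨u₀, hu₀, e⟩ := ((pullback.fst (piece V O).hom f :
        ((EtCoh.bc f).obj (piece V O)).left ⟶ (piece V O).left) u).2
      exact hsat u₀ _ (e.trans (congrArg (fun k : ((EtCoh.bc f).obj (piece V O)).left ⟶ V.left => k u)
        (EtCoh.isPullback_bc_map f (pieceHom V O)).w.symm |>.trans rfl |>.symm |>.symm)) hu₀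
    refine (eqAt_iff_germ (sheaf f pr₁ pr₂ w φ) s t v rfl).1
      ⟨piece V O, pieceHom V O, ⟨_, hvO⟩, rfl, app_injective _ _ he⟩
  · intro q
    obtain ⟨V, v, s, hs, hq⟩ := hloc q
    obtain ⟨s', hs'⟩ := exists_incl_eq f pr₁ pr₂ w φ V _ (mapA_eq_mapB_of_good pr₁ pr₂ w φ s hs)
    refine ⟨SetStalk.germ _ _ V v s', ?_⟩
    simp only [SetStalk.germ_naturality, SetPush.cmpAt_germ, hs']
    exact hq

include hsq in
/-- Descent data with local compatible sections are effective. -/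
theorem exists_desc_of_local (hf : EtDesc.IsUnivSubmersive f)
    (hloc : ∀ (L : Type u) [Field L] [IsAlgClosed L] (ξ₀ : Spec (CommRingCat.of L) ⟶ X')
      (q : (SetStalk.stalkSh ξ₀).obj F'), ∃ (V : X.Etale)
      (v : (Scheme.pointSmallEtale (ξ₀ ≫ f)).fiber.obj V) (s : F'.obj.obj (op ((EtCoh.bc f).obj V))),
        Good f pr₁ pr₂ φ s ∧ SetStalk.germ ξ₀ F' _ (bcPt f ξ₀ rfl V v) s = q) :
    ∃ (F : EtDesc.Sh X) (ψ : (EtDesc.pullSh f).obj F ≅ F'),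
      (canT f pr₁ pr₂ w F).hom ≫ (EtDesc.pullSh pr₂).map ψ.hom =
        (EtDesc.pullSh pr₁).map ψ.hom ≫ φ.hom := by
  have : IsIso (desc f pr₁ pr₂ w φ) := by
    refine SetStalk.isIso_of_stalk _ fun Ω _ _ η₀ => ?_
    let K := AlgebraicClosure Ω
    let σ : Spec (CommRingCat.of K) ⟶ Spec (CommRingCat.of Ω) :=
      Spec.map (CommRingCat.ofHom (algebraMap Ω K))
    rw [← ConcreteCategory.isIso_iff_bijective]
    refine (NatIso.isIso_map_iff (sheafFiberIsoOfPointIso (A := Type (u + 1)) (pointExtIso σ η₀)) _).2 ?_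
    refine (ConcreteCategory.isIso_iff_bijective _).2 ?_
    change Function.Bijective ((SetStalk.stalkSh (σ ≫ η₀)).map (desc f pr₁ pr₂ w φ))
    rw [← Function.Bijective.of_comp_iff _ (pullAt_bijective f (σ ≫ η₀) _ rfl _)]
    have h : ((SetStalk.stalkSh (σ ≫ η₀)).map (desc f pr₁ pr₂ w φ)) ∘
        pullAt f (σ ≫ η₀) _ rfl (sheaf f pr₁ pr₂ w φ) = fun p => SetPush.cmpAt f (σ ≫ η₀) rfl F'
          ((SetStalk.stalkSh ((σ ≫ η₀) ≫ f)).map (incl f pr₁ pr₂ w φ) p) :=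
      funext fun p => stalk_desc f pr₁ pr₂ w φ (σ ≫ η₀) p
    rw [h]
    exact bijective_cmp_incl_of_local w φ hsq hf (σ ≫ η₀) (hloc K _)
  exact ⟨_, asIso (desc f pr₁ pr₂ w φ), desc_compat f pr₁ pr₂ w φ⟩

end Groth.Agent.DescSh.Eff
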