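import Groth.Agent.EtaleSite.SetStalk
import Groth.Agent.EtaleSite.SetPushStalk

/-!
The locus where two sections of an étale sheaf of sets agree, and inverse images of sections.
-/

set_option autoImplicit false
set_option linter.style.haveILetI false

universe u

open CategoryTheory CategoryTheory.Limits AlgebraicGeometry Opposite
open Groth.Agent.EtaleSite

namespace Groth.Agent.DescSh

variable {X : Scheme.{u}}

/-- `s` and `t` agree near the point `u`. -/
def EqAt (F : EtDesc.Sh X) {U : X.Etale} (s t : F.obj.obj (op U)) (u : U.left) : Prop :=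
  ∃ (W : X.Etale) (g : W ⟶ U) (w : W.left),
    g.left w = u ∧ F.obj.map g.op s = F.obj.map g.op t

theorem etale_left {W U : X.Etale} (g : W ⟶ U) : Etale g.left := by
  haveI : Etale U.hom := U.prop
  haveI : Etale (g.left ≫ U.hom) := by rw [MorphismProperty.Over.w g]; exact W.prop
  exact Etale.of_comp g.left U.hom

theorem isOpen_eqAt (F : EtDesc.Sh X) {U : X.Etale} (s t : F.obj.obj (op U)) :
    IsOpen {u : U.left | EqAt F s t u} := by
  have h : {u : U.left | EqAt F s t u} =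
      ⋃ (W : X.Etale) (g : W ⟶ U) (_ : F.obj.map g.op s = F.obj.map g.op t), Set.range g.left := by
    ext u
    simp only [Set.mem_ofPred_eq, Set.mem_iUnion, Set.mem_range, EqAt]
    exact ⟨fun ⟨W, g, w, e, h⟩ => ⟨W, g, h, w, e⟩, fun ⟨W, g, h, w, e⟩ => ⟨W, g, w, e, h⟩⟩
  rw [h]
  refine isOpen_iUnion fun W => isOpen_iUnion fun g => isOpen_iUnion fun _ => ?_
  haveI := etale_left g
  exact g.left.isOpenMap.isOpen_range

theorem eqAt_iff_germ (F : EtDesc.Sh X) {U : X.Etale} (s t : F.obj.obj (op U))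
    {Ω : Type u} [Field Ω] [IsSepClosed Ω] {ξ : Spec (CommRingCat.of Ω) ⟶ X}
    (x : (Scheme.pointSmallEtale ξ).fiber.obj U) {u : U.left}
    (hu : x.left (default : Spec (CommRingCat.of Ω)) = u) :
    EqAt F s t u ↔ SetStalk.germ ξ F U x s = SetStalk.germ ξ F U x t := by
  subst hu
  constructor
  · rintro ⟨W, g, w, hw, e⟩
    haveI := etale_left g
    obtain ⟨l, h₁, -⟩ := Scheme.exists_fac_of_etale_of_isSepClosed g.left x.left w hw
    let y : (Scheme.pointSmallEtale ξ).fiber.obj W := (Over.homMk l (by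
      change l ≫ W.hom = ξ
      rw [← MorphismProperty.Over.w g, reassoc_of% h₁]
      exact Over.w x) : Over.mk ξ ⟶ (Scheme.Etale.forget X).obj W)
    have hy : (Scheme.pointSmallEtale ξ).fiber.map g y = x := Over.OverMorphism.ext h₁
    rw [SetStalk.germ_eq_iff]
    exact ⟨W, g, y, hy, e⟩
  · intro h
    obtain ⟨W, g, y, rfl, e⟩ := (SetStalk.germ_eq_iff ξ F U x s t).1 h
    exact ⟨W, g, y.left (default : Spec (CommRingCat.of Ω)), rfl, e⟩

/-- A geometric point of an étale scheme over a given point. -/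
theorem exists_geomPoint {U : X.Etale} (u : U.left) :
    ∃ (Ω : Type u) (_ : Field Ω) (_ : IsSepClosed Ω) (ξ : Spec (CommRingCat.of Ω) ⟶ X)
      (x : (Scheme.pointSmallEtale ξ).fiber.obj U), x.left (default : Spec (CommRingCat.of Ω)) = u :=
  ⟨SeparableClosure (U.left.residueField u), inferInstance, inferInstance,
    geomPointAt U.left u ≫ U.hom,
    (Over.homMk (geomPointAt U.left u) rfl :
      Over.mk (geomPointAt U.left u ≫ U.hom) ⟶ (Scheme.Etale.forget X).obj U),
    geomPointAt_apply U.left u _⟩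

theorem eqAt_res (F : EtDesc.Sh X) {U W : X.Etale} (g : W ⟶ U) (s t : F.obj.obj (op U)) (w : W.left) :
    EqAt F (F.obj.map g.op s) (F.obj.map g.op t) w ↔ EqAt F s t (g.left w) := by
  obtain ⟨Ω, i₁, i₂, ξ, x, hx⟩ := exists_geomPoint w
  rw [eqAt_iff_germ F _ _ x hx, eqAt_iff_germ F s t ((Scheme.pointSmallEtale ξ).fiber.map g x)
    (show g.left (x.left (default : Spec (CommRingCat.of Ω))) = g.left w by rw [hx]), SetStalk.germ_res, SetStalk.germ_res]

theorem eq_of_eqAt (F : EtDesc.Sh X) {U : X.Etale} (s t : F.obj.obj (op U))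
    (h : ∀ u, EqAt F s t u) : s = t := by
  have hS : Presheaf.equalizerSieve (F := F.obj) s t ∈ X.smallEtaleTopology U := by
    refine mem_topology_of_forall_exists _ fun u => ?_
    obtain ⟨W, g, w, hw, e⟩ := h u
    exact ⟨W, g, w, e, hw⟩
  exact (((isSheaf_iff_isSheaf_of_type _ _).1 F.property).isSeparated _ hS).ext fun V g hg => hg

section Unit

variable {Y : Scheme.{u}} (f : X ⟶ Y)

/-- Inverse image of sections. -/
noncomputable def secUp (G : EtDesc.Sh Y) {V : Y.Etale} (t : G.obj.obj (op V)) :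
    ((EtDesc.pullSh f).obj G).obj.obj (op ((EtCoh.bc f).obj V)) :=
  ((EtDesc.adjSh f).unit.app G).hom.app (op V) t

theorem secUp_res (G : EtDesc.Sh Y) {V W : Y.Etale} (g : W ⟶ V) (t : G.obj.obj (op V)) :
    secUp f G (G.obj.map g.op t) =
      ((EtDesc.pullSh f).obj G).obj.map ((EtCoh.bc f).map g).op (secUp f G t) :=
  NatTrans.naturality_apply ((EtDesc.adjSh f).unit.app G).hom g.op t

theorem secUp_map {G G' : EtDesc.Sh Y} (b : G ⟶ G') {V : Y.Etale} (t : G.obj.obj (op V)) :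
    ((EtDesc.pullSh f).map b).hom.app _ (secUp f G t) = secUp f G' (b.hom.app _ t) :=
  (congrArg (fun k => k.hom.app (op V) t) ((EtDesc.adjSh f).unit.naturality b)).symm

theorem fiberBcEquiv_fst {Ω : Type u} [Field Ω] [IsSepClosed Ω] (ζ : Spec (CommRingCat.of Ω) ⟶ X)
    (V : Y.Etale) (x : (Scheme.pointSmallEtale (ζ ≫ f)).fiber.obj V) :
    (fiberBcEquiv f ζ V x).left ≫ pullback.fst V.hom f = x.left :=
  pullback.lift_fst _ _ _

theorem eqAt_secUp_iff (G : EtDesc.Sh Y) {V : Y.Etale} (s t : G.obj.obj (op V))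
    (v : ((EtCoh.bc f).obj V).left) :
    EqAt ((EtDesc.pullSh f).obj G) (secUp f G s) (secUp f G t) v ↔
      EqAt G s t ((pullback.fst V.hom f : ((EtCoh.bc f).obj V).left ⟶ V.left) v) := by
  obtain ⟨Ω, i₁, i₂, ζ, x', hx⟩ := exists_geomPoint v
  obtain ⟨x, rfl⟩ := (fiberBcEquiv f ζ V).surjective x'
  have hx2 : x.left (default : Spec (CommRingCat.of Ω)) = (pullback.fst V.hom f : ((EtCoh.bc f).obj V).left ⟶ V.left) v := by
    rw [← hx, ← fiberBcEquiv_fst f ζ V x]
    rfl
  rw [eqAt_iff_germ _ _ _ _ hx, eqAt_iff_germ G s t x hx2, secUp, secUp,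
    ← SetPush.germ_stalkPullShIso_inv, ← SetPush.germ_stalkPullShIso_inv]
  exact ((SetStalk.stalkPullShIso f ζ).symm.app G).toEquiv.injective.eq_iff

theorem secUp_injective [Surjective f] (G : EtDesc.Sh Y) {V : Y.Etale} :
    Function.Injective (secUp f G (V := V)) := by
  intro s t h
  refine eq_of_eqAt G s t fun v => ?_
  haveI : Surjective (pullback.fst V.hom f) := MorphismProperty.pullback_fst V.hom f ‹_›
  obtain ⟨v', rfl⟩ := (pullback.fst V.hom f).surjective v
  rw [← eqAt_secUp_iff f G s t v', h]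
  exact ⟨_, 𝟙 _, v', rfl, rfl⟩

/-- Every section of an inverse image is locally an inverse image. -/
theorem exists_local (G : EtDesc.Sh Y) {U : Y.Etale}
    (s' : ((EtDesc.pullSh f).obj G).obj.obj (op ((EtCoh.bc f).obj U)))
    (v : ((EtCoh.bc f).obj U).left) :
    ∃ (W : Y.Etale) (g : W ⟶ U) (t : G.obj.obj (op W)) (w : ((EtCoh.bc f).obj W).left),
      ((EtCoh.bc f).map g).left w = v ∧
        EqAt _ (((EtDesc.pullSh f).obj G).obj.map ((EtCoh.bc f).map g).op s') (secUp f G t) w := by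
  obtain ⟨Ω, i₁, i₂, ζ, x', hx⟩ := exists_geomPoint v
  obtain ⟨x, rfl⟩ := (fiberBcEquiv f ζ U).surjective x'
  let Φ := Scheme.pointSmallEtale (ζ ≫ f)
  let e := (SetStalk.stalkPullShIso f ζ).app G
  obtain ⟨V, y, t, ht⟩ := SetStalk.exists_germ_eq (ζ ≫ f) G
    (e.hom (SetStalk.germ ζ _ _ (fiberBcEquiv f ζ U x) s'))
  obtain ⟨z, ⟨p₁, hp₁⟩, ⟨p₂, hp₂⟩, -⟩ :=
    IsCofilteredOrEmpty.cone_objs (Φ.fiber.elementsMk _ x) (Φ.fiber.elementsMk _ y)
  have hn : (Scheme.pointSmallEtale ζ).fiber.map ((EtCoh.bc f).map p₁) (fiberBcEquiv f ζ z.1 z.2) =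
      fiberBcEquiv f ζ U x :=
    (congrArg (fun k => k z.2) ((fiberBcIso f ζ).hom.naturality p₁)).symm.trans
      (congrArg (fiberBcEquiv f ζ U) hp₁)
  refine ⟨z.1, p₁, G.obj.map p₂.op t, (fiberBcEquiv f ζ z.1 z.2).left (default : Spec (CommRingCat.of Ω)), ?_, ?_⟩
  · rw [← hx, ← hn]
    rfl
  · rw [eqAt_iff_germ _ _ _ (fiberBcEquiv f ζ z.1 z.2) rfl, SetStalk.germ_res, hn, secUp,
      ← SetPush.germ_stalkPullShIso_inv, SetStalk.germ_res, hp₂, ht]
    exact (e.hom_inv_id_apply _).symm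

end Unit

end Groth.Agent.DescSh
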