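import Groth.Agent.DescSh.Core

/-!
Descent of morphisms of étale sheaves of sets.
-/

set_option autoImplicit false
set_option linter.style.haveILetI false

universe u

open CategoryTheory CategoryTheory.Limits AlgebraicGeometry Opposite
open Groth.Agent.EtaleSite

namespace Groth.Agent.DescSh

variable {X' X : Scheme.{u}} (f : X' ⟶ X)

theorem square_app {Y : Scheme.{u}} {F₁ F₂ G₁ G₂ : EtDesc.Sh Y} {c : F₁ ⟶ F₂} {a₂ : F₂ ⟶ G₂} {a₁ : F₁ ⟶ G₁}
    {d : G₁ ⟶ G₂} (h : c ≫ a₂ = a₁ ≫ d) {P Q : Y.Etale} (k : P ⟶ Q) (x : F₁.obj.obj (op Q))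
    (y : F₂.obj.obj (op P)) (hy : c.hom.app (op P) (F₁.obj.map k.op x) = y) :
    d.hom.app (op P) (G₁.obj.map k.op (a₁.hom.app (op Q) x)) = a₂.hom.app (op P) y := by
  subst hy
  rw [← NatTrans.naturality_apply a₁.hom]
  exact (congrArg (fun k' => k'.hom.app (op P) (F₁.obj.map k.op x)) h).symm

section Pair

variable {T : Scheme.{u}} (pr₁ pr₂ : T ⟶ X') (w : pr₁ ≫ f = pr₂ ≫ f)

theorem agreeT_map {F G : EtDesc.Sh X} (a : (EtDesc.pullSh f).obj F ⟶ (EtDesc.pullSh f).obj G)
    (ha : (canT f pr₁ pr₂ w F).hom ≫ (EtDesc.pullSh pr₂).map a =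
      (EtDesc.pullSh pr₁).map a ≫ (canT f pr₁ pr₂ w G).hom)
    {U : X.Etale} {x : ((EtDesc.pullSh f).obj F).obj.obj (op ((EtCoh.bc f).obj U))}
    (hx : AgreeT f pr₁ pr₂ w F U x) :
    AgreeT f pr₁ pr₂ w G U (a.hom.app (op ((EtCoh.bc f).obj U)) x) := by
  unfold AgreeT at hx ⊢
  rw [← secUp_map pr₁ a x, ← secUp_map pr₂ a x]
  exact square_app ha (τ f pr₁ pr₂ w U) (secUp pr₁ _ x) (secUp pr₂ _ x) hx

end Pair

theorem agree_map {F G : EtDesc.Sh X} (a : (EtDesc.pullSh f).obj F ⟶ (EtDesc.pullSh f).obj G)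
    (ha : (EtDesc.canIso f F).hom ≫ (EtDesc.pullSh (pullback.snd f f)).map a =
      (EtDesc.pullSh (pullback.fst f f)).map a ≫ (EtDesc.canIso f G).hom)
    {U : X.Etale} (s : F.obj.obj (op U)) :
    Agree f G U (a.hom.app (op ((EtCoh.bc f).obj U)) (secUp f F s)) := by
  rw [canIso_eq, canIso_eq] at ha
  exact agreeT_map f _ _ pullback.condition a ha (agree_secUp f F s)

/-- Morphisms descend along universally submersive morphisms. -/
theorem exists_desc_hom (hf : EtDesc.IsUnivSubmersive f) {F G : EtDesc.Sh X}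
    (a : (EtDesc.pullSh f).obj F ⟶ (EtDesc.pullSh f).obj G)
    (ha : (EtDesc.canIso f F).hom ≫ (EtDesc.pullSh (pullback.snd f f)).map a =
      (EtDesc.pullSh (pullback.fst f f)).map a ≫ (EtDesc.canIso f G).hom) :
    ∃ b : F ⟶ G, (EtDesc.pullSh f).map b = a := by
  haveI := surjective_of_univSubmersive f hf
  have hex : ∀ (U : X.Etale) (s : F.obj.obj (op U)), ∃ t : G.obj.obj (op U),
      secUp f G t = a.hom.app (op ((EtCoh.bc f).obj U)) (secUp f F s) :=
    fun U s => exists_secUp f hf G (agree_map f a ha s)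
  choose φ hφ using hex
  let b : F ⟶ G := ⟨{
    app := fun U => TypeCat.ofHom (φ U.unop)
    naturality := fun U V g => by
      ext s
      refine secUp_injective f G ?_
      change secUp f G (φ V.unop (F.obj.map g.unop.op s)) = secUp f G (G.obj.map g.unop.op (φ U.unop s))
      rw [hφ, secUp_res, secUp_res, hφ]
      exact NatTrans.naturality_apply a.hom ((EtCoh.bc f).map g.unop).op (secUp f F s) }⟩
  refine ⟨b, ((EtDesc.adjSh f).homEquiv F _).injective ?_⟩
  ext U s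
  rw [Adjunction.homEquiv_unit, Adjunction.homEquiv_unit]
  exact (secUp_map f b (V := U.unop) s).trans (hφ U.unop s)

end Groth.Agent.DescSh
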