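import Groth.Agent.DescSh.Effective
import Groth.Agent.HTopBig.SetsPBC

/-!
Effective descent of étale sheaves of sets along proper surjective morphisms.
-/

set_option autoImplicit false
set_option linter.style.haveILetI false
set_option backward.isDefEq.respectTransparency.types false

universe u

open CategoryTheory CategoryTheory.Limits AlgebraicGeometry Opposite
open Groth.Agent.EtaleSite

namespace Groth.Agent.DescSh.Eff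

variable {X' X T : Scheme.{u}} (f : X' ⟶ X) (pr₁ pr₂ : T ⟶ X') (w : pr₁ ≫ f = pr₂ ≫ f)
  {F' : EtDesc.Sh X'} (φ : (EtDesc.pullSh pr₁).obj F' ≅ (EtDesc.pullSh pr₂).obj F')

section AlgClosed

variable {f pr₁ pr₂} (hsq : IsPullback pr₁ pr₂ f f) [IsProper f]
  (htrans : ∀ (L : Type u) [Field L] [IsAlgClosed L] (a b c : Spec (CommRingCat.of L) ⟶ T)
    (ξ ζ ρ : Spec (CommRingCat.of L) ⟶ X') (a₁ : a ≫ pr₁ = ξ) (a₂ : a ≫ pr₂ = ζ) (b₁ : b ≫ pr₁ = ζ)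
    (b₂ : b ≫ pr₂ = ρ) (c₁ : c ≫ pr₁ = ξ) (c₂ : c ≫ pr₂ = ρ)
    (x : (SetStalk.stalkSh ξ).obj F') (y : (SetStalk.stalkSh ζ).obj F') (z : (SetStalk.stalkSh ρ).obj F'),
    Rel pr₁ pr₂ φ a ξ ζ a₁ a₂ x y → Rel pr₁ pr₂ φ b ζ ρ b₁ b₂ y z → Rel pr₁ pr₂ φ c ξ ρ c₁ c₂ x z)
  {L : Type u} [Field L] [IsAlgClosed L] (ξ₀ : Spec (CommRingCat.of L) ⟶ X')

include hsq in
theorem exists_family_proper (q : (SetStalk.stalkSh ξ₀).obj F') :
    ∃ p : (SetStalk.stalkSh (ξ₀ ≫ f)).obj ((EtDesc.pushSh f).obj F'),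
      ∀ (θ : Spec (CommRingCat.of L) ⟶ T) (ξ : Spec (CommRingCat.of L) ⟶ X') (h₁ : θ ≫ pr₁ = ξ₀)
        (h₂ : θ ≫ pr₂ = ξ) (e : ξ ≫ f = ξ₀ ≫ f),
        Rel pr₁ pr₂ φ θ ξ₀ ξ h₁ h₂ q (SetPush.cmpAt f ξ e F' p) := by
  haveI : IsProper pr₁ := MorphismProperty.of_isPullback hsq.flip ‹_›
  obtain ⟨z, hz⟩ := (HTopBig.SetsBC.bijective_stalk f f pr₁ pr₂ hsq.flip ξ₀ F').2
    ((SetStalk.stalkSh ξ₀).map ((EtDesc.adjSh pr₁).homEquiv _ _ φ.hom) q)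
  obtain ⟨p, rfl⟩ := (pullAt_bijective f ξ₀ _ rfl _).2 z
  refine ⟨p, fun θ ξ h₁ h₂ e => ?_⟩
  subst h₂
  have key := SetIntBC.cmpAt_baseChange0Sh f f pr₁ pr₂ hsq.w.symm θ F' h₁ e p
  rw [← pullAt_rfl, hz, cmpAt_map_homEquiv] at key
  exact key

include hsq htrans in
theorem bijective_cmp_incl_proper (w : pr₁ ≫ f = pr₂ ≫ f) :
    Function.Bijective (fun p => SetPush.cmpAt f ξ₀ rfl F'
      ((SetStalk.stalkSh (ξ₀ ≫ f)).map (incl f pr₁ pr₂ w φ) p)) := by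
  haveI : IsProper pr₂ := MorphismProperty.of_isPullback hsq ‹_›
  constructor
  · intro p q hpq
    apply SetStalk.stalk_injective_of_mono (incl f pr₁ pr₂ w φ) (ξ₀ ≫ f)
    refine HTopBig.SetsBC.eq_of_cmpAt_proper f (ξ₀ ≫ f) F' _ _ fun ξ hξ => ?_
    let θ := hsq.lift ξ₀ ξ hξ.symm
    have hp := rel_incl f pr₁ pr₂ w φ θ (hsq.lift_fst _ _ _) (hsq.lift_snd _ _ _) rfl hξ p
    have hq := rel_incl f pr₁ pr₂ w φ θ (hsq.lift_fst _ _ _) (hsq.lift_snd _ _ _) rfl hξ q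
    unfold Rel at hp hq
    simp only at hpq
    rw [hpq, hq] at hp
    exact ((pullAt_bijective pr₂ θ ξ (hsq.lift_snd _ _ _) F').1 hp).symm
  · intro q
    obtain ⟨p, hp⟩ := exists_family_proper φ hsq ξ₀ q
    have hab : (SetStalk.stalkSh (ξ₀ ≫ f)).map (mapA f pr₁ pr₂ w φ) p =
        (SetStalk.stalkSh (ξ₀ ≫ f)).map (mapB f pr₂) p := by
      refine HTopBig.SetsBC.eq_of_cmpAt_proper f (ξ₀ ≫ f) _ _ _ fun ξ hξ => ?_
      refine HTopBig.SetsBC.eq_of_cmpAt_proper pr₂ ξ _ _ _ fun θ hθ => ?_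
      have h₁ : (θ ≫ pr₁) ≫ f = ξ₀ ≫ f := by rw [Category.assoc, w, ← Category.assoc, hθ, hξ]
      rw [cmpAt_mapA f pr₁ pr₂ w φ θ (ξ₁ := θ ≫ pr₁) rfl hθ h₁ hξ, cmpAt_mapB]
      let a := hsq.lift ξ₀ (θ ≫ pr₁) h₁.symm
      let c := hsq.lift ξ₀ ξ hξ.symm
      have ra := hp a (θ ≫ pr₁) (hsq.lift_fst _ _ _) (hsq.lift_snd _ _ _) h₁
      have rc := hp c ξ (hsq.lift_fst _ _ _) (hsq.lift_snd _ _ _) hξ
      obtain ⟨z, hz⟩ := (pullAt_bijective pr₂ θ ξ hθ F').2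
        ((SetStalk.stalkSh θ).map φ.hom (pullAt pr₁ θ _ rfl F' (SetPush.cmpAt f (θ ≫ pr₁) h₁ F' p)))
      have rz := htrans L a θ c _ _ _ (hsq.lift_fst _ _ _) (hsq.lift_snd _ _ _) rfl hθ
        (hsq.lift_fst _ _ _) (hsq.lift_snd _ _ _) q _ z ra hz.symm
      unfold Rel at rz rc
      rw [rc] at rz
      rw [(pullAt_bijective pr₂ c ξ (hsq.lift_snd _ _ _) F').1 rz]
      exact hz.symm
    obtain ⟨V, v, s, rfl⟩ := SetStalk.exists_germ_eq _ _ p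
    rw [SetStalk.germ_naturality, SetStalk.germ_naturality, SetStalk.germ_eq_iff] at hab
    obtain ⟨V', k, v', hv', hk⟩ := hab
    rw [← NatTrans.naturality_apply, ← NatTrans.naturality_apply] at hk
    obtain ⟨s', hs'⟩ := exists_incl_eq f pr₁ pr₂ w φ V' _ hk
    refine ⟨SetStalk.germ _ _ V' v' s', ?_⟩
    let a := hsq.lift ξ₀ ξ₀ rfl
    have hd := hp a ξ₀ (hsq.lift_fst _ _ _) (hsq.lift_snd _ _ _) rfl
    have e : (SetStalk.stalkSh (ξ₀ ≫ f)).map (incl f pr₁ pr₂ w φ) (SetStalk.germ _ _ V' v' s') =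
        SetStalk.germ (ξ₀ ≫ f) _ V v s := by
      rw [SetStalk.germ_naturality, hs', SetStalk.germ_res, hv']
    simp only
    rw [e]
    -- reflexivity of the relation
    have rr := htrans L a a a _ _ _ (hsq.lift_fst _ _ _) (hsq.lift_snd _ _ _) (hsq.lift_fst _ _ _)
      (hsq.lift_snd _ _ _) (hsq.lift_fst _ _ _) (hsq.lift_snd _ _ _) q
      (SetPush.cmpAt f ξ₀ rfl F' (SetStalk.germ (ξ₀ ≫ f) _ V v s))
    obtain ⟨z, hz⟩ := (pullAt_bijective pr₂ a ξ₀ (hsq.lift_snd _ _ _) F').2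
      ((SetStalk.stalkSh a).map φ.hom (pullAt pr₁ a ξ₀ (hsq.lift_fst _ _ _) F'
        (SetPush.cmpAt f ξ₀ rfl F' (SetStalk.germ (ξ₀ ≫ f) _ V v s))))
    have r2 := rr z hd hz.symm
    unfold Rel at hd r2
    rw [hd] at r2
    obtain rfl := (pullAt_bijective pr₂ a ξ₀ (hsq.lift_snd _ _ _) F').1 r2
    have hinj : Function.Injective ((SetStalk.stalkSh a).map φ.hom) :=
      ((SetStalk.stalkSh a).mapIso φ).toEquiv.injective
    exact (pullAt_bijective pr₁ a ξ₀ (hsq.lift_fst _ _ _) F').1 (hinj (hz.symm.trans hd.symm))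

include hsq htrans in
theorem bijective_stalk_desc_proper (w : pr₁ ≫ f = pr₂ ≫ f) :
    Function.Bijective ((SetStalk.stalkSh ξ₀).map (desc f pr₁ pr₂ w φ)) := by
  rw [← Function.Bijective.of_comp_iff _ (pullAt_bijective f ξ₀ _ rfl _)]
  have : ((SetStalk.stalkSh ξ₀).map (desc f pr₁ pr₂ w φ)) ∘ pullAt f ξ₀ _ rfl (sheaf f pr₁ pr₂ w φ) =
      fun p => SetPush.cmpAt f ξ₀ rfl F' ((SetStalk.stalkSh (ξ₀ ≫ f)).map (incl f pr₁ pr₂ w φ) p) :=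
    funext fun p => stalk_desc f pr₁ pr₂ w φ ξ₀ p
  rw [this]
  exact bijective_cmp_incl_proper φ hsq htrans ξ₀ w

end AlgClosed

section Main

variable {f pr₁ pr₂} (hsq : IsPullback pr₁ pr₂ f f) [IsProper f]
  (htrans : ∀ (L : Type u) [Field L] [IsAlgClosed L] (a b c : Spec (CommRingCat.of L) ⟶ T)
    (ξ ζ ρ : Spec (CommRingCat.of L) ⟶ X') (a₁ : a ≫ pr₁ = ξ) (a₂ : a ≫ pr₂ = ζ) (b₁ : b ≫ pr₁ = ζ)
    (b₂ : b ≫ pr₂ = ρ) (c₁ : c ≫ pr₁ = ξ) (c₂ : c ≫ pr₂ = ρ)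
    (x : (SetStalk.stalkSh ξ).obj F') (y : (SetStalk.stalkSh ζ).obj F') (z : (SetStalk.stalkSh ρ).obj F'),
    Rel pr₁ pr₂ φ a ξ ζ a₁ a₂ x y → Rel pr₁ pr₂ φ b ζ ρ b₁ b₂ y z → Rel pr₁ pr₂ φ c ξ ρ c₁ c₂ x z)

include hsq htrans in
theorem exists_desc_proper (w : pr₁ ≫ f = pr₂ ≫ f) :
    ∃ (F : EtDesc.Sh X) (ψ : (EtDesc.pullSh f).obj F ≅ F'),
      (canT f pr₁ pr₂ w F).hom ≫ (EtDesc.pullSh pr₂).map ψ.hom =
        (EtDesc.pullSh pr₁).map ψ.hom ≫ φ.hom := by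
  have : IsIso (desc f pr₁ pr₂ w φ) := by
    refine SetStalk.isIso_of_stalk _ fun Ω _ _ η₀ => ?_
    let K := AlgebraicClosure Ω
    let σ : Spec (CommRingCat.of K) ⟶ Spec (CommRingCat.of Ω) :=
      Spec.map (CommRingCat.ofHom (algebraMap Ω K))
    rw [← ConcreteCategory.isIso_iff_bijective]
    refine (NatIso.isIso_map_iff (sheafFiberIsoOfPointIso (A := Type (u + 1)) (pointExtIso σ η₀)) _).2 ?_
    exact (ConcreteCategory.isIso_iff_bijective _).2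
      (bijective_stalk_desc_proper φ hsq htrans (σ ≫ η₀) w)
  exact ⟨_, asIso (desc f pr₁ pr₂ w φ), desc_compat f pr₁ pr₂ w φ⟩

end Main

end Groth.Agent.DescSh.Eff
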