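import Groth.Agent.DescSh.Square
import Groth.Agent.EtaleSite.SetPushFiber

/-!
Inverse images of sheaves of sets on stalks, without casts.
-/

set_option autoImplicit false
set_option linter.style.haveILetI false
set_option backward.isDefEq.respectTransparency.types false

universe u

open CategoryTheory CategoryTheory.Limits AlgebraicGeometry Opposite
open Groth.Agent.EtaleSite

namespace Groth.Agent.DescSh

variable {T S X : Scheme.{u}} {Ω : Type u} [Field Ω] [IsSepClosed Ω]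

/-- The stalk of `G` at `ζ` as stalk of `g⁻¹G` at a point `t` above. -/
noncomputable def pullAt (g : T ⟶ S) (t : Spec (CommRingCat.of Ω) ⟶ T)
    (ζ : Spec (CommRingCat.of Ω) ⟶ S) (e : t ≫ g = ζ) (G : EtDesc.Sh S) :
    (SetStalk.stalkSh ζ).obj G ⟶ (SetStalk.stalkSh t).obj ((EtDesc.pullSh g).obj G) :=
  eqToHom (by rw [e]) ≫ (SetStalk.stalkPullShIso g t).inv.app G

theorem pullAt_rfl (g : T ⟶ S) (t : Spec (CommRingCat.of Ω) ⟶ T) (G : EtDesc.Sh S)
    (x : (SetStalk.stalkSh (t ≫ g)).obj G) :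
    pullAt g t _ rfl G x = (SetStalk.stalkPullShIso g t).inv.app G x := rfl

theorem pullAt_germ (g : T ⟶ S) (t : Spec (CommRingCat.of Ω) ⟶ T)
    (ζ : Spec (CommRingCat.of Ω) ⟶ S) (e : t ≫ g = ζ) (G : EtDesc.Sh S) (V : S.Etale)
    (v : (Scheme.pointSmallEtale ζ).fiber.obj V) (s : G.obj.obj (op V)) :
    pullAt g t ζ e G (SetStalk.germ ζ G V v s) =
      SetStalk.germ t ((EtDesc.pullSh g).obj G) ((EtCoh.bc g).obj V) (bcPt g t e V v) (secUp g G s) := by
  subst e
  exact SetPush.germ_stalkPullShIso_inv g t G V v s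

theorem pullAt_bijective (g : T ⟶ S) (t : Spec (CommRingCat.of Ω) ⟶ T)
    (ζ : Spec (CommRingCat.of Ω) ⟶ S) (e : t ≫ g = ζ) (G : EtDesc.Sh S) :
    Function.Bijective (pullAt g t ζ e G) := by
  subst e
  exact ((SetStalk.stalkPullShIso g t).app G).symm.toEquiv.bijective

theorem pullAt_map (g : T ⟶ S) (t : Spec (CommRingCat.of Ω) ⟶ T)
    (ζ : Spec (CommRingCat.of Ω) ⟶ S) (e : t ≫ g = ζ) {G G' : EtDesc.Sh S} (m : G ⟶ G')
    (x : (SetStalk.stalkSh ζ).obj G) :
    (SetStalk.stalkSh t).map ((EtDesc.pullSh g).map m) (pullAt g t ζ e G x) =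
      pullAt g t ζ e G' ((SetStalk.stalkSh ζ).map m x) := by
  obtain ⟨V, v, s, rfl⟩ := SetStalk.exists_germ_eq ζ G x
  rw [pullAt_germ, SetStalk.germ_naturality, SetStalk.germ_naturality, pullAt_germ, secUp_map]

theorem pullAt_pullVia (g : T ⟶ S) (a : S ⟶ X) (b : T ⟶ X) (w : g ≫ a = b) (G : EtDesc.Sh X)
    (t : Spec (CommRingCat.of Ω) ⟶ T) (ζ₁ : Spec (CommRingCat.of Ω) ⟶ S) (e₁ : t ≫ g = ζ₁)
    (ζ : Spec (CommRingCat.of Ω) ⟶ X) (e₂ : ζ₁ ≫ a = ζ) (e₃ : t ≫ b = ζ)
    (x : (SetStalk.stalkSh ζ).obj G) :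
    (SetStalk.stalkSh t).map (EtDesc.pullVia g a b w G).hom
        (pullAt g t ζ₁ e₁ _ (pullAt a ζ₁ ζ e₂ G x)) = pullAt b t ζ e₃ G x := by
  obtain ⟨V, v, s, rfl⟩ := SetStalk.exists_germ_eq ζ G x
  rw [pullAt_germ, pullAt_germ, pullAt_germ, SetStalk.germ_naturality]
  let κ : (EtCoh.bc g).obj ((EtCoh.bc a).obj V) ⟶ (EtCoh.bc b).obj V :=
    MorphismProperty.Over.homMk
      (pullback.lift (pullback.fst ((EtCoh.bc a).obj V).hom g ≫ pullback.fst V.hom a)
        ((EtCoh.bc g).obj ((EtCoh.bc a).obj V)).hom (by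
          have c : pullback.fst ((EtCoh.bc a).obj V).hom g ≫ pullback.snd V.hom a =
              ((EtCoh.bc g).obj ((EtCoh.bc a).obj V)).hom ≫ g := pullback.condition
          rw [← w]
          exact (Category.assoc _ _ _).trans ((congrArg (_ ≫ ·) pullback.condition).trans
            ((Category.assoc _ _ _).symm.trans ((congrArg (· ≫ a) c).trans (Category.assoc _ _ _))))))
      (pullback.lift_snd _ _ _) trivial
  refine (congrArg (SetStalk.germ t _ _ _) (secUp_pullVia g a b w G s κ (pullback.lift_fst _ _ _))).trans ?_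
  rw [SetStalk.germ_res]
  refine congrArg (fun z => SetStalk.germ t _ _ z (secUp b G s)) (Over.OverMorphism.ext (pullback.hom_ext ?_ ?_))
  · refine (Category.assoc _ _ _).trans ((congrArg (_ ≫ ·) (pullback.lift_fst _ _ _)).trans ?_)
    exact ((Category.assoc _ _ _).symm.trans ((congrArg (· ≫ pullback.fst V.hom a) (pullback.lift_fst _ _ _)).trans
      (pullback.lift_fst _ _ _))).trans (pullback.lift_fst _ _ _).symm
  · refine (Category.assoc _ _ _).trans ((congrArg (_ ≫ ·) (pullback.lift_snd _ _ _)).trans ?_)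
    exact (pullback.lift_snd _ _ _).trans (pullback.lift_snd _ _ _).symm

theorem cmpAt_map_homEquiv (g : T ⟶ S) {A : EtDesc.Sh S} {B : EtDesc.Sh T}
    (ψ : (EtDesc.pullSh g).obj A ⟶ B) (t : Spec (CommRingCat.of Ω) ⟶ T)
    (ζ : Spec (CommRingCat.of Ω) ⟶ S) (e : t ≫ g = ζ) (x : (SetStalk.stalkSh ζ).obj A) :
    SetPush.cmpAt g t e B ((SetStalk.stalkSh ζ).map ((EtDesc.adjSh g).homEquiv A B ψ) x) =
      (SetStalk.stalkSh t).map ψ (pullAt g t ζ e A x) := by
  obtain ⟨V, v, s, rfl⟩ := SetStalk.exists_germ_eq ζ A x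
  rw [SetStalk.germ_naturality, SetPush.cmpAt_germ, pullAt_germ, SetStalk.germ_naturality, homEquiv_app]

end Groth.Agent.DescSh

namespace Groth.Agent.DescSh

/-- Equality of two morphisms may be checked after restriction along a retraction. -/
theorem app_eq_of_app_res_eq {Y : Scheme.{u}} {A N : EtDesc.Sh Y} (a b : A ⟶ N) {P Q : Y.Etale}
    (i : Q ⟶ P) (r : P ⟶ Q) (h : i ≫ r = 𝟙 Q) (y : A.obj.obj (op Q))
    (e : a.hom.app (op P) (A.obj.map r.op y) = b.hom.app (op P) (A.obj.map r.op y)) :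
    a.hom.app (op Q) y = b.hom.app (op Q) y := by
  have hy : A.obj.map i.op (A.obj.map r.op y) = y := by
    rw [← map_comp_op, h, op_id, CategoryTheory.Functor.map_id]
    rfl
  exact ((congrArg (a.hom.app (op Q)) hy).symm.trans (NatTrans.naturality_apply a.hom i.op _)).trans
    ((congrArg (N.obj.map i.op) e).trans
      ((NatTrans.naturality_apply b.hom i.op _).symm.trans (congrArg (b.hom.app (op Q)) hy)))

end Groth.Agent.DescSh
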